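import Cfsg.Agent.Lib.Invol.Strong

/-!
A subgroup with two classes of involutions containing the centralizer of one of them, the
centralizer of the pairs of the other class being inside, is the whole group.
-/

set_option autoImplicit false

namespace CfsgLib.Recog.Co3Inv

variable {G : Type*} [Group G] [Finite G]

open CfsgLib.Invol

omit [Finite G] in
theorem sq_eq_one {x : G} (hx : orderOf x = 2) : x * x = 1 := by
  rw [← pow_two, ← hx]; exact pow_orderOf_eq_one x

/-- Strong embedding from the control of the conjugates of involutions. -/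
theorem stronglyEmbedded_of_control {H : Subgroup G} (hne : H ≠ ⊤) {u : G} (hu : u ∈ H)
    (hu2 : orderOf u = 2)
    (hctl : ∀ x ∈ H, orderOf x = 2 → ∀ g : G, g * x * g⁻¹ ∈ H → g ∈ H) :
    Cfsg.IsStronglyEmbedded H := by
  refine ⟨hne, CfsgLib.Invol.even_card_of_invol_mem hu2 hu, fun g hg => Nat.not_even_iff_odd.1 fun heven => hg ?_⟩
  have : Fact (Nat.Prime 2) := ⟨Nat.prime_two⟩
  obtain ⟨x', hx'⟩ := exists_prime_orderOf_dvd_card' 2 (even_iff_two_dvd.1 heven)
  rw [← Subgroup.orderOf_coe] at hx'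
  obtain ⟨x, hxH, hxg⟩ := x'
  have hx : orderOf x = 2 := hx'
  obtain ⟨y, hy, rfl⟩ := hxg
  have hy2 : orderOf y = 2 := by
    rw [← hx, MulEquiv.toMonoidHom_eq_coe, MonoidHom.coe_coe, MulEquiv.orderOf_eq]
  exact hctl y hy hy2 g hxH

/-- The facts about the subgroup. -/
structure Embedded (G0 : Subgroup G) (t s : G) : Prop where
  ht : orderOf t = 2
  hs : orderOf s = 2
  ts : ¬ IsConj t s
  comm : Commute t s
  cent : Subgroup.centralizer ({t} : Set G) ≤ G0
  mem : s ∈ G0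
  two : ∀ x ∈ G0, orderOf x = 2 →
    (∃ h ∈ G0, h * t * h⁻¹ = x) ∨ ∃ h ∈ G0, h * s * h⁻¹ = x
  prod : ∀ x ∈ G0, ∀ y ∈ G0, IsConj t x → IsConj t y → Commute x y → x ≠ y → IsConj t (x * y)
  not_sq : ∀ z ∈ G0, z * z ≠ s
  pair : ∀ z ∈ G0, orderOf z = 2 → Commute z s → z ≠ s → ¬ IsConj t z → ¬ IsConj t (z * s) →
    (∃ x ∈ G0, IsConj t x ∧ Commute x s ∧ Commute x z) ∧
      ∀ g : G, Commute g s → Commute g z → g ∈ G0
  exists_pair : ∃ z ∈ G0, orderOf z = 2 ∧ Commute z s ∧ z ≠ s ∧ ¬ IsConj t z ∧ ¬ IsConj t (z * s)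

namespace Embedded

variable {G0 : Subgroup G} {t s : G} (E : Embedded G0 t s)
include E

omit [Finite G] in
theorem t_mem : t ∈ G0 := E.cent (Subgroup.mem_centralizer_singleton_iff.2 rfl)

omit [Finite G] in
theorem exists_conj {x : G} (hx : x ∈ G0) (hc : IsConj t x) : ∃ h ∈ G0, h * t * h⁻¹ = x := by
  obtain ⟨a, rfl⟩ := isConj_iff.1 hc
  refine (E.two _ hx (by rw [orderOf_conj_eq, E.ht])).resolve_right ?_
  rintro ⟨h, -, e⟩
  exact E.ts ((isConj_iff.2 ⟨a, rfl⟩).trans (isConj_iff.2 ⟨h, e⟩).symm)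

theorem control_t {x g : G} (hx : x ∈ G0) (hc : IsConj t x) (hg : g * x * g⁻¹ ∈ G0) : g ∈ G0 := by
  obtain ⟨a, ha, rfl⟩ := E.exists_conj hx hc
  obtain ⟨b, hb, e⟩ := E.exists_conj hg (hc.trans (isConj_iff.2 ⟨g, rfl⟩))
  have hm : b⁻¹ * g * a ∈ G0 := E.cent (Subgroup.mem_centralizer_singleton_iff.2 (by
    calc b⁻¹ * g * a * t = b⁻¹ * (g * (a * t * a⁻¹) * g⁻¹) * (g * a) := by group
      _ = b⁻¹ * (b * t * b⁻¹) * (g * a) := by rw [e]
      _ = t * (b⁻¹ * g * a) := by group))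
  have := mul_mem (mul_mem hb hm) (inv_mem ha)
  rwa [show b * (b⁻¹ * g * a) * a⁻¹ = g by group] at this

omit [Finite G] in
theorem ss : s * s = 1 := by
  rw [← pow_two, ← E.hs]; exact pow_orderOf_eq_one s

/-- Conjugation modulo `s` of the involutions modulo `s` is controlled. -/
theorem control_s {z g : G} (hz : z ∈ G0) (hzs : Commute z s) (hz1 : z ≠ 1) (hzne : z ≠ s)
    (hzz : z * z = 1 ∨ z * z = s) (hg : Commute g s)
    (hgz : g * z * g⁻¹ ∈ G0 ∨ g * z * g⁻¹ * s ∈ G0) : g ∈ G0 := by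
  have hw : g * z * g⁻¹ ∈ G0 := hgz.elim id fun h => by
    have := mul_mem h E.mem
    rwa [mul_assoc _ s s, E.ss, mul_one] at this
  have hzz : z * z = 1 := hzz.resolve_right (E.not_sq z hz)
  have hz2 : orderOf z = 2 := orderOf_eq_prime (by rw [pow_two, hzz]) hz1
  have hgs : g * s * g⁻¹ = s := by rw [hg.eq, mul_inv_cancel_right]
  by_cases h1 : IsConj t z
  · exact E.control_t hz h1 hw
  by_cases h2 : IsConj t (z * s)
  · refine E.control_t (mul_mem hz E.mem) h2 ?_
    rw [show g * (z * s) * g⁻¹ = g * z * g⁻¹ * (g * s * g⁻¹) by group, hgs]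
    exact mul_mem hw E.mem
  obtain ⟨⟨x, hx, hxt, hxs, hxz⟩, -⟩ := E.pair z hz hz2 hzs hzne h1 h2
  have hwn : g * z * g⁻¹ ≠ s := fun e => hzne (by
    calc z = g⁻¹ * (g * z * g⁻¹) * g := by group
      _ = g⁻¹ * (g * s * g⁻¹) * g := by rw [e, hgs]
      _ = s := by group)
  have hws : Commute (g * z * g⁻¹) s := by
    have h := hzs.map (MulAut.conj g).toMonoidHom
    simpa [hgs] using h
  obtain ⟨-, hall⟩ := E.pair _ hw (by rw [orderOf_conj_eq, hz2]) hws hwn
    (fun h => h1 (h.trans (isConj_iff.2 ⟨g⁻¹, by group⟩)))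
    (fun h => h2 (h.trans (isConj_iff.2 ⟨g⁻¹, by
      calc g⁻¹ * (g * z * g⁻¹ * s) * g⁻¹⁻¹ = z * (g⁻¹ * (g * s * g⁻¹) * g) := by rw [hgs]; group
        _ = z * s := by group⟩)))
  have hy1 : Commute (g * x * g⁻¹) s := by
    have h := hxs.map (MulAut.conj g).toMonoidHom
    simpa [hgs] using h
  have hy2 : Commute (g * x * g⁻¹) (g * z * g⁻¹) := by
    simpa using hxz.map (MulAut.conj g).toMonoidHom
  exact E.control_t hx hxt (hall _ hy1 hy2)

/-- The centralizer of the second involution is inside. -/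
theorem cent_s : Subgroup.centralizer ({s} : Set G) ≤ G0 := by
  set K := Subgroup.centralizer ({s} : Set G) with hK
  let sK : K := ⟨s, Subgroup.mem_centralizer_singleton_iff.2 rfl⟩
  let N : Subgroup K := Subgroup.zpowers sK
  have hN : ∀ x : K, x ∈ N ↔ (x : G) = 1 ∨ (x : G) = s := by
    intro x
    constructor
    · intro hx
      obtain ⟨n, rfl⟩ := Subgroup.mem_zpowers_iff.1 hx
      rcases Int.even_or_odd' n with ⟨k, rfl | rfl⟩
      · left
        simp [sK, zpow_mul, pow_two, E.ss]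
      · right
        simp [sK, zpow_add, zpow_mul, pow_two, E.ss]
    · rintro (h | h)
      · rw [show x = 1 from Subtype.ext h]; exact one_mem _
      · rw [show x = sK from Subtype.ext h]; exact Subgroup.mem_zpowers _
  have hNn : N.Normal := by
    refine ⟨fun n hn g => ?_⟩
    have hg : (g : G) * s = s * g := Subgroup.mem_centralizer_singleton_iff.1 g.2
    rw [hN]
    rcases (hN n).1 hn with h | h
    · left; simp [h]
    · right; simp [h, hg]
  let π : K →* K ⧸ N := QuotientGroup.mk' N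
  let H : Subgroup (K ⧸ N) := (G0.subgroupOf K).map π
  have hmem : ∀ x : K, π x ∈ H ↔ (x : G) ∈ G0 := by
    intro x
    constructor
    · rintro ⟨y, hy, e⟩
      have hd : y⁻¹ * x ∈ N := QuotientGroup.eq.1 e
      have hy' : (y : G) ∈ G0 := hy
      have : ((y⁻¹ * x : K) : G) ∈ G0 := by
        rcases (hN _).1 hd with h | h <;> rw [h]
        · exact one_mem _
        · exact E.mem
      have := mul_mem hy' this
      simpa using this
    · exact fun h => ⟨x, h, rfl⟩
  intro g0 hg0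
  by_contra hg0G
  have hne : H ≠ ⊤ := fun e => hg0G ((hmem ⟨g0, hg0⟩).1 (by rw [e]; trivial))
  let tK : K := ⟨t, Subgroup.mem_centralizer_singleton_iff.2 E.comm⟩
  have horder : ∀ x : K, (x : G) ≠ 1 → (x : G) ≠ s → ((x : G) * x = 1 ∨ (x : G) * x = s) →
      orderOf (π x) = 2 := by
    intro x h1 h2 h3
    refine orderOf_eq_prime ?_ fun e => ?_
    · rw [pow_two, ← map_mul]
      exact (QuotientGroup.eq_one_iff _).2 ((hN _).2 h3)
    · rcases (hN x).1 ((QuotientGroup.eq_one_iff _).1 e) with h | h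
      exacts [h1 h, h2 h]
  have ht1 : t ≠ 1 := fun e => by
    have := E.ht; rw [e, orderOf_one] at this; norm_num at this
  have hts : t ≠ s := fun e => E.ts (e ▸ IsConj.refl t)
  have htt : t * t = 1 := by rw [← pow_two, ← E.ht]; exact pow_orderOf_eq_one t
  have ht2 : orderOf (π tK) = 2 := horder tK ht1 hts (Or.inl htt)
  have hse : Cfsg.IsStronglyEmbedded H := by
    refine stronglyEmbedded_of_control hne ((hmem tK).2 E.t_mem) ht2 fun a ha ha2 b hb => ?_
    obtain ⟨z, rfl⟩ := QuotientGroup.mk'_surjective N a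
    obtain ⟨g, rfl⟩ := QuotientGroup.mk'_surjective N b
    rw [← map_inv, ← map_mul, ← map_mul, hmem] at hb
    have hzN : z ∉ N := fun h => by
      rw [show π z = 1 from (QuotientGroup.eq_one_iff z).2 h, orderOf_one] at ha2
      norm_num at ha2
    have hzz : z * z ∈ N := (QuotientGroup.eq_one_iff _).1 (by
      show π (z * z) = 1
      rw [map_mul, ← pow_two, ← ha2]; exact pow_orderOf_eq_one _)
    exact (hmem g).2 (E.control_s ((hmem z).1 ha) (Subgroup.mem_centralizer_singleton_iff.1 z.2)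
      (fun e => hzN ((hN z).2 (Or.inl e))) (fun e => hzN ((hN z).2 (Or.inr e)))
      (by simpa using (hN _).1 hzz) (Subgroup.mem_centralizer_singleton_iff.1 g.2)
      (Or.inl (by simpa using hb)))
  obtain ⟨z, hz, hz2, hzs, hzne, hz1, hz1'⟩ := E.exists_pair
  let zK : K := ⟨z, Subgroup.mem_centralizer_singleton_iff.2 hzs⟩
  have hz' : z ≠ 1 := fun e => by rw [e, orderOf_one] at hz2; norm_num at hz2
  have := CfsgLib.Invol.se_isConj hse ht2 (horder zK hz' hzne (Or.inl (sq_eq_one hz2)))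
  obtain ⟨b, hb⟩ := isConj_iff.1 this
  obtain ⟨g, rfl⟩ := QuotientGroup.mk'_surjective N b
  rw [← map_inv, ← map_mul, ← map_mul] at hb
  have hd : (g * tK * g⁻¹)⁻¹ * zK ∈ N := QuotientGroup.eq.1 hb
  rcases (hN _).1 hd with h | h
  · refine hz1 (isConj_iff.2 ⟨g, ?_⟩)
    exact (inv_mul_eq_one.1 (by simpa [tK, zK, mul_assoc] using h))
  · refine hz1' (isConj_iff.2 ⟨g, ?_⟩)
    have e : ((g * tK * g⁻¹ : K) : G) = z * s⁻¹ := by
      have h' : (g * tK * g⁻¹ : K).1⁻¹ * z = s := by simpa [zK] using h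
      rw [← h']; group
    rw [inv_eq_of_mul_eq_one_right E.ss] at e
    simpa [tK] using e

/-- The subgroup is everything. -/
theorem eq_top : G0 = ⊤ := by
  by_contra hne
  refine E.ts (CfsgLib.Invol.se_isConj (stronglyEmbedded_of_control hne E.t_mem E.ht ?_) E.ht E.hs)
  intro x hx hx2 g hg
  rcases E.two x hx hx2 with ⟨h, hh, rfl⟩ | ⟨h, hh, rfl⟩
  · exact E.control_t hx (isConj_iff.2 ⟨h, rfl⟩) hg
  rcases E.two _ hg (by rw [orderOf_conj_eq, hx2]) with ⟨k, hk, e⟩ | ⟨k, hk, e⟩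
  · exact absurd ((isConj_iff.2 ⟨k, e⟩).trans
      ((isConj_iff.2 ⟨g, rfl⟩).symm.trans (isConj_iff.2 ⟨h, rfl⟩).symm)) E.ts
  have hm : k⁻¹ * g * h ∈ G0 := E.cent_s (Subgroup.mem_centralizer_singleton_iff.2 (by
    calc k⁻¹ * g * h * s = k⁻¹ * (g * (h * s * h⁻¹) * g⁻¹) * (g * h) := by group
      _ = k⁻¹ * (k * s * k⁻¹) * (g * h) := by rw [e]
      _ = s * (k⁻¹ * g * h) := by group))
  have := mul_mem (mul_mem hk hm) (inv_mem hh)
  rwa [show k * (k⁻¹ * g * h) * h⁻¹ = g by group] at this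

end Embedded

end CfsgLib.Recog.Co3Inv
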