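import Cfsg.Agent.Lib.Recog.Co3Inv.Spec

/-!
The recognition of the third Conway group from the statements of the steps.
-/

set_option autoImplicit false
set_option maxRecDepth 100000

namespace CfsgLib.Recog.Co3Inv

/-- The recognition theorem from its steps. -/
theorem iso_of_steps {G : Type*} [Group G] (t : G) (ht : orderOf t = 2)
    (hC : Cfsg.IsNonsplitDoubleCover (Subgroup.centralizer ({t} : Set G))
      (Matrix.symplecticGroup (Fin 3) (ZMod 2)))
    (hcover : CoverStmt (Subgroup.centralizer ({t} : Set G))) (hmodel : ModelStmt)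
    (hlocal : ∀ A : Amb G, A.t = t → A.LocalStmt) (hembed : ∀ (A : Amb G) (O : A.Outer), A.EmbedStmt O)
    (hextend : ∀ (A : Amb G) (O : A.Outer), A.EmbedStmt O → A.ExtendStmt)
    (htop : ∀ A : Amb G, A.t = t → A.TopStmt) : Cfsg.Spor.IsoCo3 G := by
  let tc : Subgroup.centralizer ({t} : Set G) := ⟨t, Subgroup.mem_centralizer_singleton_iff.2 rfl⟩
  have htc : tc ∈ Subgroup.center (Subgroup.centralizer ({t} : Set G)) :=
    Subgroup.mem_center_iff.2 fun x => Subtype.ext (Subgroup.mem_centralizer_singleton_iff.1 x.2)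
  have htne : tc ≠ 1 := fun e => by
    rw [show t = 1 from congrArg Subtype.val e, orderOf_one] at ht
    norm_num at ht
  obtain ⟨e, he⟩ := hcover hC tc htc htne
  let A : Amb G :=
    { φ := (Subgroup.centralizer ({t} : Set G)).subtype.comp e.toMonoidHom
      inj := Subtype.val_injective.comp e.injective
      t := t
      t_eq := congrArg Subtype.val he
      cent := fun x hx => ⟨e.symm ⟨x, Subgroup.mem_centralizer_singleton_iff.2 hx⟩, by simp⟩ }
  obtain ⟨⟨O⟩, hs⟩ := hlocal A rfl
  obtain ⟨ρ, hρ, hρc⟩ := hextend A O (hembed A O)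
  have hr := htop A rfl ρ hρ hρc hs
  obtain ⟨m⟩ := hmodel
  exact ⟨((MonoidHom.ofInjective hρ).trans
    ((MulEquiv.subgroupCongr hr).trans Subgroup.topEquiv)).symm.trans m⟩

end CfsgLib.Recog.Co3Inv
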