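import Mathlib.Data.Nat.Notation

/-!
The cosets of the stabiliser of the last point in the centralizer, over the eight-letter words: transporters in the
first seven letters, a two-generated subgroup mapped into the first seven letters by the letter `9`, its
three double cosets, and the normalisation by the letter `8`.
-/

set_option autoImplicit false

namespace CfsgLib.Recog.Co3Inv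

/-- Transporters of the image of the last point under the letter `9`. -/
def trW : List (List ℕ) := [[], [2], [3], [4], [5], [3, 2], [4, 2], [6, 2], [1, 3], [4, 3], [6, 3], [3, 4], [1, 3, 2], [6, 3, 2], [0, 4, 2], [3, 6, 2], [4, 1, 3], [6, 1, 3], [5, 4, 3], [6, 4, 3], [0, 6, 3], [2, 6, 3], [3, 6, 3], [4, 6, 3], [0, 3, 4], [0, 6, 3, 2], [2, 6, 3, 2], [3, 6, 3, 2], [1, 3, 6, 2], [6, 3, 6, 2], [0, 6, 1, 3], [3, 6, 1, 3], [0, 6, 4, 3], [2, 0, 6, 3], [2, 0, 6, 3, 2]]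

/-- Generators of a subgroup fixing that image. -/
def hW : List (List ℕ) := [[6, 0, 1], [1, 6, 3, 0, 5, 3]]

/-- Their conjugates under the letter `9`. -/
def hImW : List (List ℕ) := [[1, 2, 5, 2, 6, 0], [0, 1, 5, 2, 3, 0, 5, 6]]

/-- A letter times a transporter is a transporter times a word in the generators of the subgroup. -/
def trStep : List (List (ℕ × List ℕ)) := [[(0, [0, 0, 0, 0, 1, 1, 0, 0, 0, 0, 1]), (0, [0, 1, 0, 1, 1, 0, 0, 0, 1]), (1, []), (2, []), (3, []), (4, []), (0, [1, 0, 1, 0, 0, 1, 1, 1, 0])], [(1, [1, 0, 1, 0]), (1, [0, 1, 0, 1, 0, 0, 0, 1, 0, 0, 0, 1]), (0, []), (5, []), (6, []), (1, [0, 0, 1, 0, 1, 0, 0, 0, 0, 0]), (7, [])], [(2, [0, 0, 0, 1, 0, 1, 0, 0, 0, 0]), (8, []), (2, [0, 0, 1, 1, 0, 0, 1, 0, 1, 1,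 1]), (0, []), (9, []), (2, [1, 0, 0, 0, 1, 1, 1, 1, 1]), (10, [])], [(7, [1, 0, 0, 0, 0, 0, 1, 0, 1, 1, 1, 0]), (3, [1, 0, 1, 0, 0, 0, 0, 1, 0, 1, 0]), (6, []), (11, []), (0, []), (7, [0, 1, 0, 0, 0, 1, 0, 0, 0, 0, 0]), (3, [0, 0, 0, 0, 0, 1, 0, 1, 0, 0])], [(4, [0, 0, 0, 0, 1, 1, 0, 0, 0, 0, 1]), (4, [0, 1, 0, 1, 1, 0, 0, 0, 1]), (4, [0, 0, 1, 0, 1, 0, 0, 0, 0, 0]), (4, [1, 0, 0, 0, 1, 1, 1, 1, 1]), (4, [0, 0, 0, 0, 1, 0, 1, 1, 0, 0, 1, 1, 0]), (0, []), (6, [1, 0, 0, 1, 1, 0, 0, 1, 0, 1])], [(5, [0, 0, 1, 0, 1, 0, 0, 1, 1, 1, 0]), (12, []), (5, [0, 0, 1, 1, 0, 0, 1, 0, 1, 1, 1]), (1, []), (11, [0, 1, 0, 1, 0, 0, 0, 0, 1, 0, 1]), (12, [0, 1, 1, 1, 0, 0, 1, 0, 0, 0, 0]), (13, [])], [(14, []), (6, [0, 1, 1, 0, 0, 0, 0, 0, 1, 1]), (3,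 []), (9, [0, 1, 0, 1, 0, 0, 0, 0, 1, 0, 1]), (1, []), (6, [0, 1, 1, 1, 1, 0, 0, 0, 0, 0, 1]), (4, [0, 1, 1, 0, 0, 0, 0, 1, 0, 0])], [(3, [0, 0, 0, 0, 1, 0, 1, 1, 0, 0, 1, 1]), (7, [0, 1, 0, 1, 0, 0, 0, 0, 1, 0, 1]), (7, [0, 1, 0, 1, 0, 0, 1, 1, 1, 0, 0]), (15, []), (7, [1, 1, 1]), (3, [1, 1, 0, 0, 1, 1, 1, 1, 0]), (1, [])], [(8, [0, 0, 1, 0, 0, 0, 0, 1, 0, 1, 1, 0]), (2, []), (12, [0, 1, 0, 1, 0, 0, 0, 0, 1, 0, 1]), (8, [0, 1, 0, 1, 1, 0, 0, 0, 1]), (16, []), (8, [1, 0, 0, 0, 1, 1, 1, 1, 1]), (17, [])], [(15, [1, 0, 0, 0, 1, 0, 0]), (16, [0, 0, 1, 1, 0, 0, 1, 1, 0, 0, 1, 1]), (9, [0, 0, 1, 1, 0, 0, 1, 0, 1, 1, 1]), (6, [0, 1, 0, 1, 0, 0, 0, 0, 1, 0, 1]), (2, []), (18, []), (19, [])], [(20, []), (13, [0, 0, 1, 1, 0, 0, 1, 1, 0, 0,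 1, 1]), (21, []), (22, []), (23, []), (11, [0, 1, 1, 1, 0, 0, 1, 0, 0, 0, 0]), (2, [])], [(24, []), (19, [1, 1, 0, 0, 1, 1, 0, 0, 0, 0]), (11, [0, 0, 1, 1, 0, 0, 1, 0, 1, 1, 1]), (3, []), (5, [0, 1, 0, 1, 0, 0, 0, 0, 1, 0, 1]), (10, [0, 1, 1, 1, 0, 0, 1, 0, 0, 0, 0]), (11, [0, 1, 1, 1, 0, 0, 1, 0, 0, 0, 0])], [(12, [0, 1, 0, 1, 0, 0, 1, 1, 1]), (5, []), (8, [0, 1, 0, 1, 0, 0, 0, 0, 1, 0, 1]), (12, [0, 1, 0, 1, 0, 0, 0, 1, 0, 0, 0, 1]), (19, [0, 0, 0, 1, 0, 1, 0, 1, 1]), (5, [0, 1, 1, 1, 0, 0, 1, 0, 0, 0, 0]), (18, [1, 1, 0, 0, 1, 1, 0, 0, 0, 0])], [(25, []), (10, [0, 0, 1, 1, 0, 0, 1, 1, 0, 0, 1, 1]), (26, []), (27, []), (26, [0, 1, 1, 1, 0, 0, 1, 0, 0, 0, 0]), (19, [0, 1, 0, 1, 0, 0, 0, 0, 1, 0, 1]), (5, [])], [(6, []), (14, [0,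 1, 0, 1, 0, 0, 0, 1, 0, 0, 0, 1]), (14, [0, 1, 0, 0, 0, 1, 1, 0, 0, 1, 1]), (24, [1, 1, 0, 0, 1, 0, 0, 0]), (14, [1, 0, 1, 0]), (14, [0, 1, 1, 1, 1, 0, 0, 0, 0, 0, 1]), (14, [1, 0, 1, 0, 1, 0, 0, 1, 1])], [(9, [1, 0, 0, 0, 0, 0, 1]), (28, []), (15, [0, 1, 1, 0, 0, 0, 0, 0, 1, 1]), (7, []), (15, [0, 0, 1, 0, 1, 0, 0, 0, 0, 0]), (22, [0, 0, 0, 1, 0, 0, 0, 1, 1, 1]), (29, [])], [(28, [1, 0, 0, 0, 1, 0, 0]), (9, [0, 0, 1, 1, 0, 0, 1, 1, 0, 0, 1, 1]), (19, [0, 1, 0, 0, 1, 0]), (16, [0, 1, 1, 0, 0, 0, 0, 0, 1, 1]), (8, []), (17, [0, 0, 1, 0, 0, 0, 1, 0, 1, 1]), (16, [0, 0, 0, 1, 0, 1, 0, 1, 1])], [(30, []), (18, [0, 1, 0, 0, 1, 0]), (23, [1, 0, 0, 0, 1, 1, 1, 1, 1]), (31, []), (21, [1, 0, 0, 0, 1, 1, 1, 1, 1]), (16, [1, 1, 0, 0, 1, 1, 0,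 0, 0, 0]), (8, [])], [(22, [1, 0, 0, 0, 0, 1, 0, 0, 0]), (17, [0, 0, 0, 0, 1, 1, 0, 0]), (27, [0, 0, 1, 1, 1, 0, 0, 1, 1]), (18, [0, 1, 0, 1, 0, 0, 1, 1, 1, 0, 0]), (27, [1, 0, 0, 1, 1, 0, 0, 1, 0, 1]), (9, []), (12, [0, 0, 1, 0, 0, 0, 1, 0, 1, 1])], [(32, []), (11, [0, 0, 1, 0, 0, 0, 1, 0, 1, 1]), (16, [0, 0, 0, 0, 1, 1, 0, 0]), (19, [0, 0, 1, 0, 1, 0, 1, 1, 0]), (12, [0, 0, 0, 1, 0, 1, 0, 1, 1]), (13, [0, 1, 0, 1, 0, 0, 0, 0, 1, 0, 1]), (9, [])], [(10, []), (25, []), (33, []), (20, [0, 0, 0, 0, 0, 1, 1, 1, 0]), (25, [1, 1, 0, 0, 1, 0, 0, 0]), (24, [0, 1, 1, 1, 0, 0, 1, 0, 0, 0, 0]), (20, [0, 0, 0, 1, 0, 1, 0, 0, 0, 0])], [(21, [0, 0, 1, 1, 1, 0, 0, 1, 0, 0, 0]), (27, [0, 0, 0, 1, 1, 0, 0, 0, 0, 1, 0]), (10, []), (30, [0, 1, 0, 0,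 1, 1, 1, 0, 0, 1]), (17, [1, 0, 0, 0, 1, 1, 1, 1, 1]), (21, [0, 1, 0, 1, 1, 1, 0, 0, 1, 1, 0]), (21, [0, 1, 0, 1, 0, 0, 0, 0, 1, 0, 1])], [(18, [0, 0, 0, 1, 0, 0, 0, 1, 1, 1, 0]), (30, [0, 0, 0, 0, 1, 0, 1, 1, 0, 0, 1]), (31, [0, 0, 1, 1, 0, 0, 1, 1, 0, 0, 1, 1]), (10, []), (22, [1, 0, 0, 0, 1, 1, 1, 1, 1]), (15, [0, 1, 0, 0, 0, 0, 1, 0, 0, 0]), (22, [1, 0, 1, 0, 0, 1, 1, 1, 0])], [(26, [1, 0, 0, 1, 1, 0, 0, 1, 1]), (26, [0, 1, 1, 1, 0, 0, 1, 0, 0, 0, 0]), (17, [1, 0, 0, 0, 1, 1, 1, 1, 1]), (29, [1, 0, 0, 0, 1, 0, 0, 0, 1]), (10, []), (26, [0, 0, 0, 0, 1, 1, 0, 0]), (27, [1, 0, 0, 0, 1, 0, 0, 0, 1])], [(11, []), (32, [0, 1, 0, 0, 1, 0]), (24, [0, 1, 0, 0, 1, 1, 1, 1, 1, 0]), (14, [0, 0, 0, 0, 0, 1, 0, 1, 0, 1, 1, 1]), (24, [0, 1,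 1, 0, 0, 0, 0, 1, 0, 0, 0]), (20, [0, 1, 1, 1, 0, 0, 1, 0, 0, 0, 0]), (33, [1, 0, 1, 1, 1, 0])], [(13, []), (20, []), (34, []), (33, [0, 0, 0, 0, 0, 1, 0, 0, 0, 1]), (20, [0, 0, 0, 0, 0, 1, 0, 1, 0, 1, 1, 1]), (32, [0, 1, 0, 1, 0, 0, 0, 0, 1, 0, 1]), (25, [0, 0, 1, 0, 1, 0, 0, 1, 1, 1, 0])], [(23, [1, 0, 1, 1, 0, 0, 0, 0, 1, 0, 1, 1, 1]), (23, [0, 1, 1, 1, 0, 0, 1, 0, 0, 0, 0]), (13, []), (26, [0, 0, 0, 1, 1, 0, 0, 0, 0, 1, 0]), (13, [0, 1, 1, 1, 0, 0, 1, 0, 0, 0, 0]), (23, [0, 1, 0, 0, 1, 0]), (26, [0, 1, 0, 1, 0, 0, 0, 0, 1, 0, 1])], [(27, [0, 0, 1, 1, 1, 0, 0, 1, 0, 0, 0]), (21, [0, 0, 0, 1, 1, 0, 0, 0, 0, 1, 0]), (18, [0, 1, 0, 1, 0, 0, 1, 0, 0]), (13, []), (18, [0, 1, 1, 0, 0, 0, 0, 1, 0, 0]), (27, [0, 0, 0, 1, 0, 0, 0, 1, 0,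 0, 0, 1, 1]), (23, [0, 0, 1, 0, 1, 0, 1, 1, 1, 0, 0, 1, 1])], [(16, [1, 0, 0, 0, 0, 0, 1]), (15, []), (28, [0, 1, 1, 1, 1, 0, 0, 0, 0, 0, 1]), (28, [0, 1, 0, 1, 0, 0, 0, 0, 1, 0, 1]), (28, [0, 1, 0, 0, 0, 0, 1, 0, 1, 1, 0, 0]), (30, [1, 0, 1, 0, 1, 0, 0, 1, 0, 0, 0]), (31, [0, 1, 0, 1, 0, 1, 1, 0, 0, 1])], [(34, [1, 0, 1, 0, 1, 1, 1, 0, 0, 0, 0, 0]), (29, [1, 0, 1, 0, 0, 1, 1, 1, 0]), (30, [1, 0, 1, 1, 0, 0, 1, 0]), (23, [0, 0, 1, 0, 1, 0, 1, 1, 1, 0, 0, 1, 1]), (29, [0, 0, 0, 1, 0, 0, 0, 1, 0, 0, 0, 1, 1]), (29, [1, 1, 1]), (15, [])], [(17, []), (22, [0, 1, 0, 1, 0, 0, 0, 1, 1, 0, 0]), (29, [1, 0, 1, 0, 0, 0, 1, 1]), (21, [0, 0, 0, 1, 0, 1, 0, 0, 1, 1, 0, 0, 0, 1]), (30, [0, 1, 1, 1, 0, 0, 1, 1, 0, 0, 1]), (28, [0, 1, 1, 1, 0, 0,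 1]), (30, [0, 0, 1, 0, 0, 0, 0, 1, 0, 1, 1, 0])], [(31, [0, 1, 0, 0, 0, 0, 1, 0, 1, 0, 1]), (31, [0, 0, 0, 1, 1, 0, 0, 0, 0, 1, 0]), (22, [0, 0, 1, 1, 0, 0, 1, 1, 0, 0, 1, 1]), (17, []), (31, [1, 0, 0, 0, 1, 1, 1, 1, 1]), (31, [0, 1, 0, 0, 0, 0, 1, 0, 1, 1, 0, 0]), (28, [1, 0, 1, 0, 1, 0, 0, 1, 1, 0])], [(19, []), (24, [0, 0, 0, 0, 1, 1, 0, 0]), (32, [0, 1, 0, 1, 0, 0, 1, 1, 1]), (32, [1, 0, 0, 0, 0, 1, 0, 1, 1, 0, 0, 0]), (32, [0, 1, 1, 1, 0, 0, 0, 0, 0]), (25, [0, 1, 0, 1, 0, 0, 0, 0, 1, 0, 1]), (34, [0, 1, 0, 1, 0, 0, 1, 1, 1])], [(33, [0, 0, 1, 1, 1, 0, 0, 1, 0, 0, 0]), (33, [0, 1, 0, 0, 0, 1, 1, 0, 0, 1, 1]), (20, []), (25, [0, 0, 1, 0, 0, 0, 0, 0, 1, 0]), (34, [1, 1, 0, 0, 1, 0, 0, 0]), (33, [1, 0, 1, 0]), (24, [0, 0, 1, 0,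 0, 0, 0, 1, 0, 0])], [(29, [0, 1, 1, 0, 0, 1, 0, 0]), (34, [0, 1, 0, 0, 0, 1, 1, 0, 0, 1, 1]), (25, []), (34, [0, 1, 1, 1, 1, 0, 0, 0, 0, 0, 1]), (33, [0, 0, 0, 0, 0, 1, 0, 1, 0, 1, 1, 1]), (34, [0, 0, 0, 0, 1, 1, 0, 0, 0, 0, 1]), (32, [0, 1, 0, 1, 0, 0, 1, 1, 1])]]

/-- Representatives of the double cosets. -/
def dcW : List (List ℕ) := [[3, 4], [5], []]

/-- The double coset of a transporter, with the two factors. -/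
def trDc : List (ℕ × List ℕ × List ℕ) := [(2, [], []), (1, [0, 1, 0, 1], [0, 0, 1, 0, 0, 1, 1, 0]), (1, [0, 0, 0, 1, 0], [0, 0, 1, 0, 0, 0, 1, 0, 0, 0, 1]), (1, [1, 0, 1], [0, 1, 0, 1, 0]), (1, [], []), (1, [0, 0, 1], [1, 0, 0, 1, 0, 1, 1, 1]), (1, [0], [1, 0, 1, 0, 0, 0, 0, 1, 0, 1]), (1, [1, 1, 1], [0, 0, 0, 0, 1, 0, 0, 0, 1, 0, 0]), (1, [1, 0], [0, 0, 1, 0, 0, 0, 1, 1, 1, 0]), (0, [1, 1, 0], [1, 1, 1, 0, 0, 1, 0]), (1, [0, 1, 0], [0, 0, 1, 0, 1, 0, 0, 1, 1, 0, 0, 0]), (0, [], []), (1, [1, 1], [0, 1, 0, 0]), (1, [1], [1, 0, 1, 0, 0, 0, 1, 0, 0, 0, 1, 1]), (1, [0, 0], [0, 0, 1, 1, 0, 0, 0, 0, 1]), (0, [0, 0], [1, 0, 1, 0, 0, 0, 1, 0, 1, 1]), (0, [0, 0, 0], [0, 0, 0, 1, 1, 0, 0, 1]), (1, [1, 0, 1, 0, 1], [0, 1, 0, 0, 1, 0]), (1, [1,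 1, 0], [0, 0, 0, 0, 0, 1, 0, 0, 0, 1, 0]), (0, [1], [1, 0, 1, 1, 0, 0, 1, 1, 0, 0]), (1, [0, 1], [1, 0, 0, 1, 0, 1, 1, 1]), (0, [1, 0], [0, 1, 0, 1, 0, 0, 0, 1]), (1, [1, 1, 0, 0], [1, 0, 1, 0, 0, 0, 0, 0, 1]), (0, [0, 1, 0], [0, 0, 1, 0, 1, 0, 0, 1, 0, 0, 0]), (0, [0, 0, 1], [1, 0, 0, 1, 0, 1, 1, 0, 0, 0]), (1, [0, 0, 1, 0], [0, 0, 1, 0, 0, 0, 1, 0, 0, 0, 1]), (0, [1, 1, 1], [0, 1, 0, 1, 1, 1, 0, 0, 1, 1, 0]), (0, [0, 0, 1, 0], [1, 1, 0, 0, 0, 0, 1, 0, 0, 0]), (0, [1, 1, 0, 0], [1, 0, 0, 0, 1, 0, 1, 1, 0]), (0, [1, 0, 0], [0, 1, 0, 0, 0, 0]), (1, [1, 0, 0], [1, 0, 0, 1, 0, 1, 1, 1]), (0, [0, 1, 1, 0], [1, 0, 1, 0, 1, 1, 0, 0, 0, 1]), (0, [1, 1], [0, 1, 1, 0, 0, 1, 1, 1]), (0, [0, 1], [0, 0, 1, 0, 1, 0, 1, 1, 1, 0]), (0, [0], [0,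 0, 1, 0, 1, 0, 0, 1, 0])]

/-- The conjugates of the representatives under the letter `9`: the transporter (`35` for none), a word and
the exponent of the letter `8`. -/
def dcIm : List (ℕ × List ℕ × ℕ) := [(32, [4, 1, 3, 0, 2, 0, 6], 1), (1, [2, 5], 0), (35, [], 0)]

/-- The conjugates of the seven letters under the letter `8`. -/
def tauConj : List (List ℕ) := [[0, 1, 3, 2, 3, 0], [3, 1, 0, 1, 3], [0, 1, 0, 1, 2], [2, 0, 4, 0, 2], [0, 1, 3, 0, 1], [6, 3, 0, 3, 6], [0, 1, 3, 1, 5, 3, 1, 0]]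

end CfsgLib.Recog.Co3Inv
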