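import Cfsg.Agent.Lib.Recog.Co3Inv.Model
import Cfsg.Agent.Lib.Recog.Co3Inv.DataBase
import Cfsg.Agent.Lib.Recog.McLInv.Struct
import Mathlib.GroupTheory.Perm.Fin

/-!
The double cover as a permutation group: the stabiliser of the last point is the double cover of the
alternating group extended by the letter `8`, there are 36 cosets, and four points separate the elements.
-/

set_option autoImplicit false
set_option maxRecDepth 100000
set_option Elab.async false

namespace CfsgLib.Recog.Co3Inv

open CfsgLib.InvChar.Coset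
open CfsgLib.Recog.McLInv (img ltW ltW_spec wprod_cons' wprod_mem)

/-- A permutation of the first 275 points, fixing the last one. -/
def embFun (σ : Equiv.Perm (Fin 275)) : Fin 276 → Fin 276 :=
  Fin.lastCases (Fin.last 275) fun i => (σ i).castSucc

theorem embFun_castSucc (σ : Equiv.Perm (Fin 275)) (i : Fin 275) :
    embFun σ i.castSucc = (σ i).castSucc := by simp [embFun]

theorem embFun_last (σ : Equiv.Perm (Fin 275)) : embFun σ (Fin.last 275) = Fin.last 275 :=
  Fin.lastCases_last ..

theorem embFun_mul (σ τ : Equiv.Perm (Fin 275)) (x : Fin 276) :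
    embFun (σ * τ) x = embFun σ (embFun τ x) := by
  induction x using Fin.lastCases with
  | last => simp only [embFun_last]
  | cast i => simp only [embFun_castSucc, Equiv.Perm.mul_apply]

theorem embFun_one (x : Fin 276) : embFun 1 x = x := by
  induction x using Fin.lastCases with
  | last => simp only [embFun_last]
  | cast i => simp only [embFun_castSucc, Equiv.Perm.one_apply]

/-- The permutations of the first 275 points as permutations fixing the last one. -/
def emb : Equiv.Perm (Fin 275) →* Equiv.Perm (Fin 276) where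
  toFun σ :=
    { toFun := embFun σ
      invFun := embFun σ⁻¹
      left_inv := fun x => by rw [← embFun_mul, inv_mul_cancel, embFun_one]
      right_inv := fun x => by rw [← embFun_mul, mul_inv_cancel, embFun_one] }
  map_one' := Equiv.ext embFun_one
  map_mul' σ τ := Equiv.ext (embFun_mul σ τ)

theorem emb_apply (σ : Equiv.Perm (Fin 275)) (i : Fin 275) : emb σ i.castSucc = (σ i).castSucc :=
  embFun_castSucc σ i

theorem emb_inf (σ : Equiv.Perm (Fin 275)) : emb σ inf = inf := embFun_last σ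

theorem emb_injective : Function.Injective emb := fun σ τ h => Equiv.ext fun i =>
  Fin.castSucc_injective _ (by rw [← emb_apply, ← emb_apply, h])

theorem emb_gm {x : ℕ} (hx : x < 8) : emb (McLInv.gm x) = gp x := by
  refine Equiv.ext fun i => ?_
  induction i using Fin.lastCases with
  | last => exact (emb_inf _).trans (gp_inf hx).symm
  | cast i => rw [emb_apply, gp_castSucc hx]

theorem mem_cLetters_of_lt {x : ℕ} (hx : x < 7) : x ∈ cLetters := by
  interval_cases x <;> simp [cLetters]

theorem nine_mem : (9 : ℕ) ∈ cLetters := by simp [cLetters]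

theorem emb_mem {σ : Equiv.Perm (Fin 275)} (h : σ ∈ McLInv.C0) : emb σ ∈ Cm := by
  refine (show McLInv.C0 ≤ Cm.comap emb from ?_) h
  rw [McLInv.C0, Subgroup.closure_le]
  rintro _ ⟨x, hx, rfl⟩
  show emb (McLInv.gm x) ∈ Cm
  rw [emb_gm (Nat.lt_succ_of_lt hx)]
  exact gp_mem_cm (mem_cLetters_of_lt hx)

/-- The double cover of the alternating group inside the double cover. -/
def psi : McLInv.C0 →* Cm :=
  (emb.comp McLInv.C0.subtype).codRestrict Cm fun c => emb_mem c.2

theorem psi_val (c : McLInv.C0) : (psi c : Equiv.Perm (Fin 276)) = emb c := rfl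

theorem psi_injective : Function.Injective psi := fun _ _ h =>
  Subtype.ext (emb_injective (congrArg Subtype.val h))

theorem psi_cl {x : ℕ} (hx : x < 7) : psi (McLInv.cl x) = cg x := Subtype.ext (by
  rw [psi_val, McLInv.cl_val hx, emb_gm (Nat.lt_succ_of_lt hx), cg_val (mem_cLetters_of_lt hx)])

theorem psi_el {L : List ℕ} (h : ∀ x ∈ L, x < 7) : psi (McLInv.el L) = el L :=
  map_wprod psi McLInv.cl cg L fun x hx => psi_cl (h x hx)

theorem psi_t0 : psi McLInv.t0 = tm := psi_el (ltW_spec (show ltW 7 McLInv.tW = true by decide +kernel))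

theorem psi_a0 : psi McLInv.a0 = am := psi_el (ltW_spec (show ltW 7 McLInv.aW = true by decide +kernel))

theorem gp8_eq : (el tauW : Equiv.Perm (Fin 276)) = gp 8 := by
  rw [el_val (inC_spec word_checks.2.2.2.2.2.2.1), ← eqP_sound word_checks.1]
  simp [wprod]

/-- The checks on whole permutations. -/
theorem perm_checks :
    ((List.range 7).all fun x => ltW 7 (tauConj.getD x []) && eqP [8, x, 8] (tauConj.getD x [])) = true ∧
    ((List.range 2).all fun i => ltW 7 (hW.getD i []) && ltW 7 (hImW.getD i []) &&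
      eqP ([9] ++ hW.getD i [] ++ [9]) (hImW.getD i [])) = true ∧
    ((List.range 3).all fun m => match dcIm.getD m (0, [], 0) with
      | (j, k, e) => ltW 7 (dcW.getD m []) && ltW 7 k && Nat.blt e 2 && Nat.blt j 36 &&
          eqP ([9] ++ dcW.getD m [] ++ [9])
            ((bif Nat.beq j 35 then [] else trW.getD j [] ++ [9]) ++ k ++ List.replicate e 8)) = true := by
  decide +kernel

/-- The checks in the double cover of the alternating group and on the images of the last point. -/
theorem coset_checks :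
    (trW.length = 35 ∧ trW.all (ltW 7) = true ∧
      ((List.range 35).all fun j => ((List.range j).all fun i =>
          !Nat.beq (actP (trW.getD j [] ++ [9]) 275) (actP (trW.getD i [] ++ [9]) 275)) &&
        !Nat.beq (actP (trW.getD j [] ++ [9]) 275) 275) = true) ∧
    ((List.range 35).all fun j => (List.range 7).all fun x =>
      match (trStep.getD j []).getD x (0, []) with
      | (j', h) => Nat.blt j' 35 && ltW 2 h &&
          McLInv.eqB (x :: trW.getD j []) (trW.getD j' [] ++ h.flatMap fun i => hW.getD i [])) = true ∧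
    ((List.range 35).all fun j => match trDc.getD j (0, [], []) with
      | (m, h1, h2) => Nat.blt m 3 && ltW 2 h1 && ltW 2 h2 &&
          McLInv.eqB (trW.getD j []) ((h1.flatMap fun i => hW.getD i []) ++ dcW.getD m [] ++
            h2.flatMap fun i => hW.getD i [])) = true := by
  decide +kernel

theorem hW_lt {i : ℕ} (hi : i < 2) : (∀ x ∈ hW.getD i [], x < 7) ∧ (∀ x ∈ hImW.getD i [], x < 7) := by
  have h := List.all_eq_true.1 perm_checks.2.1 i (List.mem_range.2 hi)
  rw [Bool.and_eq_true, Bool.and_eq_true] at h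
  exact ⟨ltW_spec h.1.1, ltW_spec h.1.2⟩

theorem el_tauConj {x : ℕ} (hx : x < 7) :
    el tauW * cg x * el tauW = psi (McLInv.el (tauConj.getD x [])) := by
  have h := List.all_eq_true.1 perm_checks.1 x (List.mem_range.2 hx)
  rw [Bool.and_eq_true] at h
  refine Subtype.ext ?_
  rw [psi_el (ltW_spec h.1), el_val (fun y hy => mem_cLetters_of_lt (ltW_spec h.1 y hy)),
    ← eqP_sound h.2, Subgroup.coe_mul, Subgroup.coe_mul, gp8_eq, cg_val (mem_cLetters_of_lt hx)]
  simp [wprod, mul_assoc]

theorem tau_sq : el tauW * el tauW = 1 := Subtype.ext (by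
  rw [Subgroup.coe_mul, gp8_eq, gp_sq]; rfl)

theorem tau_inv : (el tauW)⁻¹ = el tauW := inv_eq_of_mul_eq_one_right tau_sq

/-- The letter `8` normalises the double cover of the alternating group. -/
theorem tau_psi (c : McLInv.C0) : ∃ d, el tauW * psi c * el tauW = psi d := by
  have hc : c ∈ Subgroup.closure (McLInv.cl '' Set.Iio 7) := McLInv.closure_cl ▸ Subgroup.mem_top c
  induction hc using Subgroup.closure_induction with
  | mem x hx =>
    obtain ⟨k, hk, rfl⟩ := hx
    exact ⟨McLInv.el (tauConj.getD k []), by rw [psi_cl hk]; exact el_tauConj hk⟩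
  | one => exact ⟨1, by rw [map_one, mul_one, tau_sq]⟩
  | mul x y _ _ ihx ihy =>
    obtain ⟨d, hd⟩ := ihx
    obtain ⟨e, he⟩ := ihy
    refine ⟨d * e, ?_⟩
    rw [map_mul, map_mul, ← hd, ← he]
    calc el tauW * (psi x * psi y) * el tauW = el tauW * psi x * 1 * psi y * el tauW := by group
      _ = _ := by rw [← tau_sq]; group
  | inv x _ ih =>
    obtain ⟨d, hd⟩ := ih
    refine ⟨d⁻¹, ?_⟩
    rw [map_inv, map_inv, ← hd, mul_inv_rev, mul_inv_rev, tau_inv, ← mul_assoc]

/-- The elements of the stabiliser of the last point. -/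
def InK (c : Cm) : Prop := ∃ u, c = psi u ∨ c = psi u * el tauW

theorem InK.psi_mul {c : Cm} (h : InK c) (v : McLInv.C0) : InK (psi v * c) := by
  obtain ⟨u, rfl | rfl⟩ := h
  · exact ⟨v * u, Or.inl (map_mul psi v u).symm⟩
  · exact ⟨v * u, Or.inr (by rw [map_mul, mul_assoc])⟩

theorem InK.mul_psi {c : Cm} (h : InK c) (v : McLInv.C0) : InK (c * psi v) := by
  obtain ⟨u, rfl | rfl⟩ := h
  · exact ⟨u * v, Or.inl (map_mul psi u v).symm⟩
  · obtain ⟨d, hd⟩ := tau_psi v
    refine ⟨u * d, Or.inr ?_⟩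
    rw [map_mul, ← hd, mul_assoc (psi u), mul_assoc (psi u), mul_assoc (el tauW * psi v), tau_sq, mul_one]

theorem InK.mul_tau {c : Cm} (h : InK c) : InK (c * el tauW) := by
  obtain ⟨u, rfl | rfl⟩ := h
  · exact ⟨u, Or.inr rfl⟩
  · exact ⟨u, Or.inl (by rw [mul_assoc, tau_sq, mul_one])⟩

theorem InK.mul {c d : Cm} (hc : InK c) (hd : InK d) : InK (c * d) := by
  obtain ⟨u, rfl | rfl⟩ := hd
  · exact hc.mul_psi u
  · rw [← mul_assoc]; exact (hc.mul_psi u).mul_tau

/-- A subgroup mapped into the double cover of the alternating group by the letter `9`. -/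
def Hsub : Subgroup McLInv.C0 where
  carrier := {h | ∃ u, cg 9 * psi h * cg 9 = psi u}
  one_mem' := ⟨1, by rw [map_one, mul_one, cg_sq]⟩
  mul_mem' := by
    rintro x y ⟨u, hu⟩ ⟨v, hv⟩
    refine ⟨u * v, ?_⟩
    rw [map_mul, map_mul, ← hu, ← hv]
    calc cg 9 * (psi x * psi y) * cg 9 = cg 9 * psi x * 1 * psi y * cg 9 := by group
      _ = _ := by rw [← cg_sq 9]; group
  inv_mem' := by
    rintro x ⟨u, hu⟩
    refine ⟨u⁻¹, ?_⟩
    rw [map_inv, map_inv, ← hu, mul_inv_rev, mul_inv_rev, inv_eq_of_mul_eq_one_right (cg_sq 9), mul_assoc]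

theorem hW_mem {L : List ℕ} (hL : ∀ i ∈ L, i < 2) :
    McLInv.el (L.flatMap fun i => hW.getD i []) ∈ Hsub := by
  rw [McLInv.el, McLInv.wprod_flatten]
  refine wprod_mem fun i hi => ?_
  have hi2 := hL i hi
  refine ⟨McLInv.el (hImW.getD i []), ?_⟩
  have h := List.all_eq_true.1 perm_checks.2.1 i (List.mem_range.2 hi2)
  rw [Bool.and_eq_true] at h
  show cg 9 * psi (McLInv.el (hW.getD i [])) * cg 9 = _
  refine Subtype.ext ?_
  rw [psi_el (hW_lt hi2).2, el_val (fun y hy => mem_cLetters_of_lt ((hW_lt hi2).2 y hy)), ← eqP_sound h.2,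
    psi_el (hW_lt hi2).1, Subgroup.coe_mul, Subgroup.coe_mul, cg_val nine_mem,
    el_val (fun y hy => mem_cLetters_of_lt ((hW_lt hi2).1 y hy)), wprod_append, wprod_append]
  simp [wprod]

/-- A transporter of the last point. -/
noncomputable def trE (j : ℕ) : Cm := psi (McLInv.el (trW.getD j [])) * cg 9

/-- The elements in one of the cosets. -/
def Std (c : Cm) : Prop := InK c ∨ ∃ j < 35, ∃ k, InK k ∧ c = trE j * k

theorem Std.mul_right {c k : Cm} (h : Std c) (hk : InK k) : Std (c * k) := by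
  rcases h with h | ⟨j, hj, l, hl, rfl⟩
  · exact Or.inl (h.mul hk)
  · exact Or.inr ⟨j, hj, l * k, hl.mul hk, mul_assoc _ _ _⟩

theorem tr_lt {j : ℕ} (hj : j < 35) : ∀ x ∈ trW.getD j [], x < 7 := by
  refine ltW_spec (List.all_eq_true.1 coset_checks.1.2.1 _ ?_)
  rw [List.getD_eq_getElem _ _ (coset_checks.1.1.symm ▸ hj)]
  exact List.getElem_mem _

theorem Std.cl_mul {c : Cm} (h : Std c) {x : ℕ} (hx : x < 7) : Std (psi (McLInv.cl x) * c) := by
  rcases h with h | ⟨j, hj, k, hk, rfl⟩
  · exact Or.inl (h.psi_mul _)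
  have hs := List.all_eq_true.1 (List.all_eq_true.1 coset_checks.2.1 j (List.mem_range.2 hj)) x
    (List.mem_range.2 hx)
  generalize (trStep.getD j []).getD x (0, []) = p at hs
  obtain ⟨j', h⟩ := p
  simp only [Bool.and_eq_true, Nat.blt_eq] at hs
  have e := McLInv.eqB_sound hs.2
  rw [show x :: trW.getD j [] = [x] ++ trW.getD j [] from rfl, McLInv.el_append, McLInv.el_append,
    McLInv.el_singleton] at e
  obtain ⟨u, hu⟩ := hW_mem (ltW_spec hs.1.2)
  refine Or.inr ⟨j', hs.1.1, psi u * k, hk.psi_mul u, ?_⟩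
  rw [trE, trE, ← hu, ← mul_assoc, ← mul_assoc, ← map_mul, e, map_mul]
  simp only [mul_assoc]
  rw [← mul_assoc (cg 9) (cg 9), cg_sq, one_mul]

theorem Std.psi_mul {c : Cm} (h : Std c) (u : McLInv.C0) : Std (psi u * c) := by
  obtain ⟨L, rfl⟩ := McLInv.exists_el u
  induction L generalizing c with
  | nil => rwa [McLInv.el_nil, map_one, one_mul]
  | cons x L ih =>
    have hx : McLInv.el (x :: L) = McLInv.cl x * McLInv.el L := wprod_cons' x L
    rw [hx, map_mul, mul_assoc]
    by_cases hx7 : x < 7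
    · exact (ih h).cl_mul hx7
    · simp only [McLInv.cl, dif_neg hx7, map_one, one_mul]
      exact ih h

theorem Std.nine_mul {c : Cm} (h : Std c) : Std (cg 9 * c) := by
  have htr0 : cg 9 = trE 0 := by
    rw [trE, show trW.getD 0 [] = [] by decide +kernel, McLInv.el_nil, map_one, one_mul]
  rcases h with h | ⟨j, hj, k, hk, rfl⟩
  · exact Or.inr ⟨0, by norm_num, c, h, by rw [htr0]⟩
  have hd := List.all_eq_true.1 coset_checks.2.2 j (List.mem_range.2 hj)
  generalize trDc.getD j (0, [], []) = p at hd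
  obtain ⟨m, h1, h2⟩ := p
  simp only [Bool.and_eq_true, Nat.blt_eq] at hd
  have e := McLInv.eqB_sound hd.2
  rw [McLInv.el_append, McLInv.el_append] at e
  obtain ⟨u1, hu1⟩ := hW_mem (ltW_spec hd.1.1.2)
  obtain ⟨u2, hu2⟩ := hW_mem (ltW_spec hd.1.2)
  have hm := List.all_eq_true.1 perm_checks.2.2 m (List.mem_range.2 hd.1.1.1)
  generalize dcIm.getD m (0, [], 0) = q at hm
  obtain ⟨i, w, ε⟩ := q
  simp only [Bool.and_eq_true, Nat.blt_eq] at hm
  obtain ⟨⟨⟨⟨hml, hw⟩, hε⟩, hi⟩, heq⟩ := hm
  have hmid : Std (cg 9 * psi (McLInv.el (dcW.getD m [])) * cg 9) := by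
    have hwc : ∀ x ∈ w, x ∈ cLetters := fun x hx => mem_cLetters_of_lt (ltW_spec hw x hx)
    have hk' : InK (psi (McLInv.el w) * (el tauW) ^ ε) := by
      rcases Nat.le_one_iff_eq_zero_or_eq_one.1 (Nat.lt_succ_iff.1 hε) with rfl | rfl
      · exact ⟨McLInv.el w, Or.inl (by simp)⟩
      · exact ⟨McLInv.el w, Or.inr (by simp)⟩
    have hval : (((psi (McLInv.el w) * (el tauW) ^ ε : Cm)) : Equiv.Perm (Fin 276)) =
        wprod gp (w ++ List.replicate ε 8) := by
      rw [wprod_append, Subgroup.coe_mul, psi_el (ltW_spec hw), el_val hwc, SubmonoidClass.coe_pow, gp8_eq]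
      simp [wprod]
    have key : ((cg 9 * psi (McLInv.el (dcW.getD m [])) * cg 9 : Cm) : Equiv.Perm (Fin 276)) =
        wprod gp ([9] ++ dcW.getD m [] ++ [9]) := by
      rw [Subgroup.coe_mul, Subgroup.coe_mul, cg_val nine_mem, psi_el (ltW_spec hml),
        el_val (fun y hy => mem_cLetters_of_lt (ltW_spec hml y hy)), wprod_append, wprod_append]
      simp [wprod]
    rw [eqP_sound heq, List.append_assoc, wprod_append, ← hval] at key
    cases hb : Nat.beq i 35 with
    | true =>
      rw [hb, cond_true] at key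
      refine Or.inl ?_
      rwa [show cg 9 * psi (McLInv.el (dcW.getD m [])) * cg 9 = psi (McLInv.el w) * (el tauW) ^ ε from
        Subtype.ext (by rw [key]; simp [wprod])]
    | false =>
      rw [hb, cond_false] at key
      have hne : i ≠ 35 := fun e' => by simp [e'] at hb
      have hi35 : i < 35 := by omega
      refine Or.inr ⟨i, hi35, _, hk', Subtype.ext ?_⟩
      rw [key, Subgroup.coe_mul _ (trE i)]
      congr 1
      rw [trE, Subgroup.coe_mul, psi_el (tr_lt hi35),
        el_val (fun y hy => mem_cLetters_of_lt (tr_lt hi35 y hy)), cg_val nine_mem, wprod_append]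
      simp [wprod]
  have hdec : cg 9 * (trE j * k) =
      psi u1 * (cg 9 * psi (McLInv.el (dcW.getD m [])) * cg 9) * (psi u2 * k) := by
    rw [trE, e, map_mul, map_mul, ← hu1, ← hu2]
    simp only [mul_assoc]
    rw [← mul_assoc (cg 9) (cg 9) (psi (McLInv.el (dcW.getD m [])) * _), cg_sq, one_mul,
      ← mul_assoc (cg 9) (cg 9) (psi _ * (cg 9 * k)), cg_sq, one_mul]
  rw [hdec]
  exact (hmid.psi_mul u1).mul_right (hk.psi_mul u2)

/-- **Every element lies in one of the 36 cosets.** -/
theorem std_all (c : Cm) : Std c := by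
  have hc : c ∈ Subgroup.closure (cg '' cSet) := closure_cg ▸ Subgroup.mem_top c
  induction hc using Subgroup.closure_induction_left with
  | one => exact Or.inl ⟨1, Or.inl (map_one psi).symm⟩
  | mul_left x hx y _ ih =>
    obtain ⟨k, hk, rfl⟩ := hx
    by_cases h7 : k < 7
    · rw [← psi_cl h7]; exact ih.cl_mul h7
    · obtain rfl : k = 9 := by
        have : k ∈ cLetters := hk
        simp [cLetters] at this
        omega
      exact ih.nine_mul
  | inv_mul_cancel x hx y _ ih =>
    obtain ⟨k, hk, rfl⟩ := hx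
    rw [inv_eq_of_mul_eq_one_right (cg_sq k)]
    by_cases h7 : k < 7
    · rw [← psi_cl h7]; exact ih.cl_mul h7
    · obtain rfl : k = 9 := by
        have : k ∈ cLetters := hk
        simp [cLetters] at this
        omega
      exact ih.nine_mul

theorem InK.fix {c : Cm} (h : InK c) : (c : Equiv.Perm (Fin 276)) inf = inf := by
  obtain ⟨u, rfl | rfl⟩ := h
  · rw [psi_val, emb_inf]
  · rw [Subgroup.coe_mul, Equiv.Perm.mul_apply, gp8_eq]
    rw [show gp 8 inf = inf from Fin.ext ((mapP_val (by norm_num) inf).trans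
      (Nat.eq_of_beq_eq_true word_checks.2.2.2.2.1)), psi_val, emb_inf]

theorem trE_val {j : ℕ} (hj : j < 35) : (trE j : Equiv.Perm (Fin 276)) = wprod gp (trW.getD j [] ++ [9]) := by
  rw [trE, Subgroup.coe_mul, psi_el (tr_lt hj), el_val (fun y hy => mem_cLetters_of_lt (tr_lt hj y hy)),
    cg_val nine_mem, wprod_append]
  simp [wprod]

theorem trE_inf {j : ℕ} (hj : j < 35) :
    (((trE j : Equiv.Perm (Fin 276)) inf : Fin 276) : ℕ) = actP (trW.getD j [] ++ [9]) 275 := by
  rw [trE_val hj, wprod_gp_val _ (fun x hx => ?_) inf]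
  · rfl
  · rcases List.mem_append.1 hx with h | h
    · exact lt_trans (tr_lt hj x h) (by norm_num)
    · simp only [List.mem_singleton] at h; omega

theorem trE_inf_ne {j : ℕ} (hj : j < 35) : (trE j : Equiv.Perm (Fin 276)) inf ≠ inf := by
  intro e
  have h := List.all_eq_true.1 coset_checks.1.2.2 j (List.mem_range.2 hj)
  rw [Bool.and_eq_true] at h
  rw [← trE_inf hj, e] at h
  simp [inf] at h

/-- The stabiliser of the last point. -/
theorem inK_of_fix {c : Cm} (h : (c : Equiv.Perm (Fin 276)) inf = inf) : InK c := by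
  rcases std_all c with hc | ⟨j, hj, k, hk, rfl⟩
  · exact hc
  · rw [Subgroup.coe_mul, Equiv.Perm.mul_apply, hk.fix] at h
    exact absurd h (trE_inf_ne hj)

/-- The products of the transporters along the three base points of the seven letters. -/
theorem exists_orbs (u : McLInv.C0) : ∃ L0 ∈ McLInv.orb0, ∃ L1 ∈ McLInv.orb1, ∃ L2 ∈ McLInv.orb2,
    u = McLInv.el (L0 ++ L1 ++ L2) := by
  obtain ⟨o0, o1, o2, hmul, -, -, -⟩ := McLInv.chain_checks
  obtain ⟨m0, n0⟩ := McLInv.orbOK_spec o0
  obtain ⟨m1, n1⟩ := McLInv.orbOK_spec o1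
  obtain ⟨m2, n2⟩ := McLInv.orbOK_spec o2
  let F : Fin McLInv.orb0.length × Fin McLInv.orb1.length × Fin McLInv.orb2.length → McLInv.C0 :=
    fun i => McLInv.el (McLInv.orb0[(i.1 : ℕ)] ++ McLInv.orb1[(i.2.1 : ℕ)] ++ McLInv.orb2[(i.2.2 : ℕ)])
  have ap : ∀ {L : List ℕ}, (∀ x ∈ L, x < 7) → ∀ q : Fin 275,
      (((McLInv.el L : Equiv.Perm (Fin 275)) q : Fin 275) : ℕ) = McLInv.actM L q := fun hL q => by
    rw [McLInv.el_val hL, McLInv.wprod_gm_val _ (fun x hx => Nat.lt_succ_of_lt (hL x hx))]
  have fx : ∀ {L : List ℕ}, (∀ x ∈ L, x < 7) → ∀ q : Fin 275, McLInv.actM L q = q →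
      (McLInv.el L : Equiv.Perm (Fin 275)) q = q := fun hL q hq => Fin.ext ((ap hL q).trans hq)
  have hinj : Function.Injective F := by
    rintro ⟨a, b, c⟩ ⟨a', b', c'⟩ e
    have g0 := fun i : Fin McLInv.orb0.length => m0 _ (List.getElem_mem i.2)
    have g1 := fun i : Fin McLInv.orb1.length => m1 _ (List.getElem_mem i.2)
    have g2 := fun i : Fin McLInv.orb2.length => m2 _ (List.getElem_mem i.2)
    simp only [F, McLInv.el_append] at e
    have f10 := fun i => fx (g1 i).1 McLInv.p0 ((g1 i).2 _ (by simp [McLInv.p0]))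
    have f20 := fun i => fx (g2 i).1 McLInv.p0 ((g2 i).2 _ (by simp [McLInv.p0]))
    have f21 := fun i => fx (g2 i).1 McLInv.p1 ((g2 i).2 _ (by simp [McLInv.p1]))
    have ha : a = a' := by
      have h := congrArg (fun u : McLInv.C0 => (((u : Equiv.Perm (Fin 275)) McLInv.p0 : Fin 275) : ℕ)) e
      simp only [Subgroup.coe_mul, Equiv.Perm.mul_apply, f10, f20, ap (g0 _).1] at h
      exact Fin.ext ((List.Nodup.getElem_inj_iff n0 (hi := by simp) (hj := by simp)).1
        (by simpa [McLInv.p0] using h))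
    subst ha
    rw [mul_assoc, mul_assoc, mul_left_cancel_iff] at e
    have hb : b = b' := by
      have h := congrArg (fun u : McLInv.C0 => (((u : Equiv.Perm (Fin 275)) McLInv.p1 : Fin 275) : ℕ)) e
      simp only [Subgroup.coe_mul, Equiv.Perm.mul_apply, f21, ap (g1 _).1] at h
      exact Fin.ext ((List.Nodup.getElem_inj_iff n1 (hi := by simp) (hj := by simp)).1
        (by simpa [McLInv.p1] using h))
    subst hb
    rw [mul_left_cancel_iff] at e
    have h := congrArg (fun u : McLInv.C0 => (((u : Equiv.Perm (Fin 275)) McLInv.p2 : Fin 275) : ℕ)) e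
    simp only [ap (g2 _).1] at h
    have hc : c = c' := Fin.ext ((List.Nodup.getElem_inj_iff n2 (hi := by simp) (hj := by simp)).1
      (by simpa [McLInv.p2] using h))
    rw [hc]
  obtain ⟨⟨a, b, c⟩, h⟩ := ((Nat.bijective_iff_injective_and_card F).2 ⟨hinj, by
    rw [Nat.card_prod, Nat.card_prod, Nat.card_fin, Nat.card_fin, Nat.card_fin,
      McLInv.c0_cover.2.1, ← mul_assoc, hmul]⟩).2 u
  exact ⟨_, List.getElem_mem a.2, _, List.getElem_mem b.2, _, List.getElem_mem c.2, h.symm⟩

/-- No element of the seven letters moves the base as the letter `8` does. -/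
theorem no_tau_checks : (McLInv.orb0.all fun A => !Nat.beq (McLInv.actM A 0) (actP [8] 0) ||
    McLInv.orb1.all fun B => !Nat.beq (McLInv.actM (A ++ B) 118) (actP [8] 118) ||
      McLInv.orb2.all fun C => !Nat.beq (McLInv.actM (A ++ B ++ C) 1) (actP [8] 1)) = true ∧
    Nat.beq McLInv.base0 0 = true ∧ Nat.beq McLInv.base1 118 = true ∧ Nat.beq McLInv.base2 1 = true := by
  decide +kernel

theorem psi_apply {L : List ℕ} (h : ∀ x ∈ L, x < 7) (i : Fin 275) :
    (((psi (McLInv.el L) : Equiv.Perm (Fin 276)) i.castSucc : Fin 276) : ℕ) = McLInv.actM L i := by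
  rw [psi_val, emb_apply, McLInv.el_val h, Fin.val_castSucc,
    McLInv.wprod_gm_val _ (fun x hx => Nat.lt_succ_of_lt (h x hx))]

theorem no_tau (u : McLInv.C0)
    (h : ∀ q : Fin 275, (q : ℕ) = 0 ∨ (q : ℕ) = 118 ∨ (q : ℕ) = 1 →
      (psi u : Equiv.Perm (Fin 276)) q.castSucc = gp 8 q.castSucc) : False := by
  obtain ⟨A, hA, B, hB, C, hC, rfl⟩ := exists_orbs u
  obtain ⟨hchk, e0, e1, e2⟩ := no_tau_checks
  obtain ⟨o0, o1, o2, -, -, -, -⟩ := McLInv.chain_checks
  have a := (McLInv.orbOK_spec o0).1 A hA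
  have b := (McLInv.orbOK_spec o1).1 B hB
  have c := (McLInv.orbOK_spec o2).1 C hC
  have b0 : McLInv.actM B 0 = 0 := by
    have := b.2 McLInv.base0 (by simp); rwa [Nat.eq_of_beq_eq_true e0] at this
  have c0 : McLInv.actM C 0 = 0 := by
    have := c.2 McLInv.base0 (by simp); rwa [Nat.eq_of_beq_eq_true e0] at this
  have c1 : McLInv.actM C 118 = 118 := by
    have := c.2 McLInv.base1 (by simp); rwa [Nat.eq_of_beq_eq_true e1] at this
  have hlt : ∀ x ∈ A ++ B ++ C, x < 7 := fun x hx => by
    simp only [List.mem_append] at hx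
    rcases hx with (hx | hx) | hx
    exacts [a.1 x hx, b.1 x hx, c.1 x hx]
  have app : ∀ (L M : List ℕ) (i : ℕ), McLInv.actM (L ++ M) i = McLInv.actM L (McLInv.actM M i) :=
    fun L M i => by induction L with
      | nil => rfl
      | cons x L ih => exact congrArg (img (McLInv.codes.getD x 0)) ih
  have key : ∀ q : Fin 275, (q : ℕ) = 0 ∨ (q : ℕ) = 118 ∨ (q : ℕ) = 1 →
      McLInv.actM (A ++ B ++ C) q = actP [8] q := fun q hq => by
    rw [← psi_apply hlt q, h q hq]
    exact mapP_val (by norm_num) q.castSucc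
  have h0 := key ⟨0, by norm_num⟩ (Or.inl rfl)
  have h1 := key ⟨118, by norm_num⟩ (Or.inr (Or.inl rfl))
  have h2 := key ⟨1, by norm_num⟩ (Or.inr (Or.inr rfl))
  dsimp only at h0 h1 h2
  rw [app, app, c0, b0] at h0
  rw [app, c1] at h1
  have hA' := List.all_eq_true.1 hchk A hA
  rw [h0, Nat.beq_refl, Bool.not_true, Bool.false_or] at hA'
  have hB' := List.all_eq_true.1 hA' B hB
  rw [h1, Nat.beq_refl, Bool.not_true, Bool.false_or] at hB'
  have hC' := List.all_eq_true.1 hB' C hC
  rw [h2, Nat.beq_refl] at hC'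
  cases hC'

/-- **Four points separate the elements.** -/
theorem eq_one_of_base4 {c : Cm} (h : ∀ q : Fin 276, (q : ℕ) = 275 ∨ (q : ℕ) = 0 ∨ (q : ℕ) = 118 ∨ (q : ℕ) = 1 →
    (c : Equiv.Perm (Fin 276)) q = q) : c = 1 := by
  obtain ⟨u, rfl | rfl⟩ := inK_of_fix (h inf (Or.inl rfl))
  · obtain ⟨-, e0, e1, e2⟩ := no_tau_checks
    have fx : ∀ q : Fin 275, (q : ℕ) = 0 ∨ (q : ℕ) = 118 ∨ (q : ℕ) = 1 →
        (u : Equiv.Perm (Fin 275)) q = q := fun q hq => Fin.castSucc_injective _ (by
      rw [← emb_apply, ← psi_val, h q.castSucc (Or.inr hq)])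
    rw [McLInv.eq_one_of_base (fx _ (Or.inl (Nat.eq_of_beq_eq_true e0)))
      (fx _ (Or.inr (Or.inl (Nat.eq_of_beq_eq_true e1))))
      (fx _ (Or.inr (Or.inr (Nat.eq_of_beq_eq_true e2)))), map_one]
  · refine (no_tau u⁻¹ fun q hq => ?_).elim
    have hq' := h q.castSucc (Or.inr hq)
    rw [Subgroup.coe_mul, Equiv.Perm.mul_apply, gp8_eq] at hq'
    rw [map_inv, Subgroup.coe_inv, Equiv.Perm.inv_eq_iff_eq]
    exact hq'.symm

theorem tau_not_psi (u : McLInv.C0) : psi u ≠ el tauW := fun e => no_tau u fun q _ => by rw [e, gp8_eq]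

/-- **The order of the double cover.** -/
theorem card_Cm : Nat.card Cm = 2903040 := by
  let τb : Bool → Cm := fun b => bif b then el tauW else 1
  let F : Option (Fin 35) × (McLInv.C0 × Bool) → Cm := fun p =>
    (p.1.elim 1 fun j => trE j) * (psi p.2.1 * τb p.2.2)
  have hk : ∀ (u : McLInv.C0) (b : Bool), InK (psi u * τb b) := fun u b => by
    cases b
    · exact ⟨u, Or.inl (by simp [τb])⟩
    · exact ⟨u, Or.inr rfl⟩
  have hexK : ∀ k, InK k → ∃ u b, k = psi u * τb b := by
    rintro k ⟨u, rfl | rfl⟩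
    · exact ⟨u, false, by simp [τb]⟩
    · exact ⟨u, true, rfl⟩
  have hF : Function.Bijective F := by
    constructor
    · rintro ⟨j, u, b⟩ ⟨j', u', b'⟩ e
      have hinf := congrArg (fun c : Cm => (c : Equiv.Perm (Fin 276)) inf) e
      simp only [F] at hinf
      rw [Subgroup.coe_mul, Subgroup.coe_mul _ (j'.elim _ _), Equiv.Perm.mul_apply,
        Equiv.Perm.mul_apply, (hk u b).fix, (hk u' b').fix] at hinf
      have hj : j = j' := by
        rcases j with - | j <;> rcases j' with - | j'
        · rfl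
        · exact absurd hinf.symm (trE_inf_ne j'.2)
        · exact absurd hinf (trE_inf_ne j.2)
        · refine congrArg some (Fin.ext ?_)
          have hv : actP (trW.getD j [] ++ [9]) 275 = actP (trW.getD j' [] ++ [9]) 275 := by
            rw [← trE_inf j.2, ← trE_inf j'.2]; exact congrArg Fin.val hinf
          by_contra hne
          rcases lt_or_gt_of_ne hne with hlt | hlt
          · have h := List.all_eq_true.1 coset_checks.1.2.2 j' (List.mem_range.2 j'.2)
            rw [Bool.and_eq_true] at h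
            have := List.all_eq_true.1 h.1 j (List.mem_range.2 hlt)
            rw [hv, Nat.beq_refl] at this; cases this
          · have h := List.all_eq_true.1 coset_checks.1.2.2 j (List.mem_range.2 j.2)
            rw [Bool.and_eq_true] at h
            have := List.all_eq_true.1 h.1 j' (List.mem_range.2 hlt)
            rw [hv, Nat.beq_refl] at this; cases this
      subst hj
      have e' : psi u * τb b = psi u' * τb b' := mul_left_cancel e
      have hb : b = b' := by
        cases b <;> cases b' <;> simp only [τb, cond_true, cond_false, mul_one] at e' <;> try rfl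
        · exact absurd (show psi (u'⁻¹ * u) = el tauW by rw [map_mul, map_inv, e']; group) (tau_not_psi _)
        · exact absurd (show psi (u⁻¹ * u') = el tauW by rw [map_mul, map_inv, ← e']; group) (tau_not_psi _)
      subst hb
      rw [psi_injective (mul_right_cancel e')]
    · intro c
      rcases std_all c with hc | ⟨j, hj, k, hk', rfl⟩
      · obtain ⟨u, b, rfl⟩ := hexK c hc
        exact ⟨(none, u, b), by simp [F]⟩
      · obtain ⟨u, b, rfl⟩ := hexK k hk'
        exact ⟨(some ⟨j, hj⟩, u, b), rfl⟩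
  rw [← Nat.card_eq_of_bijective F hF, Nat.card_prod, Nat.card_prod, McLInv.c0_cover.2.1,
    Nat.card_eq_fintype_card, Nat.card_eq_fintype_card, Fintype.card_option, Fintype.card_fin,
    Fintype.card_bool]

/-- Two words agree on the four points. -/
noncomputable def eqK (L L' : List ℕ) : Bool :=
  inC L && inC L' && Nat.beq (actP L 275) (actP L' 275) && Nat.beq (actP L 0) (actP L' 0) &&
    Nat.beq (actP L 118) (actP L' 118) && Nat.beq (actP L 1) (actP L' 1)

theorem el_apply {L : List ℕ} (h : ∀ x ∈ L, x ∈ cLetters) (q : Fin 276) :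
    (((el L : Equiv.Perm (Fin 276)) q : Fin 276) : ℕ) = actP L q := by
  rw [el_val h, wprod_gp_val _ (fun x hx => lt_trans (lt_of_mem_cLetters (h x hx)) (by norm_num))]

/-- Elements agreeing on the four points are equal. -/
theorem ext_base4 {c d : Cm} (h : ∀ q : Fin 276, (q : ℕ) = 275 ∨ (q : ℕ) = 0 ∨ (q : ℕ) = 118 ∨ (q : ℕ) = 1 →
    (c : Equiv.Perm (Fin 276)) q = (d : Equiv.Perm (Fin 276)) q) : c = d := by
  refine (inv_mul_eq_one.1 (eq_one_of_base4 fun q hq => ?_)).symm
  rw [Subgroup.coe_mul, Subgroup.coe_inv, Equiv.Perm.mul_apply, h q hq, Equiv.Perm.inv_def,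
    Equiv.symm_apply_apply]

theorem eqK_sound {L L' : List ℕ} (h : eqK L L' = true) : el L = el L' := by
  simp only [eqK, Bool.and_eq_true] at h
  obtain ⟨⟨⟨⟨⟨hL, hL'⟩, e0⟩, e1⟩, e2⟩, e3⟩ := h
  refine ext_base4 fun q hq => Fin.ext ?_
  rw [el_apply (inC_spec hL), el_apply (inC_spec hL')]
  rcases hq with h | h | h | h <;> rw [h]
  exacts [Nat.eq_of_beq_eq_true e0, Nat.eq_of_beq_eq_true e1, Nat.eq_of_beq_eq_true e2,
    Nat.eq_of_beq_eq_true e3]

end CfsgLib.Recog.Co3Inv
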