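import Mathlib.Data.Nat.Notation

/-!
Words for the involutions of the double cover: a Sylow 2-subgroup by ten generators, a conjugate for each of
its involutions, the class of the second involution, and transversals along four points of its centralizer.
-/

set_option autoImplicit false
set_option maxRecDepth 100000

namespace CfsgLib.Recog.Co3Inv

/-- Generators of a Sylow 2-subgroup, each normalising the span of the earlier ones. -/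
def sylW : List (List ℕ) := [[0, 1, 0, 1], [5], [1], [0], [2, 9, 2], [9, 0, 9], [9], [6, 1, 6], [2, 0, 2], [4, 9, 0, 2, 4]]

/-- The place of the square of each generator. -/
def sylSq : List ℕ := [0, 0, 0, 0, 0, 0, 0, 0, 0, 369]

/-- The place of the conjugate of each earlier generator. -/
def sylConj : List (List ℕ) := [[], [1], [1, 2], [1, 2, 5], [1, 2, 5, 9], [1, 3, 5, 8, 17], [1, 18, 45, 32, 16, 8], [1, 7, 4, 32, 56, 8, 104], [1, 11, 44, 8, 56, 32, 65, 169], [1, 63, 44, 57, 8, 17, 257, 128, 104]]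

/-- For each element: `1` or `2` for a conjugate of the second or third involution, and the conjugator. -/
def sylCert : List (ℕ × List ℕ) := [(0, []), (0, []), (1, [2, 5, 0, 4, 3]), (1, [2, 0, 6, 5, 3]), (1, [2, 0, 6]), (1, [6, 0, 4]), (1,
  [4, 6, 0, 3, 4]), (1, [4, 6, 0, 4, 3]), (1, [2, 5, 3]), (1, [2, 5, 3, 2]), (1, [4, 6, 1, 3]), (1,
  [2, 5, 4, 3]), (0, []), (0, []), (0, []), (0, []), (1, [3, 9, 1, 3, 6, 2]), (1, [3, 9, 1, 3, 6]),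
  (1, [9, 2, 5, 0, 4, 3]), (1, [2, 5, 0, 9, 4, 3]), (0, []), (0, []), (0, []), (0, []), (0, []), (0,
  []), (0, []), (0, []), (0, []), (0, []), (0, []), (0, []), (1, [9, 2, 5, 3]), (1, [2, 5, 1, 3]),
  (0, []), (0, []), (0, []), (0, []), (1, [4, 6, 3, 2]), (1, [4, 6, 3]), (1, []), (1, [2]), (0, []),
  (0, []), (1, [2, 6]), (1, [4, 6]), (0, []), (0, []), (0, []), (0, []), (1, [9, 4, 6, 1, 3]), (1,
  [9, 2, 5, 4, 3]), (0, []), (0, []), (1, [9, 4, 6, 3, 2]), (1, [9, 4, 6, 3]), (1, [3, 1, 9, 3, 6]),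
  (1, [3, 1, 9, 3, 6, 2]), (0, []), (0, []), (0, []), (0, []), (1, [3, 5, 9, 3, 6, 2]), (1, [3, 5, 9,
  3, 6]), (1, [5, 3, 9, 4, 1, 3]), (1, [6, 5, 9, 0, 4, 3]), (0, []), (0, []), (0, []), (0, []), (0,
  []), (0, []), (0, []), (0, []), (0, []), (0, []), (2, [0, 6, 4, 3, 9, 6, 1]), (2, [4, 5, 3, 9, 0,
  6]), (0, []), (0, []), (1, [3, 9, 4, 1, 3]), (1, [4, 0, 9, 4, 3]), (0, []), (0, []), (0, []), (0,
  []), (0, []), (0, []), (0, []), (0, []), (0, []), (0, []), (2, [6, 3, 9, 3, 0, 6]), (2, [6, 2, 3,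
  9, 6, 1]), (0, []), (0, []), (0, []), (0, []), (0, []), (0, []), (2, [2, 5, 3, 6, 3, 9, 0]), (2,
  [6, 4, 3, 9, 6, 1]), (0, []), (0, []), (1, [4, 9, 0, 6, 4, 3]), (1, [4, 9, 5, 0, 6, 3]), (0, []),
  (0, []), (0, []), (0, []), (0, []), (0, []), (0, []), (0, []), (0, []), (0, []), (2, [6, 3, 6, 3,
  9, 6, 0]), (2, [6, 2, 3, 2, 9, 6, 1]), (0, []), (0, []), (1, [3, 9, 0, 4, 1, 3]), (1, [3, 0, 9, 4,
  1, 3]), (0, []), (0, []), (0, []), (0, []), (0, []), (0, []), (1, [0, 4, 2]), (1, [0, 4]), (0, []),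
  (0, []), (1, [0, 6]), (1, [0, 6, 2]), (0, []), (0, []), (0, []), (0, []), (0, []), (0, []), (0,
  []), (0, []), (0, []), (0, []), (0, []), (0, []), (0, []), (0, []), (0, []), (0, []), (0, []), (0,
  []), (2, [0, 6, 0, 3, 6, 9, 3]), (2, [5, 9, 3, 4, 6, 9, 3]), (0, []), (0, []), (2, [9, 3, 4, 6, 9,
  3]), (2, [3, 0, 4, 6, 9, 3]), (0, []), (0, []), (0, []), (0, []), (0, []), (0, []), (0, []), (0,
  []), (0, []), (0, []), (1, [4, 2]), (1, [4]), (0, []), (0, []), (1, [6, 2]), (1, [6]), (0, []), (0,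
  []), (2, [6, 0, 3, 6, 9, 3]), (2, [3, 5, 4, 3, 1, 9, 3]), (0, []), (0, []), (2, [3, 4, 6, 9, 3]),
  (2, [3, 6, 5, 1, 9, 3]), (0, []), (0, []), (0, []), (0, []), (0, []), (0, []), (0, []), (0, []),
  (0, []), (0, []), (0, []), (0, []), (0, []), (0, []), (0, []), (0, []), (0, []), (0, []), (0, []),
  (0, []), (0, []), (0, []), (2, [4, 9, 5, 3, 2, 9, 6]), (2, [6, 4, 3, 1, 9, 4, 0]), (0, []), (0,
  []), (0, []), (0, []), (0, []), (0, []), (0, []), (0, []), (0, []), (0, []), (2, [6, 3, 6, 9, 4,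
  0]), (2, [0, 6, 3, 6, 9, 4, 0]), (0, []), (0, []), (0, []), (0, []), (0, []), (0, []), (0, []), (0,
  []), (0, []), (0, []), (2, [4, 9, 5, 3, 9, 6]), (2, [5, 6, 3, 6, 9, 4, 0]), (0, []), (0, []), (0,
  []), (0, []), (0, []), (0, []), (0, []), (0, []), (0, []), (0, []), (2, [6, 3, 1, 2, 9, 4, 0]), (2,
  [4, 0, 6, 3, 9, 4, 1, 0]), (0, []), (0, []), (0, []), (0, []), (0, []), (0, []), (0, []), (0, []),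
  (0, []), (0, []), (0, []), (0, []), (0, []), (0, []), (1, [5, 3]), (1, [5, 3, 2]), (0, []), (0,
  []), (0, []), (0, []), (0, []), (0, []), (1, [3, 2]), (1, [3]), (0, []), (0, []), (0, []), (0, []),
  (0, []), (0, []), (0, []), (0, []), (0, []), (0, []), (2, [5, 6, 3, 9, 2, 6, 1]), (2, [4, 5, 3, 6,
  9, 4, 0]), (0, []), (0, []), (0, []), (0, []), (0, []), (0, []), (2, [6, 3, 9, 2, 6, 1]), (2, [3,
  6, 3, 9, 6, 4, 0]), (0, []), (0, []), (1, [1, 3]), (1, [1, 3, 2]), (0, []), (0, []), (0, []), (0,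
  []), (0, []), (0, []), (1, [5, 1, 3]), (1, [5, 1, 3, 2]), (0, []), (0, []), (0, []), (0, []), (0,
  []), (0, []), (0, []), (0, []), (0, []), (0, []), (2, [3, 2, 6, 3, 9, 6, 4, 0]), (2, [6, 3, 2, 9,
  2, 6, 1]), (0, []), (0, []), (0, []), (0, []), (0, []), (0, []), (2, [6, 4, 3, 0, 9, 4, 1, 0]), (2,
  [2, 6, 4, 3, 1, 9, 4, 0]), (0, []), (0, []), (0, []), (0, []), (0, []), (0, []), (2, [3, 0, 6, 5,
  9, 3]), (2, [9, 3, 6, 5, 9, 3]), (0, []), (0, []), (0, []), (0, []), (0, []), (0, []), (0, []), (0,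
  []), (0, []), (0, []), (0, []), (0, []), (0, []), (0, []), (0, []), (0, []), (0, []), (0, []), (0,
  []), (0, []), (0, []), (0, []), (2, [3, 5, 4, 3, 9, 3]), (2, [6, 3, 6, 1, 9, 3]), (0, []), (0, []),
  (0, []), (0, []), (0, []), (0, []), (0, []), (0, []), (0, []), (0, []), (0, []), (0, []), (0, []),
  (0, []), (2, [3, 4, 6, 1, 9, 3]), (2, [3, 6, 5, 9, 3]), (0, []), (0, []), (0, []), (0, []), (0,
  []), (0, []), (2, [0, 6, 3, 6, 1, 9, 3]), (2, [3, 9, 6, 0, 3, 9]), (0, []), (0, []), (0, []), (0,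
  []), (0, []), (0, []), (0, []), (0, []), (0, []), (0, []), (0, []), (0, []), (0, []), (0, []), (0,
  []), (0, []), (0, []), (0, []), (0, []), (0, []), (0, []), (0, []), (0, []), (0, []), (0, []), (0,
  []), (0, []), (0, []), (0, []), (0, []), (2, [5, 3, 2, 6, 3, 9, 0]), (2, [5, 6, 3, 9, 0, 6]), (0,
  []), (0, []), (2, [3, 6, 3, 9, 0]), (2, [9, 3, 6, 3, 9, 0]), (0, []), (0, []), (0, []), (0, []),
  (0, []), (0, []), (0, []), (0, []), (0, []), (0, []), (0, []), (0, []), (0, []), (0, []), (0, []),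
  (0, []), (0, []), (0, []), (0, []), (0, []), (0, []), (0, []), (2, [6, 3, 9, 0, 6]), (2, [3, 2, 6,
  3, 9, 0]), (0, []), (0, []), (0, []), (0, []), (0, []), (0, []), (0, []), (0, []), (0, []), (0,
  []), (2, [5, 3, 6, 3, 9, 0]), (2, [5, 9, 3, 6, 3, 9, 0]), (0, []), (0, []), (2, [4, 6, 3, 2, 6, 9,
  3]), (2, [4, 6, 3, 6, 9, 3]), (0, []), (0, []), (0, []), (0, []), (0, []), (0, []), (2, [2, 6, 3,
  9, 0, 6]), (2, [6, 0, 4, 3, 9, 6]), (0, []), (0, []), (2, [4, 9, 6, 2, 3, 9, 6]), (2, [6, 4, 9, 3,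
  4, 9, 6]), (0, []), (0, []), (2, [2, 0, 6, 3, 6, 9, 4, 0]), (2, [2, 6, 3, 6, 9, 4, 0]), (0, []),
  (0, []), (2, [6, 3, 9, 4, 3, 9, 1, 0]), (2, [5, 3, 6, 1, 3, 9, 0]), (0, []), (0, []), (0, []), (0,
  []), (0, []), (0, []), (2, [3, 9, 2, 6, 0, 3, 9]), (2, [3, 9, 6, 3, 2, 9, 0]), (0, []), (0, []),
  (2, [3, 6, 1, 3, 9, 0]), (2, [9, 3, 6, 1, 3, 9, 0]), (0, []), (0, []), (2, [6, 0, 3, 4, 9, 4, 1,
  0]), (2, [2, 6, 3, 9, 2, 6, 1]), (0, []), (0, []), (2, [6, 9, 3, 6, 5, 9, 3]), (2, [6, 3, 0, 6, 5,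
  9, 3]), (0, []), (0, []), (0, []), (0, []), (0, []), (0, []), (0, []), (0, []), (0, []), (0, []),
  (2, [2, 6, 3, 6, 1, 9, 3]), (2, [3, 1, 9, 6, 3, 9, 0]), (0, []), (0, []), (2, [6, 2, 9, 3, 4, 9,
  6]), (2, [9, 2, 6, 3, 6, 9, 4, 0]), (0, []), (0, []), (2, [6, 3, 5, 4, 9, 0]), (2, [2, 6, 2, 3, 9,
  6, 1]), (0, []), (0, []), (0, []), (0, []), (0, []), (0, []), (0, []), (0, []), (0, []), (0, []),
  (0, []), (0, []), (0, []), (0, []), (0, []), (0, []), (0, []), (0, []), (0, []), (0, []), (0, []),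
  (0, []), (0, []), (0, []), (0, []), (0, []), (0, []), (0, []), (0, []), (0, []), (0, []), (0, []),
  (0, []), (0, []), (0, []), (0, []), (0, []), (0, []), (0, []), (0, []), (0, []), (0, []), (0, []),
  (0, []), (0, []), (0, []), (0, []), (0, []), (0, []), (0, []), (0, []), (0, []), (0, []), (0, []),
  (0, []), (0, []), (0, []), (0, []), (0, []), (0, []), (0, []), (0, []), (0, []), (0, []), (0, []),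
  (0, []), (0, []), (0, []), (0, []), (0, []), (0, []), (0, []), (0, []), (0, []), (2, [6, 3, 9, 6,
  3, 2, 0]), (2, [6, 3, 0, 6, 9, 3]), (0, []), (0, []), (2, [4, 3, 0, 6, 9, 3]), (2, [4, 3, 9, 6, 3,
  2, 0]), (0, []), (0, []), (0, []), (0, []), (0, []), (0, []), (0, []), (0, []), (0, []), (0, []),
  (0, []), (0, []), (0, []), (0, []), (0, []), (0, []), (0, []), (0, []), (0, []), (0, []), (0, []),
  (0, []), (0, []), (0, []), (0, []), (0, []), (0, []), (0, []), (0, []), (0, []), (0, []), (0, []),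
  (0, []), (0, []), (0, []), (0, []), (0, []), (0, []), (0, []), (0, []), (0, []), (0, []), (2, [0,
  6, 3, 0, 6, 9, 3]), (2, [9, 0, 6, 3, 6, 9, 3]), (0, []), (0, []), (2, [3, 4, 0, 6, 5, 9, 3]), (2,
  [4, 9, 3, 4, 6, 9, 3]), (0, []), (0, []), (0, []), (0, []), (0, []), (0, []), (0, []), (0, []), (0,
  []), (0, []), (0, []), (0, []), (0, []), (0, []), (0, []), (0, []), (0, []), (0, []), (0, []), (0,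
  []), (0, []), (0, []), (0, []), (0, []), (0, []), (0, []), (0, []), (0, []), (0, []), (0, []), (0,
  []), (0, []), (0, []), (0, []), (0, []), (0, []), (0, []), (0, []), (0, []), (0, []), (0, []), (0,
  []), (0, []), (0, []), (0, []), (0, []), (0, []), (0, []), (0, []), (0, []), (0, []), (0, []), (0,
  []), (0, []), (0, []), (0, []), (0, []), (0, []), (0, []), (0, []), (0, []), (0, []), (0, []), (0,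
  []), (0, []), (0, []), (0, []), (0, []), (0, []), (0, []), (0, []), (0, []), (0, []), (0, []), (2,
  [0, 2, 6, 3, 6, 9, 3]), (2, [2, 6, 3, 0, 6, 9, 3]), (2, [3, 2, 0, 9, 6, 1]), (2, [2, 3, 2, 9, 3,
  6]), (2, [3, 9, 6, 3, 2, 0]), (2, [3, 0, 6, 9, 3]), (2, [2, 3, 9, 3, 6]), (2, [3, 0, 9, 6, 1]), (2,
  [2, 6, 3, 2, 6, 9, 3]), (2, [2, 6, 3, 6, 9, 3]), (2, [2, 6, 3, 9, 6]), (2, [2, 3, 2, 9, 6]), (2,
  [3, 6, 1, 9, 3]), (2, [3, 6, 9, 3, 4]), (2, [9, 3, 1, 9, 4, 0]), (2, [2, 3, 9, 6]), (0, []), (0,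
  []), (0, []), (0, []), (0, []), (0, []), (0, []), (0, []), (0, []), (0, []), (2, [5, 3, 2, 9, 2,
  6]), (2, [3, 2, 9, 2, 6]), (0, []), (0, []), (2, [3, 9, 2, 6]), (2, [5, 3, 9, 2, 6]), (0, []), (0,
  []), (0, []), (0, []), (0, []), (0, []), (0, []), (0, []), (0, []), (0, []), (0, []), (0, []), (0,
  []), (0, []), (0, []), (0, []), (0, []), (0, []), (2, [3, 2, 9, 3, 6, 1]), (2, [3, 2, 9, 4, 1, 0]),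
  (0, []), (0, []), (2, [3, 9, 3, 6, 1]), (2, [3, 9, 4, 1, 0]), (0, []), (0, []), (0, []), (0, []),
  (0, []), (0, []), (0, []), (0, []), (0, []), (0, []), (0, []), (0, []), (2, [4, 9, 3, 6, 5, 9, 3]),
  (2, [3, 6, 2, 9, 0, 3, 0]), (0, []), (0, []), (0, []), (0, []), (0, []), (0, []), (2, [6, 3, 6, 5,
  1, 9, 3]), (2, [4, 0, 3, 6, 9, 3]), (0, []), (0, []), (0, []), (0, []), (0, []), (0, []), (0, []),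
  (0, []), (0, []), (0, []), (2, [6, 3, 6, 9, 3]), (2, [6, 3, 2, 6, 9, 3]), (0, []), (0, []), (0,
  []), (0, []), (0, []), (0, []), (0, []), (0, []), (0, []), (0, []), (0, []), (0, []), (0, []), (0,
  []), (0, []), (0, []), (0, []), (0, []), (0, []), (0, []), (0, []), (0, []), (2, [0, 6, 3, 6, 9,
  3]), (2, [0, 6, 3, 2, 6, 9, 3]), (0, []), (0, []), (0, []), (0, []), (0, []), (0, []), (0, []), (0,
  []), (0, []), (0, []), (0, []), (0, []), (0, []), (0, []), (0, []), (0, []), (0, []), (0, []), (0,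
  []), (0, []), (0, []), (0, []), (0, []), (0, []), (0, []), (0, []), (0, []), (0, []), (0, []), (0,
  []), (0, []), (0, []), (0, []), (0, []), (0, []), (0, []), (0, []), (0, []), (0, []), (0, []), (0,
  []), (0, []), (0, []), (0, []), (0, []), (0, []), (0, []), (0, []), (0, []), (0, []), (0, []), (0,
  []), (0, []), (0, []), (0, []), (0, []), (0, []), (0, []), (0, []), (0, []), (0, []), (0, []), (0,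
  []), (0, []), (0, []), (0, []), (0, []), (0, []), (0, []), (0, []), (0, []), (0, []), (2, [9, 2, 3,
  2, 9, 6]), (2, [3, 2, 1, 9, 4, 0]), (0, []), (0, []), (2, [3, 9, 6, 1]), (2, [3, 9, 3, 4, 1, 0]),
  (0, []), (0, []), (0, []), (0, []), (2, [3, 2, 6, 9, 3]), (2, [3, 6, 9, 3]), (0, []), (0, []), (2,
  [9, 2, 6, 3, 6, 9, 3]), (2, [2, 0, 6, 3, 6, 9, 3]), (0, []), (0, []), (0, []), (0, []), (0, []),
  (0, []), (0, []), (0, []), (2, [3, 2, 9, 0, 6, 1]), (2, [3, 2, 9, 3, 2, 6]), (0, []), (0, []), (2,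
  [3, 0, 9, 4, 1, 0]), (2, [5, 3, 1, 9, 4, 0]), (2, [6, 4, 9, 3, 6, 5, 9, 3]), (2, [3, 9, 6, 3, 2, 9,
  5]), (0, []), (0, []), (0, []), (0, []), (0, []), (0, []), (0, []), (0, []), (2, [3, 2, 9, 6, 1]),
  (2, [3, 2, 9, 3, 4, 1, 0]), (0, []), (0, []), (2, [9, 2, 3, 9, 6]), (2, [3, 1, 9, 4, 0]), (0, []),
  (0, []), (2, [3, 2, 0, 9, 4, 1, 0]), (2, [5, 3, 2, 1, 9, 4, 0]), (0, []), (0, []), (2, [3, 9, 0, 6,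
  1]), (2, [3, 9, 3, 2, 6]), (0, []), (0, []), (0, []), (0, []), (2, [3, 0, 6, 1, 9, 3]), (2, [0, 3,
  6, 9, 3]), (0, []), (0, []), (0, []), (0, []), (0, []), (0, []), (0, []), (0, []), (0, []), (0,
  []), (0, []), (0, []), (0, []), (0, []), (0, []), (0, []), (0, []), (0, []), (0, []), (0, []), (0,
  []), (0, []), (0, []), (0, []), (0, []), (0, []), (0, []), (0, []), (0, []), (0, []), (0, []), (0,
  []), (0, []), (0, []), (0, []), (0, []), (0, []), (0, []), (0, []), (0, []), (0, []), (0, []), (0,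
  []), (0, []), (0, []), (0, []), (0, []), (0, []), (0, []), (0, []), (0, []), (0, []), (0, []), (0,
  []), (0, []), (0, []), (0, []), (0, []), (0, []), (0, []), (0, []), (0, []), (0, []), (0, []), (0,
  []), (0, [])]

/-- The keys of the elements of the third class. -/
def sylKeys : List ℕ := [2129853298, 5769546166, 5180847154, 363801766, 5778382582, 2131300642, 5189683570, 365249110,
  2128586018, 5760928730, 2400119786, 1223691314, 2130109538, 5764813706, 2399586554, 1222624850,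
  2400016174, 1222184518, 362564182, 5172198142, 1222717750, 2401082638, 364087702, 5176083118,
  41404742, 5474297210, 38788538, 5476766306, 38331482, 5479660994, 38738582, 5468507834, 28919218,
  5486780854, 1236734014, 2410071286, 5484114694, 23129842, 1237191070, 2407176598, 360236354,
  5172621482, 29303522, 5487081806, 29151170, 5486700926, 361302818, 5173002362, 27744838,
  5471203966, 5474658106, 41729758, 366087166, 5180085514, 1224267094, 2403505246, 5761267150,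
  2126343286, 5768784286, 2132138458, 41348878, 5474505754, 5173229674, 373857118, 5472956014,
  25764262, 5761928446, 2139908410, 1226019142, 2401524670, 5761648030, 2127409750, 3311670117,
  3752179089, 5231974065, 3189864693, 1031600033, 80978201, 1659192569, 1708499969, 3194824689,
  5221127817, 595737657, 3657423597, 3750016905, 3318001281, 5021050173, 133806393, 1651092521,
  1718372765, 688140389, 4720626797, 1049242781, 74401673, 2471149517, 1490730725, 589491225,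
  3647292189, 5024401917, 133730217, 4720702973, 687759509, 1486464869, 2469092765, 3312533542,
  3758172526, 71980467, 1032469851, 5226912598, 3190585150, 1646219883, 1723476147, 1472405938,
  2462812618, 4715565466, 680175538, 3182246362, 5230909906, 1030919559, 65988783, 135350067,
  5006937471, 3644758239, 605508339, 3745110826, 3317521138, 1476214738, 2463574378, 4716784282,
  675147922, 5006556591, 142815315, 605203635, 3639273567, 1710247743, 1642308135]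

/-- Conjugators for the class of the second involution, by increasing key. -/
def amW : List (List ℕ) := [[0, 6, 2], [9, 3, 0, 6, 3, 2], [9, 6, 3, 6, 2], [9, 0, 3, 6, 1, 3], [2, 5, 3, 6, 0, 4], [0, 3, 4,
  6, 3], [9, 2, 5, 3, 6, 2], [6, 2], [1, 3, 0, 6, 1, 3], [6, 1, 3, 9, 4, 5, 3], [9, 6, 3, 0, 6], [0,
  2, 9, 3, 6, 3], [3, 2, 9, 2, 6, 1, 3], [1, 9, 5, 6, 3, 6], [3, 9, 4, 5, 1, 3], [9, 3, 6, 1, 3], [9,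
  3, 6, 9, 4, 3], [9, 0, 6, 3, 6, 2], [4, 1, 9, 3, 6], [5, 9, 0, 4, 5, 3, 2], [5, 9, 1, 3, 6, 3], [1,
  3, 9, 5, 6, 3], [5, 1, 3, 6, 3], [5, 1, 9, 3, 6, 3], [0, 9, 6, 3], [3, 2, 6, 3, 2], [2, 5, 3, 2],
  [3, 5, 9, 0, 4, 3], [2, 9, 3, 0, 6, 3], [9, 2, 9, 6, 3, 6], [5, 6, 3, 6, 3], [3, 4, 6, 3], [9, 0,
  6, 3], [6, 3, 9, 6, 4, 1, 3], [5, 9, 6, 3, 6, 3], [2, 6, 3, 6], [5, 6, 1, 9, 3, 6, 2], [3, 0, 9, 4,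
  1, 3], [0, 9, 6, 3, 6, 2], [9, 2, 5, 3, 0, 6], [2, 5, 3, 2, 6], [2, 9, 2, 6, 3], [9, 6, 1, 3, 2],
  [1, 3, 9, 4, 5, 3], [0, 3, 2, 6, 3, 2], [2, 1, 9, 3, 6, 3], [3, 9, 6, 4, 1, 3], [6, 3, 6, 0, 4, 3],
  [5, 6, 9, 3, 6, 2], [4, 9, 3, 6, 0, 4], [5, 6, 9, 0, 4, 3], [3, 6, 0, 4, 3], [5, 9, 4, 5, 1, 3],
  [3, 5, 9, 4, 3], [2], [3, 4, 9, 3, 6], [4, 0, 9, 4, 3], [3, 5, 9, 5, 6, 3], [9, 2, 5, 3], [2, 9, 1,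
  3, 6, 3], [9, 6, 3], [3, 6, 9, 0, 4, 3], [2, 9, 3, 6, 3], [5, 9, 0, 4, 1, 3], [5, 0, 9, 5, 6, 3],
  [5, 9, 0, 4, 3], [4, 9, 6, 0, 4, 3], [4, 6, 9, 1, 3, 6], [2, 6, 9, 1, 3, 6], [6, 9, 1, 3, 6], [5,
  4, 9, 3, 6], [3, 9, 4, 5, 3, 2], [0, 3, 4], [3, 9, 5, 6, 3], [9, 0, 4, 3], [0, 4, 2], [4], [6, 0,
  4], [2, 6], [3, 9, 2, 0, 6, 3], [4, 9, 2, 5, 3, 6], [5, 6, 3], [6, 9, 3, 4], [5, 1, 9, 6, 3, 6, 3],
  [0, 4, 2, 5, 3], [9, 2, 6, 3], [5, 9, 3, 6, 3, 2], [6, 3, 9, 5, 6, 3], [6, 9, 0, 4, 3], [6, 0, 3,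
  4], [6, 3, 9, 4, 5, 3, 2], [3, 6, 9, 3, 6, 2], [3, 6, 1, 3], [3, 6, 2, 9, 3, 6], [3, 6, 9, 3, 4],
  [3, 2, 6], [3, 0, 2, 6, 3], [3, 4, 6, 1, 3], [5, 6, 3, 6], [5, 9, 3, 6], [2, 6, 9, 3, 2, 6], [1, 9,
  3, 6, 2], [4, 9, 3, 6, 1, 3], [5, 0, 4, 9, 3, 6], [2, 1, 9, 6, 3, 6, 2], [6, 2, 9, 6, 3, 6], [9, 3,
  2, 6, 3, 2], [4, 9, 5, 6, 3, 6], [2, 6, 1, 9, 3, 6], [3, 9, 4, 6, 3, 2], [9, 1, 3, 6, 2], [4, 9, 0,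
  6, 3, 6], [2, 1, 9, 6, 3, 6], [6, 2, 9, 6, 3, 6, 2], [9, 3, 2, 6, 3], [5, 0, 4, 9, 3, 2, 6], [2, 9,
  5, 6, 3, 6], [4, 6, 1, 9, 3, 6, 2], [9, 3, 6, 0, 4, 3], [1, 9, 3, 6, 3], [4, 1, 6, 9, 3, 6], [5, 1,
  3, 9, 6, 4, 3], [4, 1, 9, 6, 3, 6, 2], [1, 9, 6, 3, 6, 2], [9, 6, 1, 3, 6], [1, 9, 6, 0, 4, 3], [1,
  9, 6, 4, 3], [5, 0, 9, 4, 1, 3], [2, 9, 6, 0, 4, 3], [5, 0, 9, 6, 4, 3], [5, 0, 9, 4, 3], [9, 5, 6,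
  3], [9, 5, 6, 3, 6], [9, 6, 3, 6, 0, 4], [9, 6, 0, 4, 3], [4, 9, 3, 0, 6, 3], [2, 9, 6, 3, 6], [9,
  1, 3, 6, 3], [4, 0, 9, 3, 6, 3, 2], [4, 9, 1, 3, 0, 6, 3], [4, 6, 1, 9, 3, 6], [1, 9, 6, 3, 6, 3],
  [2, 9, 6, 3, 2, 6], [5, 4, 9, 3, 2, 6], [1, 6, 9, 3, 6], [2, 1, 6, 9, 3, 6], [4, 9, 5, 3, 6, 3],
  [4, 9, 0, 6, 4, 3], [3, 9, 1, 3, 6, 2], [6, 5, 9, 0, 4, 3], [3, 1, 9, 3, 6], [3, 9, 6, 3, 6, 2],
  [4, 3, 9, 3, 2, 6, 3], [6, 1, 3, 2, 0, 6], [5, 1, 9, 6, 3, 6, 2], [3, 4, 9, 3, 6, 1, 3], [3, 9, 6,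
  3, 6, 3], [6, 3, 6], [5, 9, 6, 3, 2, 6], [6, 1, 9, 4, 3], [6, 4, 9, 3, 6, 2], [4, 9, 3, 4, 6, 3],
  [4, 2, 5, 3], [6, 4, 2, 9, 3, 6], [6, 4, 1, 3], [6, 9, 4, 1, 3], [6, 4, 9, 3, 6], [5, 3, 2, 6], [9,
  0, 3, 6, 3], [9, 3, 6], [9, 3, 6, 3, 2], [0, 3, 9, 6, 4, 3], [9, 4, 3], [4, 3], [4, 9, 1, 3, 6],
  [6, 9, 4, 3], [6, 4, 3], [5, 6, 9, 1, 3, 6], [5, 9, 0, 3, 6, 3], [2, 5, 6, 3], [3, 9, 0, 6, 3], [2,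
  6, 3], [1, 3, 6, 0, 3, 4], [1, 6, 5, 3], [6, 5, 3], [6, 3], [6, 1, 3], [6, 1, 3, 0, 6, 2], [5, 0,
  6, 3, 6], [3, 2, 0, 6], [9, 5, 1, 3, 6], [9, 0, 4, 5, 3, 2], [6, 0, 4, 9, 3, 6], [2, 0, 9, 6, 3, 6,
  2], [6, 0, 4, 1, 3], [6, 1, 3, 2], [6, 3, 2], [5, 4, 3], [5, 4, 1, 3], [1, 3, 0, 6, 3], [5, 1, 3,
  0, 6, 2], [6, 3, 2, 0, 6], [1, 3, 0, 6, 2], [3, 9, 6, 3, 6], [5, 1, 9, 6, 3, 6], [4, 2, 9, 3, 0, 6,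
  3], [6, 1, 3, 6, 0, 4], [3, 4, 9, 3, 6, 3], [4, 6, 3, 9, 6, 4, 3], [6, 3, 6, 2], [5, 9, 5, 6, 3,
  6], [3, 9, 6, 4, 3], [3, 9, 4, 5, 3], [0, 4, 3], [0, 9, 4, 3], [3, 0, 2, 6, 3, 2], [6, 3, 2, 6],
  [3, 4, 6], [3, 2, 5, 4, 3], [6, 1, 3, 6, 2], [5, 1, 3, 6], [1, 3, 6], [0, 6, 1, 3, 6], [9, 5, 1, 3,
  6, 2], [3, 6, 0, 4], [3, 2, 0, 6, 3], [6, 1, 3, 0, 6], [5, 0, 9, 6, 3, 6], [5, 9, 6, 3, 6, 2], [3,
  6], [9, 5, 1, 9, 3, 6], [3, 5, 9, 4, 5, 3], [3, 0, 6, 2], [4, 3, 9, 4, 6, 3], [3, 5, 9, 4, 1, 3],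
  [5, 3], [5, 1, 3, 2], [3], [1, 3], [3, 0, 9, 6, 3, 6], [4, 5, 9, 3, 6, 2], [2, 5, 3, 9, 4, 5, 3],
  [6, 3, 0, 6], [3, 9, 4, 5, 4, 3], [5, 0, 6, 3], [9, 4, 5, 4, 3], [5, 9, 3, 2, 6, 3], [5, 9, 3, 2,
  0, 6, 3], [6, 0, 3, 6, 1, 3], [5, 3, 9, 5, 6, 3], [6, 0, 3, 6, 9, 3, 4], [4, 9, 1, 3, 6, 2], [3,
  4], [9, 3, 4], [3, 9, 0, 4, 5, 3], [2, 5, 0, 4, 9, 3, 6], [5, 3, 9, 4, 5, 3], [0, 6, 3, 6], [1, 3,
  5, 9, 4, 5, 3], [4, 5, 4, 3], [3, 6, 3, 2], [6, 3, 6, 3], [4, 5, 3], [3, 9, 3, 0, 6, 3], [0, 9, 3,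
  6, 3], [5, 3, 6, 0, 4], [9, 3, 0, 6, 2], [3, 9, 1, 3, 6], [4, 9, 5, 0, 6, 3], [3, 1, 9, 3, 6, 2],
  [5, 3, 9, 4, 1, 3], [6, 2, 9, 0, 3, 6, 3], [4, 6, 9, 3, 2, 6], [1, 3, 9, 6, 3, 6], [6, 9, 3, 2, 6],
  [3, 9, 4, 6, 3], [9, 1, 3, 6], [4, 9, 6, 3, 2, 6], [2, 6, 1, 9, 3, 6, 2], [1, 2, 9, 6, 3, 6], [5,
  9, 3, 2, 6], [2, 9, 3, 6], [2, 9, 5, 3, 6, 3], [6, 3, 6, 3, 2], [4, 5, 3, 2], [3, 6, 3], [2, 6, 1,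
  3], [5, 9, 3, 6, 3], [9, 2, 6, 3, 2], [0, 6, 4, 1, 3], [5, 9, 3, 6, 0, 4, 3], [1, 3, 6, 2], [0, 6,
  1, 3, 6, 2], [6, 1, 3, 6], [5, 1, 3, 6, 2], [5, 9, 1, 3, 6, 2], [1, 3, 9, 2, 6, 3, 2], [1, 3, 6, 0,
  4], [1, 3, 6, 9, 3, 4], [6, 0, 4, 9, 3, 6, 2], [9, 0, 4, 5, 3], [2, 0, 9, 6, 3], [2, 0, 9, 6, 3,
  6], [9, 6, 4, 3], [1, 9, 3, 6, 1, 3], [9, 6, 0, 3, 4], [9, 6, 3, 2, 6], [5, 1, 3, 9, 5, 6, 3], [4,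
  1, 9, 6, 3, 6], [1, 9, 3, 6, 3, 2], [3, 1, 9, 3, 6, 3], [3, 9, 2, 6, 3], [3, 9, 1, 3, 6, 3], [3, 0,
  6, 3, 2], [5, 4, 3, 9, 4, 5, 3], [2, 9, 3, 2, 6, 3, 2], [9, 4, 5, 3], [2, 0, 6, 3, 2], [6, 3, 9, 2,
  6, 1, 3], [0, 4, 5, 1, 3], [5, 3, 2, 6, 3], [3, 0, 6, 1, 3, 2], [0, 2, 6, 3, 2], [9, 3, 2, 0, 6,
  3], [9, 0, 6, 4, 3], [9, 2, 0, 6, 3, 6], [9, 2, 0, 6, 3], [1, 3, 6, 9, 4, 3], [5, 9, 1, 3, 6], [1,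
  3, 9, 2, 6, 3], [1, 3, 2, 0, 6], [6, 1, 9, 3, 2, 6], [1, 2, 9, 3, 6], [5, 3, 0, 6], [1, 9, 3, 2, 6,
  3], [6, 9, 3, 6], [5, 3, 6, 2], [9, 6, 3, 6, 3], [9, 1, 3, 4, 6], [9, 4, 6, 3, 2], [9, 3, 4, 6, 3,
  2], [3, 5, 9, 3, 6, 2], [9, 0, 3, 4, 6, 3], [5, 0, 4, 1, 3], [5, 0, 4, 3], [0, 6, 3, 2], [0, 6, 1,
  3, 2], [2, 5, 4, 3], [2, 5, 3, 6], [2, 5, 3, 0, 6], [2, 5, 0, 4, 3], [4, 9, 6, 3, 6], [5, 9, 3, 2,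
  0, 6], [9, 3, 6, 0, 4], [2, 0, 9, 3, 6, 3], [5, 9, 5, 6, 3], [4, 5, 9, 3, 4], [5, 9, 3, 4], [5, 1,
  9, 4, 3], [0, 9, 5, 6, 3], [0, 9, 5, 6, 3, 6], [1, 9, 3, 0, 6, 3], [9, 2, 0, 6, 1, 3], [2, 9, 0, 3,
  6, 3], [9, 3, 2, 6], [5, 2, 9, 3, 6], [2, 9, 3, 6, 1, 3], [4, 6, 2, 9, 3, 6], [6, 2, 9, 5, 3, 6,
  3], [6, 5, 9, 3, 2, 6], [6, 2, 9, 3, 6], [6, 5, 9, 3, 6, 3], [4, 2, 9, 3, 6, 3], [9, 4, 5, 1, 3],
  [2, 0, 6, 1, 3, 2], [4, 6, 3, 6, 2], [4, 6, 3], [4, 6, 0, 4, 3], [0, 4, 6, 3, 6], [0, 3, 6, 9, 3,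
  4], [3, 9, 6, 1, 3, 6], [0, 3, 6, 1, 3], [0, 3, 6, 9, 3, 6, 2], [1, 9, 3, 0, 6, 3, 2], [4, 5, 0, 9,
  4, 3], [0, 9, 6, 4, 3], [9, 3, 0, 2, 6, 3], [5, 9, 4, 1, 3], [5, 9, 4, 3], [4, 5, 9, 4, 3], [5, 9,
  6, 4, 3], [6, 5, 9, 3, 6, 3, 2], [6, 9, 2, 6, 3], [2, 0, 6, 1, 3], [2, 9, 6, 3, 6, 3], [2, 5, 9, 3,
  6], [9, 2, 5, 0, 4, 3], [3, 9, 2, 5, 4, 3], [9, 4, 6, 1, 3], [9, 4, 6, 3], [1, 3, 5, 9, 4, 3], [3,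
  5, 9, 3, 6], [9, 3, 4, 6, 3], [6, 3, 9, 4, 5, 4, 3], [2, 0, 6, 3], [9, 4, 5, 3, 2], [2, 9, 3, 2, 6,
  3], [9, 5, 0, 6, 3, 6], [9, 1, 3, 0, 6, 3], [9, 5, 0, 6, 3], [9, 2, 0, 6, 3, 2], [2, 5, 3, 0, 6,
  2], [2, 0, 6, 5, 3], [4, 6, 1, 3], [2, 5, 3, 6, 2], [0, 9, 4, 1, 3], [0, 4, 9, 3, 6], [0, 4, 2, 9,
  3, 6], [0, 4, 1, 3], [9, 1, 3, 2, 6], [4, 9, 3, 6, 3], [5, 3, 6], [6, 9, 3, 6, 2], [0, 4, 5, 3],
  [5, 3, 6, 3], [6, 4, 6, 3], [0, 6, 3, 6, 3], [5, 3, 0, 6, 2], [4, 9, 3, 2, 6, 3], [9, 0, 6, 3, 6,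
  3], [1, 9, 3, 2, 6], [1, 9, 4, 3], [4, 9, 3, 2, 6], [4, 9, 3, 6, 2], [1, 3, 4], [3, 9, 3, 4, 6, 3],
  [3, 9, 6, 3, 2, 6], [4, 9, 6, 3, 6, 2], [9, 3, 2, 0, 6], [9, 6, 1, 3, 6, 2], [1, 9, 6, 3, 6], [9,
  6, 4, 1, 3], [9, 6, 0, 4, 1, 3], [6, 9, 1, 3, 6, 2], [5, 4, 9, 3, 6, 2], [2, 5, 4, 9, 3, 6], [4, 5,
  4, 9, 3, 6], [6, 0, 4, 3], [6, 3, 9, 4, 5, 3], [6, 3, 9, 6, 4, 3], [6, 0, 9, 4, 3], [6, 4, 6, 9, 3,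
  6], [5, 9, 3, 6, 2], [1, 9, 3, 6], [2, 6, 2, 9, 3, 6], [3, 4, 5, 9, 4, 3], [3, 2, 9, 2, 6, 3], [3,
  5, 1, 9, 4, 3], [3, 0, 6], [0, 3, 6, 9, 3, 6], [0, 3, 6, 9, 4, 3], [3, 9, 6, 1, 3], [3, 9, 6, 1, 3,
  6, 2], [6, 5, 9, 3, 6, 2], [4, 6, 9, 3, 6], [6, 1, 9, 3, 6], [2, 6, 9, 3, 6], [6, 3, 6, 9, 4, 3],
  [5, 1, 9, 3, 6, 2], [1, 0, 3, 6, 9, 4, 3], [1, 3, 2, 6], [3, 6, 9, 3, 6], [3, 6, 9, 4, 3], [3, 6,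
  9, 3, 2, 6], [3, 6, 1, 3, 2], [3, 0, 6, 3], [5, 3, 9, 4, 5, 1, 3], [6, 3, 9, 2, 6, 3], [3, 9, 2, 6,
  3, 2], [9, 2, 5, 4, 3], [3, 9, 4, 6, 1, 3], [2, 5, 0, 9, 4, 3], [2, 5, 9, 3, 6, 2], [4, 6, 3, 6],
  [4, 6, 3, 2], [0, 4, 6, 3, 6, 2], [4, 6, 0, 3, 4], [4, 6, 9, 3, 6, 2], [6, 5, 9, 3, 6], [2, 6, 9,
  3, 6, 2], [6, 1, 9, 3, 6, 2], [3, 0, 6, 1, 3], [0, 2, 6, 3], [0, 2, 5, 6, 3], [5, 3, 2, 6, 3, 2],
  [0, 9, 3, 6, 3, 2], [0, 9, 0, 3, 6, 3], [9, 3, 0, 6], [5, 3, 2, 0, 6], [0, 4], [2, 0, 6], [4, 6],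
  [4, 2], [1, 0, 6, 5, 3], [0, 6, 3], [0, 6, 5, 3], [0, 6, 1, 3], [1, 3, 4, 6], [1, 0, 3, 6, 9, 3,
  4], [6, 3, 6, 9, 3, 4], [5, 1, 9, 3, 6], [9, 5, 3, 6, 3], [6, 5, 3, 6], [9, 3, 6, 3], [9, 3, 6, 2],
  [4, 9, 3, 6], [4, 2, 9, 3, 6], [9, 4, 1, 3], [4, 1, 3], [1, 0, 3, 4], [0, 4, 9, 3, 2, 6], [9, 0, 4,
  1, 3], [0, 4, 9, 3, 6, 2], [2, 9, 6, 3], [0, 4, 5, 3, 2], [0, 6, 3, 6, 3, 2], [0, 3, 6, 3], [2, 9,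
  2, 6, 1, 3], [9, 6, 3, 0, 6, 2], [3, 5, 9, 3, 4], [0, 9, 6, 3, 2], [2, 5, 3], [3, 6, 0, 3, 4], [2,
  5, 1, 3], [9, 6, 3, 2], [5, 9, 2, 6, 3, 6], [9, 0, 6, 3, 6], [9, 3, 0, 6, 3], [2, 9, 3, 6, 3, 2],
  [4, 3, 9, 4, 5, 3], [9, 3, 6, 1, 3, 2], [3, 5, 9, 4, 5, 1, 3], [1, 9, 6, 3, 2, 6], [2, 9, 2, 6, 3,
  6], [6, 0, 4, 9, 3, 0, 6], [3, 6, 0, 9, 4, 3], [3, 5, 9, 6, 4, 3], [1, 3, 0, 6, 1, 3, 2], [5, 6, 1,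
  9, 3, 6], [3, 9, 0, 4, 1, 3], [5, 9, 4, 5, 3], [6, 3, 1, 9, 6, 4, 3], [5, 4, 9, 3, 6, 3], [1, 3, 6,
  3], [0, 3, 2, 6, 3], [3, 5, 1, 3, 6], [0, 9, 2, 5, 3, 6], [0, 9, 6, 3, 6], [0, 4, 9, 3, 0, 6], [9,
  6, 1, 3], [3, 9, 3, 6, 1, 3], [9, 0, 6, 3, 2], [6, 0, 3, 2, 6, 3], [5, 6, 9, 3, 6], [6, 3, 9, 4, 1,
  3], [4, 9, 3, 2, 0, 6], [3, 1, 9, 6, 4, 3], [2, 1, 9, 3, 6, 3, 2], [3, 2, 6, 3], [5, 1, 9, 3, 6, 3,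
  2], [1, 0, 3, 6, 3], [1, 3, 9, 6, 4, 3], [3, 4, 6, 3, 2], [3, 6, 4, 6, 3], [4, 9, 3, 0, 6], [3, 5,
  0, 9, 4, 3], [5, 6, 9, 3, 2, 6], [3, 9, 3, 2, 6, 3], [0, 3, 4, 6, 3, 2], [0, 6], [9, 6, 3, 6], [3,
  9, 4, 1, 3], [9, 1, 9, 3, 6, 3], [], [5, 9, 0, 4, 5, 3], [9, 2, 5, 3, 6], [9, 3, 6, 9, 3, 4], [6],
  [4, 1, 9, 3, 6, 2], [3, 1, 9, 6, 3, 6], [2, 9, 6, 3, 6, 2], [4, 9, 3, 0, 6, 3, 2], [4, 0, 9, 3, 6,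
  3], [9, 2, 6, 3, 6], [5, 3, 9, 6, 4, 3], [6, 0, 3, 6, 9, 4, 3], [5, 9, 5, 0, 6, 3, 6], [6, 3, 9, 6,
  1, 3], [5, 4, 1, 9, 3, 6], [6, 3, 0, 6, 2], [4, 5, 9, 3, 6], [6, 3, 5, 9, 4, 5, 3], [6, 3, 6, 0,
  4], [2, 0, 6, 3, 6], [1, 3, 0, 6], [5, 1, 3, 0, 6], [3, 6, 2], [5, 9, 1, 3, 2, 6], [5, 0, 9, 6, 3,
  6, 2], [5, 9, 6, 3, 6], [1, 6, 9, 3, 6, 2], [5, 4, 2, 9, 3, 6], [4, 9, 0, 3, 6, 3], [2, 1, 6, 9, 3,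
  6, 2], [5, 3, 9, 4, 5, 3, 2], [4, 6, 3, 9, 4, 5, 3], [1, 3, 2, 9, 2, 6, 3], [0, 6, 3, 6, 2], [0, 6,
  4, 3], [9, 2, 6, 1, 3], [3, 9, 2, 6, 1, 3], [5, 9, 3, 2, 6, 3, 2], [1, 3, 6, 0, 4, 3], [2, 6, 3,
  2], [2, 6, 3, 0, 6], [4, 5, 1, 3], [5, 3, 2], [5, 1, 3], [3, 2], [1, 3, 2]]

/-- Transversals in the centralizer of the second involution. -/
def dChain : List (List (List ℕ)) := [[[], [9], [2, 5, 9], [3, 1, 9, 3], [4, 0, 9, 4], [9, 2, 5, 9], [0, 4, 0, 9, 4], [1, 3, 1, 9, 3],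
  [2, 5, 0, 4, 0, 9, 4], [2, 5, 1, 3, 1, 9, 3], [3, 1, 9, 3, 2, 5, 9], [3, 1, 9, 3, 4, 0, 9, 4]],
  [[], [0], [1], [2, 5], [0, 1], [1, 2, 5], [2, 5, 0], [2, 5, 1], [2, 5, 2, 5], [0, 1, 2, 5], [1, 2,
  5, 0], [2, 5, 0, 1], [0, 2, 5, 2, 5], [1, 2, 5, 2, 5], [2, 5, 2, 5, 0], [2, 5, 2, 5, 1], [0, 1, 2,
  5, 0], [0, 1, 2, 5, 2, 5], [1, 0, 2, 5, 2, 5], [1, 2, 5, 2, 5, 1], [2, 5, 1, 2, 5, 2, 5], [4, 0, 9,
  4, 4, 0, 9, 4], [2, 5, 1, 0, 2, 5, 2, 5], [2, 5, 0, 1, 2, 5, 2, 5]], [[], [0, 1, 0], [1, 9, 1, 9],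
  [0, 9, 0, 9, 1], [2, 5, 2, 5, 0, 2, 5], [1, 3, 1, 9, 3, 3, 1, 9, 3], [3, 1, 9, 3, 3, 1, 9, 3, 1],
  [9, 4, 0, 9, 4, 2, 5, 4, 0, 9, 4, 2, 5]], [[], [4, 0, 9, 4, 9, 3, 1, 9, 3, 2, 5, 4, 0, 9, 4]]]

/-- Elements with square the first involution centralizing the second and the third. -/
def sqWit : List (List ℕ) := [[0, 1], [1, 6, 9, 3, 0, 1, 5, 3, 9, 6, 1]]

/-- The second involution goes to its product with the first. -/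
def amtW : List ℕ := [2]

end CfsgLib.Recog.Co3Inv
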