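import Cfsg.Agent.Lib.Recog.Co3Inv.Base
import Cfsg.Agent.Lib.Recog.Co3Inv.DataInvol
import Mathlib.GroupTheory.Sylow

/-!
The involutions of the double cover: a Sylow 2-subgroup, three classes of involutions, the centralizer of
the second involution, and the two classes told apart by fixed points and by squares.
-/

set_option autoImplicit false
set_option maxRecDepth 100000
set_option Elab.async false

namespace CfsgLib.Recog.Co3Inv

open CfsgLib.InvChar.Coset
open CfsgLib.Recog.McLInv (ltW ltW_spec wprod_cons' wprod_mem)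

theorem el_cons (x : ℕ) (L : List ℕ) : el (x :: L) = cg x * el L := wprod_cons' x L

/-- A key for an element: its images of the four points. -/
noncomputable def keyP (L : List ℕ) : ℕ :=
  actP L 275 + 276 * actP L 0 + 76176 * actP L 118 + 21024576 * actP L 1

theorem keyP_congr {L L' : List ℕ} (hL : inC L = true) (hL' : inC L' = true) (h : el L = el L') :
    keyP L = keyP L' := by
  have e : ∀ q : Fin 276, actP L q = actP L' q := fun q => by
    rw [← el_apply (inC_spec hL) q, ← el_apply (inC_spec hL') q, h]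
  have h0 := e ⟨275, by norm_num⟩
  have h1 := e ⟨0, by norm_num⟩
  have h2 := e ⟨118, by norm_num⟩
  have h3 := e ⟨1, by norm_num⟩
  dsimp only at h0 h1 h2 h3
  rw [keyP, keyP, h0, h1, h2, h3]

/-- Two words differ on the four points. -/
noncomputable def neK (L L' : List ℕ) : Bool := inC L && inC L' && !Nat.beq (keyP L) (keyP L')

theorem neK_sound {L L' : List ℕ} (h : neK L L' = true) : el L ≠ el L' := by
  simp only [neK, Bool.and_eq_true, Bool.not_eq_true'] at h
  intro e
  rw [keyP_congr h.1.1 h.1.2 e, Nat.beq_refl] at h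
  exact Bool.noConfusion h.2

/-! ### A Sylow 2-subgroup -/

/-- A generator. -/
noncomputable def sgW (k : ℕ) : List ℕ := sylW.getD k []

/-- The elements of the span of the first generators. -/
noncomputable def sList (n : ℕ) : List (List ℕ) :=
  Nat.rec (motive := fun _ => List (List ℕ)) [[]] (fun k l => l ++ l.map fun M => sgW k ++ M) n

theorem sList_succ (k : ℕ) : sList (k + 1) = sList k ++ (sList k).map fun M => sgW k ++ M := rfl

/-- The series. -/
noncomputable def pcOK : Bool :=
  (List.range 10).all fun k => inC (sgW k) &&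
    eqK (sgW k ++ sgW k) ((sList k).getD (sylSq.getD k 0) []) &&
    Nat.blt (sylSq.getD k 0) (sList k).length &&
    ((List.range k).all fun i => Nat.blt ((sylConj.getD k []).getD i 0) (sList k).length &&
      eqK (sgW i ++ sgW k) (sgW k ++ (sList k).getD ((sylConj.getD k []).getD i 0) [])) &&
    force (keyP (sgW k)) fun key => (sList k).all fun M => inC M && !Nat.beq key (keyP M)

theorem pc_checks : pcOK = true := by decide +kernel

/-- The elements in the span of the first generators. -/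
def SMem (n : ℕ) (c : Cm) : Prop := ∃ L ∈ sList n, c = el L

theorem getD_mem {α : Type*} (l : List α) {i : ℕ} (hi : i < l.length) (d : α) : l.getD i d ∈ l := by
  rw [List.getD_eq_getElem _ _ hi]; exact List.getElem_mem _

theorem pc_spec {k : ℕ} (hk : k < 10) :
    inC (sgW k) = true ∧ SMem k (el (sgW k) * el (sgW k)) ∧
    (∀ i < k, ∃ d, SMem k d ∧ el (sgW i) * el (sgW k) = el (sgW k) * d) ∧ ¬ SMem k (el (sgW k)) := by
  have h := List.all_eq_true.1 pc_checks k (List.mem_range.2 hk)
  simp only [force_eq, Bool.and_eq_true, Nat.blt_eq] at h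
  obtain ⟨⟨⟨⟨h0, h1⟩, h1'⟩, h2⟩, h3⟩ := h
  refine ⟨h0, ⟨_, getD_mem _ h1' _, by rw [← el_append, eqK_sound h1]⟩, fun i hi => ?_, ?_⟩
  · have h := List.all_eq_true.1 h2 i (List.mem_range.2 hi)
    rw [Bool.and_eq_true, Nat.blt_eq] at h
    exact ⟨_, ⟨_, getD_mem _ h.1 _, rfl⟩, by rw [← el_append, eqK_sound h.2, el_append]⟩
  · rintro ⟨M, hM, e⟩
    have h := List.all_eq_true.1 h3 M hM
    rw [Bool.and_eq_true, keyP_congr h0 h.1 e, Nat.beq_refl] at h
    exact Bool.noConfusion h.2

theorem SMem.one : ∀ n, SMem n 1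
  | 0 => ⟨[], by simp [sList], el_nil.symm⟩
  | n + 1 => by
    obtain ⟨L, hL, e⟩ := SMem.one n
    exact ⟨L, by rw [sList_succ]; exact List.mem_append_left _ hL, e⟩

theorem SMem.succ {n : ℕ} {c : Cm} (h : SMem n c) : SMem (n + 1) c := by
  obtain ⟨L, hL, e⟩ := h
  exact ⟨L, by rw [sList_succ]; exact List.mem_append_left _ hL, e⟩

theorem SMem.gen_mul {n : ℕ} {c : Cm} (h : SMem n c) : SMem (n + 1) (el (sgW n) * c) := by
  obtain ⟨L, hL, rfl⟩ := h
  exact ⟨sgW n ++ L, by rw [sList_succ]; exact List.mem_append_right _ (List.mem_map.2 ⟨L, hL, rfl⟩),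
    (el_append _ _).symm⟩

theorem SMem.cases_succ {n : ℕ} {c : Cm} (h : SMem (n + 1) c) :
    SMem n c ∨ ∃ d, SMem n d ∧ c = el (sgW n) * d := by
  obtain ⟨L, hL, e⟩ := h
  rw [sList_succ, List.mem_append] at hL
  rcases hL with hL | hL
  · exact Or.inl ⟨L, hL, e⟩
  · obtain ⟨M, hM, rfl⟩ := List.mem_map.1 hL
    exact Or.inr ⟨el M, ⟨M, hM, rfl⟩, by rw [e, el_append]⟩

theorem SMem.conj {n : ℕ} (hn : n < 10) (hmul : ∀ {c d : Cm}, SMem n c → SMem n d → SMem n (c * d)) :
    ∀ m ≤ n, ∀ {c : Cm}, SMem m c → ∃ d, SMem n d ∧ c * el (sgW n) = el (sgW n) * d := by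
  intro m
  induction m with
  | zero =>
    intro _ c hc
    obtain ⟨L, hL, rfl⟩ := hc
    rw [show sList 0 = [[]] from rfl, List.mem_singleton] at hL
    subst hL
    exact ⟨1, SMem.one n, by rw [el_nil, one_mul, mul_one]⟩
  | succ m ih =>
    intro hm c hc
    rcases hc.cases_succ with h | ⟨d, hd, rfl⟩
    · exact ih (Nat.le_of_succ_le hm) h
    · obtain ⟨e, he, hee⟩ := ih (Nat.le_of_succ_le hm) hd
      obtain ⟨f, hf, hfe⟩ := (pc_spec hn).2.2.1 m (Nat.lt_of_succ_le hm)
      exact ⟨f * e, hmul hf he, by rw [mul_assoc, hee, ← mul_assoc, hfe, mul_assoc]⟩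

theorem SMem.mul : ∀ n ≤ 10, ∀ {c d : Cm}, SMem n c → SMem n d → SMem n (c * d) := by
  intro n
  induction n with
  | zero =>
    intro _ c d hc hd
    obtain ⟨L, hL, rfl⟩ := hc
    obtain ⟨M, hM, rfl⟩ := hd
    rw [show sList 0 = [[]] from rfl, List.mem_singleton] at hL hM
    subst hL hM
    exact ⟨[], by simp [sList], by rw [el_nil, one_mul]⟩
  | succ n ih =>
    intro hn c d hc hd
    have hn' : n < 10 := hn
    have hmul := @ih hn'.le
    rcases hd.cases_succ with hd | ⟨d, hd', rfl⟩
    · rcases hc.cases_succ with hc | ⟨c, hc', rfl⟩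
      · exact (hmul hc hd).succ
      · rw [mul_assoc]; exact (hmul hc' hd).gen_mul
    · rcases hc.cases_succ with hc | ⟨c, hc', rfl⟩
      · obtain ⟨e, he, hee⟩ := SMem.conj hn' hmul n le_rfl hc
        rw [← mul_assoc, hee, mul_assoc]
        exact (hmul he hd').gen_mul
      · obtain ⟨e, he, hee⟩ := SMem.conj hn' hmul n le_rfl hc'
        rw [show el (sgW n) * c * (el (sgW n) * d) = el (sgW n) * (c * el (sgW n)) * d by group, hee,
          ← mul_assoc (el (sgW n)), mul_assoc]
        exact (hmul (pc_spec hn').2.1 (hmul he hd')).succ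

/-- A Sylow 2-subgroup of the double cover. -/
noncomputable def SylTwo : Subgroup Cm where
  carrier := {c | SMem 10 c}
  one_mem' := SMem.one 10
  mul_mem' := fun h h' => SMem.mul 10 le_rfl h h'
  inv_mem' := fun {c} h => by
    show SMem 10 c⁻¹
    have hp : ∀ k : ℕ, SMem 10 (c ^ k) := fun k => by
      induction k with
      | zero => rw [pow_zero]; exact SMem.one 10
      | succ k ih => rw [pow_succ]; exact SMem.mul 10 le_rfl ih h
    have hinv : c⁻¹ = c ^ (orderOf c - 1) := by
      refine inv_eq_of_mul_eq_one_right ?_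
      rw [← pow_succ', Nat.sub_add_cancel (orderOf_pos c), pow_orderOf_eq_one]
    rw [hinv]; exact hp _

theorem mem_SylTwo {c : Cm} : c ∈ SylTwo ↔ ∃ L ∈ sList 10, c = el L := Iff.rfl

theorem sList_nodup : ∀ n ≤ 10, ((sList n).map el).Nodup := by
  intro n
  induction n with
  | zero => intro _; simp [sList]
  | succ n ih =>
    intro hn
    have hn' : n < 10 := hn
    rw [sList_succ, List.map_append, List.map_map]
    refine List.nodup_append'.2 ⟨ih hn'.le, ?_, fun c hc hc' => ?_⟩
    · have h := (ih hn'.le).map (f := fun c : Cm => el (sgW n) * c) (mul_right_injective _)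
      rw [List.map_map] at h
      rwa [show (el ∘ fun M => sgW n ++ M) = (fun c : Cm => el (sgW n) * c) ∘ el from
        funext fun M => el_append _ _]
    · obtain ⟨L, hL, rfl⟩ := List.mem_map.1 hc
      obtain ⟨M, hM, e⟩ := List.mem_map.1 hc'
      refine (pc_spec hn').2.2.2 ?_
      have hinv : SMem n (el M)⁻¹ := by
        have hp : ∀ k : ℕ, SMem n ((el M) ^ k) := fun k => by
          induction k with
          | zero => rw [pow_zero]; exact SMem.one n
          | succ k ih' => rw [pow_succ]; exact SMem.mul n hn'.le ih' ⟨M, hM, rfl⟩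
        have he : (el M)⁻¹ = el M ^ (orderOf (el M) - 1) := by
          refine inv_eq_of_mul_eq_one_right ?_
          rw [← pow_succ', Nat.sub_add_cancel (orderOf_pos _), pow_orderOf_eq_one]
        rw [he]; exact hp _
      have e' : el (sgW n) = el L * (el M)⁻¹ := by
        rw [← e, Function.comp_apply, el_append, mul_inv_cancel_right]
      rw [e']
      exact SMem.mul n hn'.le ⟨L, hL, rfl⟩ hinv

theorem sList_length : ∀ n, (sList n).length = 2 ^ n
  | 0 => rfl
  | n + 1 => by rw [sList_succ, List.length_append, List.length_map, sList_length n, pow_succ]; omega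

theorem card_SylTwo : Nat.card SylTwo = 2 ^ 10 := by
  classical
  have h : (SylTwo : Set Cm) = (((sList 10).map el).toFinset : Set Cm) := by
    ext c
    simp only [SetLike.mem_coe, mem_SylTwo, List.coe_toFinset, Set.mem_setOf_eq, List.mem_map]
    exact ⟨fun ⟨L, hL, e⟩ => ⟨L, hL, e.symm⟩, fun ⟨L, hL, e⟩ => ⟨L, hL, e.symm⟩⟩
  show Nat.card (SylTwo : Set Cm) = _
  rw [h, Nat.card_coe_set_eq, Set.ncard_coe_finset, List.toFinset_card_of_nodup (sList_nodup 10 le_rfl),
    List.length_map, sList_length]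

theorem isPGroup_SylTwo : IsPGroup 2 SylTwo := IsPGroup.of_card card_SylTwo

theorem index_SylTwo : SylTwo.index = 2835 := by
  have h := SylTwo.card_mul_index
  rw [card_SylTwo, card_Cm] at h
  omega

/-- The Sylow 2-subgroup. -/
noncomputable def sylTwo : Sylow 2 Cm :=
  isPGroup_SylTwo.toSylow (by rw [index_SylTwo]; norm_num)

theorem sylTwo_coe : (sylTwo : Subgroup Cm) = SylTwo := rfl

/-- A 2-element has a conjugate in the Sylow subgroup. -/
theorem exists_conj_mem {c : Cm} {k : ℕ} (hc : c ^ 2 ^ k = 1) : ∃ g : Cm, g * c * g⁻¹ ∈ SylTwo := by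
  have hp : IsPGroup 2 (Subgroup.zpowers c) := by
    obtain ⟨j, -, hj⟩ := (Nat.dvd_prime_pow Nat.prime_two).1 (orderOf_dvd_of_pow_eq_one hc)
    exact IsPGroup.of_card ((Nat.card_zpowers c).trans hj)
  obtain ⟨P, hP⟩ := hp.exists_le_sylow
  obtain ⟨g, hg⟩ := MulAction.exists_smul_eq Cm P sylTwo
  refine ⟨g, ?_⟩
  rw [← sylTwo_coe, ← hg, Sylow.coe_subgroup_smul]
  exact ⟨c, hP (Subgroup.mem_zpowers c), by simp⟩

attribute [local irreducible] sList

/-! ### The classes of involutions -/

/-- The fixed points of a word. -/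
noncomputable def fixN (L : List ℕ) : ℕ := (List.range 276).countP fun i => Nat.beq (actP L i) i

theorem card_fixed {L : List ℕ} (h : ∀ x ∈ L, x ∈ cLetters) :
    Nat.card {i : Fin 276 // (el L : Equiv.Perm (Fin 276)) i = i} = fixN L := by
  classical
  rw [Nat.card_eq_fintype_card, Fintype.card_subtype, ← Finset.card_map Fin.valEmbedding, fixN,
    List.countP_eq_length_filter, ← List.toFinset_card_of_nodup (List.nodup_range.filter _)]
  congr 1
  ext i
  simp only [Finset.mem_map, Finset.mem_filter, Finset.mem_univ, true_and, Fin.valEmbedding_apply,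
    List.mem_toFinset, List.mem_filter, List.mem_range]
  constructor
  · rintro ⟨q, hq, rfl⟩
    refine ⟨q.2, ?_⟩
    rw [← el_apply h q, hq]
    exact Nat.beq_refl _
  · rintro ⟨hi, hb⟩
    exact ⟨⟨i, hi⟩, Fin.ext ((el_apply h _).trans (Nat.eq_of_beq_eq_true hb)), rfl⟩

theorem card_fixed_conj (g c : Cm) :
    Nat.card {i : Fin 276 // ((g * c * g⁻¹ : Cm) : Equiv.Perm (Fin 276)) i = i} =
      Nat.card {i : Fin 276 // (c : Equiv.Perm (Fin 276)) i = i} := by
  refine (Nat.card_congr ((g : Equiv.Perm (Fin 276)).subtypeEquiv fun i => ?_)).symm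
  rw [Subgroup.coe_mul, Subgroup.coe_mul, Subgroup.coe_inv, Equiv.Perm.mul_apply, Equiv.Perm.mul_apply,
    Equiv.Perm.inv_def, Equiv.symm_apply_apply, EmbeddingLike.apply_eq_iff_eq]

/-- Small facts on the named involutions. -/
theorem named_inv_checks : Nat.beq (fixN McLInv.aW) 36 = true ∧ Nat.beq (fixN s0W) 12 = true ∧
    inC McLInv.tW = true ∧ inC McLInv.aW = true ∧
    eqK (McLInv.aW ++ McLInv.aW) [] = true ∧ eqK (McLInv.tW ++ McLInv.tW) [] = true ∧
    eqK (s0W ++ s0W) [] = true ∧
    (cLetters.all fun x => eqK ([x] ++ McLInv.tW) (McLInv.tW ++ [x])) = true ∧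
    neK McLInv.tW [] = true ∧ neK McLInv.aW McLInv.tW = true ∧ neK s0W McLInv.tW = true ∧
    neK McLInv.aW [] = true ∧ neK s0W [] = true ∧
    eqK (amtW ++ McLInv.aW ++ amtW.reverse) (McLInv.tW ++ McLInv.aW) = true ∧
    eqK (sqWit.getD 0 [] ++ sqWit.getD 0 []) McLInv.tW = true ∧
    eqK (sqWit.getD 0 [] ++ McLInv.aW) (McLInv.aW ++ sqWit.getD 0 []) = true ∧
    eqK (sqWit.getD 1 [] ++ sqWit.getD 1 []) McLInv.tW = true ∧
    eqK (sqWit.getD 1 [] ++ s0W) (s0W ++ sqWit.getD 1 []) = true := by decide +kernel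

theorem tm_comm (c : Cm) : c * tm = tm * c := by
  have hc : c ∈ Subgroup.closure (cg '' cSet) := closure_cg ▸ Subgroup.mem_top c
  have h : Subgroup.closure (cg '' cSet) ≤ Subgroup.centralizer {tm} := by
    rw [Subgroup.closure_le]
    rintro _ ⟨x, hx, rfl⟩
    rw [SetLike.mem_coe, Subgroup.mem_centralizer_singleton_iff]
    have e := eqK_sound (List.all_eq_true.1 named_inv_checks.2.2.2.2.2.2.2.1 x hx)
    rwa [el_append, el_append, el_singleton] at e
  exact Subgroup.mem_centralizer_singleton_iff.1 (h hc)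

theorem am_sq : am * am = 1 := by
  rw [am, ← el_append, eqK_sound named_inv_checks.2.2.2.2.1, el_nil]

theorem tm_sq : tm * tm = 1 := by
  rw [tm, ← el_append, eqK_sound named_inv_checks.2.2.2.2.2.1, el_nil]

theorem sm_sq : sm * sm = 1 := by
  rw [sm, ← el_append, eqK_sound named_inv_checks.2.2.2.2.2.2.1, el_nil]

theorem tm_ne_one : tm ≠ 1 := neK_sound named_inv_checks.2.2.2.2.2.2.2.2.1

theorem am_ne_tm : am ≠ tm := neK_sound named_inv_checks.2.2.2.2.2.2.2.2.2.1

theorem sm_ne_tm : sm ≠ tm := neK_sound named_inv_checks.2.2.2.2.2.2.2.2.2.2.1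

theorem am_ne_one : am ≠ 1 := neK_sound named_inv_checks.2.2.2.2.2.2.2.2.2.2.2.1

theorem sm_ne_one : sm ≠ 1 := neK_sound named_inv_checks.2.2.2.2.2.2.2.2.2.2.2.2.1

/-- The second involution is conjugate to its product with the first. -/
theorem am_conj_tm_mul : el amtW * am * (el amtW)⁻¹ = tm * am := by
  have e := eqK_sound named_inv_checks.2.2.2.2.2.2.2.2.2.2.2.2.2.1
  rwa [el_append, el_append, el_reverse, el_append] at e

/-- The first involution is a square in the centralizer of the second. -/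
theorem tm_sq_am : ∃ y : Cm, y * y = tm ∧ y * am = am * y := by
  obtain ⟨-, -, -, -, -, -, -, -, -, -, -, -, -, -, h1, h2, -, -⟩ := named_inv_checks
  exact ⟨el (sqWit.getD 0 []), by rw [← el_append, eqK_sound h1]; rfl, by
    rw [am, ← el_append, ← el_append, eqK_sound h2]⟩

/-- The first involution is a square in the centralizer of the third. -/
theorem tm_sq_sm : ∃ y : Cm, y * y = tm ∧ y * sm = sm * y := by
  obtain ⟨-, -, -, -, -, -, -, -, -, -, -, -, -, -, -, -, h1, h2⟩ := named_inv_checks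
  exact ⟨el (sqWit.getD 1 []), by rw [← el_append, eqK_sound h1]; rfl, by
    rw [sm, ← el_append, ← el_append, eqK_sound h2]⟩

/-- The second and third involutions are not conjugate. -/
theorem am_not_conj_sm (g : Cm) : g * am * g⁻¹ ≠ sm := by
  intro e
  have h := card_fixed_conj g am
  rw [e, sm, am, card_fixed (inC_spec word_checks.2.2.2.2.2.2.2.1),
    card_fixed (inC_spec named_inv_checks.2.2.2.1), Nat.eq_of_beq_eq_true named_inv_checks.1,
    Nat.eq_of_beq_eq_true named_inv_checks.2.1] at h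
  norm_num at h

/-- Each element of the Sylow subgroup is no involution, or a named one, and its square is not of the
third class. -/
noncomputable def sylOK : Bool :=
  ((sList 10).zip sylCert).all fun p => inC p.1 &&
    (neK (p.1 ++ p.1) [] || eqK p.1 [] || eqK p.1 McLInv.tW ||
      (Nat.beq p.2.1 1 && eqK p.1 (p.2.2 ++ McLInv.aW ++ p.2.2.reverse)) ||
      (Nat.beq p.2.1 2 && eqK p.1 (p.2.2 ++ s0W ++ p.2.2.reverse) && sylKeys.any (Nat.beq (keyP p.1)))) &&
    (force (keyP (p.1 ++ p.1)) fun key => sylKeys.all fun k => !Nat.beq key k) &&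
    (eqK p.1 [] || eqK p.1 McLInv.tW || (List.range 10).any fun k => neK (p.1 ++ sgW k) (sgW k ++ p.1))

theorem syl_checks : sylOK = true ∧ sylCert.length = 1024 := by decide +kernel

theorem syl_spec {L : List ℕ} (hL : L ∈ sList 10) :
    (el L * el L = 1 → el L = 1 ∨ el L = tm ∨ (∃ h, el L = h * am * h⁻¹) ∨
      (∃ h, el L = h * sm * h⁻¹ ∧ keyP L ∈ sylKeys)) ∧
    keyP (L ++ L) ∉ sylKeys ∧ inC L = true ∧
    ((∀ k < 10, el L * el (sgW k) = el (sgW k) * el L) → el L = 1 ∨ el L = tm) := by
  obtain ⟨i, hi, rfl⟩ := List.mem_iff_getElem.1 hL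
  have hz : ((sList 10)[i], sylCert.getD i (0, [])) ∈ (sList 10).zip sylCert := by
    have hi' : i < sylCert.length := by rw [syl_checks.2, ← show 2 ^ 10 = 1024 by norm_num, ← sList_length 10]; exact hi
    rw [List.getD_eq_getElem _ _ hi', ← List.getElem_zip (h := by rw [List.length_zip]; omega)]
    exact List.getElem_mem _
  have h := List.all_eq_true.1 syl_checks.1 _ hz
  simp only [force_eq, Bool.and_eq_true, List.all_eq_true, Bool.not_eq_true'] at h
  obtain ⟨⟨⟨hin, hinv⟩, hsq⟩, hcen⟩ := h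
  refine ⟨fun hsq1 => ?_, fun hmem => ?_, hin, fun hcomm => ?_⟩
  · simp only [Bool.or_eq_true, Bool.and_eq_true] at hinv
    rcases hinv with (((h | h) | h) | h) | h
    · exact absurd (by rw [el_append, el_nil]; exact hsq1) (neK_sound h)
    · exact Or.inl ((eqK_sound h).trans el_nil)
    · exact Or.inr (Or.inl (eqK_sound h))
    · exact Or.inr (Or.inr (Or.inl ⟨_, by rw [eqK_sound h.2, el_append, el_append, el_reverse]; rfl⟩))
    · refine Or.inr (Or.inr (Or.inr ⟨el (sylCert.getD i (0, [])).2,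
        by rw [eqK_sound h.1.2, el_append, el_append, el_reverse]; rfl, ?_⟩))
      obtain ⟨k, hk, e⟩ := List.any_eq_true.1 h.2
      rwa [Nat.eq_of_beq_eq_true e]
  · have := hsq _ hmem
    rw [Nat.beq_refl] at this
    cases this
  · simp only [Bool.or_eq_true, List.any_eq_true, List.mem_range] at hcen
    rcases hcen with (h | h) | ⟨k, hk, h⟩
    · exact Or.inl ((eqK_sound h).trans el_nil)
    · exact Or.inr (eqK_sound h)
    · exact absurd (by rw [el_append, el_append]; exact hcomm k hk) (neK_sound h)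

/-- **The involutions of the double cover.** -/
theorem invol_cases {c : Cm} (hc : c * c = 1) :
    c = 1 ∨ c = tm ∨ (∃ h, c = h * am * h⁻¹) ∨ ∃ h, c = h * sm * h⁻¹ := by
  obtain ⟨g, hg⟩ := exists_conj_mem (c := c) (k := 1) (by rw [pow_one, pow_two, hc])
  obtain ⟨L, hL, e⟩ := mem_SylTwo.1 hg
  have hsq : el L * el L = 1 := by
    rw [← e, show g * c * g⁻¹ * (g * c * g⁻¹) = g * (c * c) * g⁻¹ by group, hc, mul_one, mul_inv_cancel]
  have hc' : ∀ d : Cm, el L = d → c = g⁻¹ * d * g := fun d hd => by rw [← hd, ← e]; group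
  rcases (syl_spec hL).1 hsq with h | h | ⟨x, h⟩ | ⟨x, h, -⟩
  · exact Or.inl (by rw [hc' 1 h]; group)
  · refine Or.inr (Or.inl ?_)
    rw [hc' tm h, mul_assoc, ← tm_comm g, inv_mul_cancel_left]
  · exact Or.inr (Or.inr (Or.inl ⟨g⁻¹ * x, by rw [hc' _ h]; group⟩))
  · exact Or.inr (Or.inr (Or.inr ⟨g⁻¹ * x, by rw [hc' _ h]; group⟩))

/-- The third involution is not a square. -/
theorem sm_not_sq (y : Cm) : y * y ≠ sm := by
  intro e
  have h4 : y ^ 4 = 1 := by
    rw [show (4 : ℕ) = 2 * 2 from rfl, pow_mul, pow_two y, e, pow_two, sm_sq]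
  obtain ⟨g, hg⟩ := exists_conj_mem (c := y) (k := 2) h4
  obtain ⟨L, hL, eL⟩ := mem_SylTwo.1 hg
  have hs : g * sm * g⁻¹ = el L * el L := by rw [← eL, ← e]; group
  obtain ⟨hcls, hkey, hin, -⟩ := syl_spec hL
  have hLm : el L ∈ SylTwo := mem_SylTwo.2 ⟨L, hL, rfl⟩
  have hm : g * sm * g⁻¹ ∈ SylTwo := by rw [hs]; exact mul_mem hLm hLm
  obtain ⟨M, hM, eM⟩ := mem_SylTwo.1 hm
  have hM2 : el M * el M = 1 := by
    rw [← eM, show g * sm * g⁻¹ * (g * sm * g⁻¹) = g * (sm * sm) * g⁻¹ by group, sm_sq, mul_one, mul_inv_cancel]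
  have hback : sm = g⁻¹ * el M * g := by rw [← eM]; group
  rcases (syl_spec hM).1 hM2 with h | h | ⟨x, h⟩ | ⟨x, -, hk⟩
  · exact sm_ne_one (by rw [hback, h]; group)
  · exact sm_ne_tm (by rw [hback, h, mul_assoc, ← tm_comm g, inv_mul_cancel_left])
  · exact am_not_conj_sm (g⁻¹ * x) (by rw [hback, h]; group)
  · refine hkey ?_
    rwa [keyP_congr (L := L ++ L) (L' := M) (by
      simp only [inC, List.all_append, Bool.and_eq_true]; exact ⟨hin, hin⟩) (syl_spec hM).2.2.1
      (by rw [el_append, ← hs, eM])]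

/-- The centre of the Sylow subgroup. -/
theorem center_SylTwo {z : Cm} (hz : z ∈ SylTwo) (hc : ∀ s ∈ SylTwo, z * s = s * z) : z = 1 ∨ z = tm := by
  obtain ⟨L, hL, rfl⟩ := mem_SylTwo.1 hz
  refine (syl_spec hL).2.2.2 fun k hk => hc _ ?_
  have hmem : SMem (k + 1) (el (sgW k)) := by simpa using (SMem.one k).gen_mul
  have hup : ∀ m, k + 1 ≤ m → SMem m (el (sgW k)) := by
    intro m hm
    induction m, hm using Nat.le_induction with
    | base => exact hmem
    | succ m _ ih => exact ih.succ
  exact hup 10 hk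

/-! ### The centralizer of the second involution -/

/-- A transversal word. -/
noncomputable def dT (k : ℕ) : List (List ℕ) := dChain.getD k []

/-- The four points. -/
def bP (k : ℕ) : ℕ := [275, 0, 118, 1].getD k 0

/-- The transversals. -/
noncomputable def chainOK : Bool :=
  ((List.range 4).all fun k => (dT k).all fun L => inC L &&
    eqK (L ++ McLInv.aW) (McLInv.aW ++ L) && (List.range k).all fun j => Nat.beq (actP L (bP j)) (bP j)) &&
  ((List.range 4).all fun k => (List.range (dT k).length).all fun i => (List.range i).all fun j =>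
    !Nat.beq (actP ((dT k).getD i []) (bP k)) (actP ((dT k).getD j []) (bP k)))

theorem chain_dT : chainOK = true ∧
    (dT 0).length * (dT 1).length * (dT 2).length * (dT 3).length = 4608 := by decide +kernel

/-- The conjugates of the second involution have different keys. -/
noncomputable def amOK : Bool :=
  (List.rec (motive := fun _ => ℕ → Bool) (fun _ => true)
    (fun L _ ih prev => inC L && force (keyP (L ++ McLInv.aW ++ L.reverse) + 1) fun key =>
      Nat.blt prev key && ih key) amW) 0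

theorem am_checks : amOK = true ∧ amW.length = 630 := by decide +kernel

theorem am_conj_nodup :
    (amW.map fun L => el L * am * (el L)⁻¹).Nodup ∧ ∀ L ∈ amW, inC L = true := by
  have key : ∀ (l : List (List ℕ)) (p : ℕ), (List.rec (motive := fun _ => ℕ → Bool) (fun _ => true)
      (fun L _ ih prev => inC L && force (keyP (L ++ McLInv.aW ++ L.reverse) + 1) fun key =>
        Nat.blt prev key && ih key) l) p = true →
      (∀ L ∈ l, inC L = true ∧ p < keyP (L ++ McLInv.aW ++ L.reverse) + 1) ∧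
        (l.map fun L => el L * am * (el L)⁻¹).Nodup := by
    intro l
    induction l with
    | nil => intro p _; simp
    | cons L l ih =>
      intro p h
      simp only [force_eq, Bool.and_eq_true, Nat.blt_eq] at h
      obtain ⟨h0, h1, h2⟩ := h
      obtain ⟨hall, hnd⟩ := ih _ h2
      refine ⟨fun M hM => ?_, ?_⟩
      · rcases List.mem_cons.1 hM with rfl | hM
        · exact ⟨h0, h1⟩
        · exact ⟨(hall M hM).1, h1.trans (hall M hM).2⟩
      · rw [List.map_cons, List.nodup_cons]
        refine ⟨fun hmem => ?_, hnd⟩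
        obtain ⟨M, hM, e⟩ := List.mem_map.1 hmem
        obtain ⟨hMin, hlt⟩ := hall M hM
        have hin : ∀ N : List ℕ, inC N = true → inC (N ++ McLInv.aW ++ N.reverse) = true := fun N hN => by
          simp only [inC, List.all_append, List.all_reverse, Bool.and_eq_true]
          exact ⟨⟨hN, named_inv_checks.2.2.2.1⟩, hN⟩
        rw [keyP_congr (hin L h0) (hin M hMin) (by
          simp only [el_append, el_reverse]; exact e.symm)] at hlt
        exact lt_irrefl _ hlt
  obtain ⟨h1, h2⟩ := key amW 0 am_checks.1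
  exact ⟨h2, fun L hL => (h1 L hL).1⟩

theorem dT_spec {k : ℕ} (hk : k < 4) {L : List ℕ} (hL : L ∈ dT k) :
    inC L = true ∧ el L * am = am * el L ∧ ∀ j < k, actP L (bP j) = bP j := by
  have h := chain_dT.1
  rw [chainOK, Bool.and_eq_true] at h
  have h := List.all_eq_true.1 (List.all_eq_true.1 h.1 k (List.mem_range.2 hk)) L hL
  simp only [Bool.and_eq_true, List.all_eq_true, List.mem_range] at h
  exact ⟨h.1.1, by rw [am, ← el_append, ← el_append, eqK_sound h.1.2],
    fun j hj => Nat.eq_of_beq_eq_true (h.2 j hj)⟩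

theorem dT_inj {k : ℕ} (hk : k < 4) {i j : ℕ} (hi : i < (dT k).length) (hj : j < (dT k).length)
    (e : actP ((dT k)[i]) (bP k) = actP ((dT k)[j]) (bP k)) : i = j := by
  have h := chain_dT.1
  rw [chainOK, Bool.and_eq_true] at h
  have h := List.all_eq_true.1 h.2 k (List.mem_range.2 hk)
  simp only [List.all_eq_true, List.mem_range] at h
  by_contra hne
  have gen : ∀ {a b : ℕ}, (ha : a < (dT k).length) → (hb : b < (dT k).length) → b < a →
      actP ((dT k)[a]) (bP k) ≠ actP ((dT k)[b]) (bP k) := by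
    intro a b ha hb hab e'
    have := h a ha b hab
    rw [List.getD_eq_getElem _ _ ha, List.getD_eq_getElem _ _ hb, e', Nat.beq_refl] at this
    cases this
  rcases lt_or_gt_of_ne hne with hl | hl
  exacts [gen hj hi hl e.symm, gen hi hj hl e]

theorem card_centralizer_am_le : Nat.card (Subgroup.centralizer ({am} : Set Cm)) ≤ 4608 := by
  classical
  have hle : 630 ≤ (MulAction.orbit (ConjAct Cm) am).ncard := by
    rw [← am_checks.2, ← List.length_map (f := fun L => el L * am * (el L)⁻¹),
      ← List.toFinset_card_of_nodup am_conj_nodup.1, ← Set.ncard_coe_finset]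
    refine Set.ncard_le_ncard (fun c hc => ?_) (Set.toFinite _)
    simp only [List.coe_toFinset, Set.mem_setOf_eq, List.mem_map] at hc
    obtain ⟨L, -, rfl⟩ := hc
    exact ⟨ConjAct.toConjAct (el L), rfl⟩
  have h := Nat.card_congr (MulAction.orbitProdStabilizerEquivGroup (ConjAct Cm) am)
  rw [Nat.card_prod, ConjAct.stabilizer_eq_centralizer, Nat.card_coe_set_eq] at h
  have hc : Nat.card (ConjAct Cm) = 2903040 := card_Cm
  rw [hc] at h
  by_contra hlt
  have hlt' := Nat.mul_le_mul hle (not_le.1 hlt)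
  rw [Nat.succ_eq_add_one] at hlt'
  have h' : (MulAction.orbit (ConjAct Cm) am).ncard *
      Nat.card (Subgroup.centralizer ({am} : Set Cm)) = 2903040 := h
  omega

/-- A product along the chain. -/
noncomputable def dProd
    (p : Fin (dT 0).length × Fin (dT 1).length × Fin (dT 2).length × Fin (dT 3).length) : Cm :=
  el (dT 0)[(p.1 : ℕ)] * el (dT 1)[(p.2.1 : ℕ)] * el (dT 2)[(p.2.2.1 : ℕ)] * el (dT 3)[(p.2.2.2 : ℕ)]

theorem dT_apply {k : ℕ} (hk : k < 4) {i : ℕ} (hi : i < (dT k).length) {j : ℕ} (hj : j < k)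
    (q : Fin 276) (hq : (q : ℕ) = bP j) : (el (dT k)[i] : Equiv.Perm (Fin 276)) q = q := by
  obtain ⟨h0, -, h2⟩ := dT_spec hk (List.getElem_mem hi)
  exact Fin.ext (by rw [el_apply (inC_spec h0), hq, h2 j hj])

theorem dProd_injective : Function.Injective dProd := by
  rintro ⟨a, b, c, d⟩ ⟨a', b', c', d'⟩ e
  have hb : ∀ j, bP j < 276 := fun j => by
    unfold bP; rcases j with - | _ | _ | _ | j <;> simp
  have step : ∀ {k : ℕ} (_ : k < 4) {i i' : Fin (dT k).length} {r r' : Cm},
      (∀ q : Fin 276, (q : ℕ) = bP k → (r : Equiv.Perm (Fin 276)) q = q) →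
      (∀ q : Fin 276, (q : ℕ) = bP k → (r' : Equiv.Perm (Fin 276)) q = q) →
      el (dT k)[(i : ℕ)] * r = el (dT k)[(i' : ℕ)] * r' → i = i' ∧ r = r' := by
    intro k hk i i' r r' hr hr' e'
    have h0 := (dT_spec hk (List.getElem_mem i.2)).1
    have h0' := (dT_spec hk (List.getElem_mem i'.2)).1
    have h := congrArg (fun x : Cm => (((x : Equiv.Perm (Fin 276)) ⟨bP k, hb k⟩ : Fin 276) : ℕ)) e'
    simp only [Subgroup.coe_mul, Equiv.Perm.mul_apply, hr ⟨bP k, hb k⟩ rfl, hr' ⟨bP k, hb k⟩ rfl] at h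
    rw [el_apply (inC_spec h0), el_apply (inC_spec h0')] at h
    have hii := Fin.ext (dT_inj hk i.2 i'.2 h)
    subst hii
    exact ⟨rfl, mul_left_cancel e'⟩
  simp only [dProd, mul_assoc] at e
  have f2 : ∀ (j : ℕ), j < 2 → ∀ (c : Fin (dT 2).length) (d : Fin (dT 3).length) (q : Fin 276),
      (q : ℕ) = bP j → ((el (dT 2)[(c : ℕ)] * el (dT 3)[(d : ℕ)] : Cm) : Equiv.Perm (Fin 276)) q = q := by
    intro j hj c d q hq
    rw [Subgroup.coe_mul, Equiv.Perm.mul_apply, dT_apply (by norm_num) d.2 (show j < 3 by omega) q hq,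
      dT_apply (by norm_num) c.2 hj q hq]
  have f1 : ∀ (b : Fin (dT 1).length) (c : Fin (dT 2).length) (d : Fin (dT 3).length) (q : Fin 276),
      (q : ℕ) = bP 0 → ((el (dT 1)[(b : ℕ)] * (el (dT 2)[(c : ℕ)] * el (dT 3)[(d : ℕ)]) : Cm) :
        Equiv.Perm (Fin 276)) q = q := by
    intro b c d q hq
    rw [Subgroup.coe_mul, Equiv.Perm.mul_apply, f2 0 (by norm_num) c d q hq,
      dT_apply (by norm_num) b.2 (show 0 < 1 by norm_num) q hq]
  obtain ⟨ha, e1⟩ := step (k := 0) (i := a) (i' := a') (by norm_num) (f1 b c d) (f1 b' c' d') e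
  subst ha
  obtain ⟨hb', e2⟩ := step (k := 1) (i := b) (i' := b') (by norm_num) (f2 1 (by norm_num) c d)
    (f2 1 (by norm_num) c' d') e1
  subst hb'
  obtain ⟨hc, e3⟩ := step (k := 2) (i := c) (i' := c') (by norm_num)
    (fun q => dT_apply (by norm_num) d.2 (show 2 < 3 by norm_num) q)
    (fun q => dT_apply (by norm_num) d'.2 (show 2 < 3 by norm_num) q) e2
  subst hc
  obtain ⟨hd, -⟩ := step (k := 3) (i := d) (i' := d') (r := 1) (r' := 1) (by norm_num) (fun _ _ => rfl)
    (fun _ _ => rfl) (by rw [e3])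
  subst hd
  rfl

theorem dProd_mem (p) : dProd p * am = am * dProd p := by
  obtain ⟨a, b, c, d⟩ := p
  have h : ∀ {k : ℕ}, k < 4 → ∀ i : Fin (dT k).length,
      el (dT k)[(i : ℕ)] ∈ Subgroup.centralizer ({am} : Set Cm) := fun hk i =>
    Subgroup.mem_centralizer_singleton_iff.2 (dT_spec hk (List.getElem_mem i.2)).2.1
  exact Subgroup.mem_centralizer_singleton_iff.1 (mul_mem (mul_mem (mul_mem
    (h (by norm_num) a) (h (by norm_num) b)) (h (by norm_num) c)) (h (by norm_num) d))

/-- **The centralizer of the second involution.** -/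
theorem card_centralizer_am : Nat.card (Subgroup.centralizer ({am} : Set Cm)) = 4608 := by
  refine le_antisymm card_centralizer_am_le ?_
  have h := Nat.card_le_card_of_injective
    (fun p => (⟨dProd p, Subgroup.mem_centralizer_singleton_iff.2 (dProd_mem p)⟩ :
      Subgroup.centralizer ({am} : Set Cm))) fun p p' e => dProd_injective (congrArg Subtype.val e)
  rw [Nat.card_prod, Nat.card_prod, Nat.card_prod, Nat.card_fin, Nat.card_fin, Nat.card_fin, Nat.card_fin,
    ← mul_assoc, ← mul_assoc, chain_dT.2] at h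
  exact h

/-- Every element commuting with the second involution is a product along the chain. -/
theorem exists_dT {c : Cm} (hc : c * am = am * c) : ∃ A ∈ dT 0, ∃ B ∈ dT 1, ∃ C ∈ dT 2, ∃ D ∈ dT 3,
    c = el (A ++ B ++ C ++ D) := by
  have hb : Function.Bijective fun p => (⟨dProd p, Subgroup.mem_centralizer_singleton_iff.2 (dProd_mem p)⟩ :
      Subgroup.centralizer ({am} : Set Cm)) := (Nat.bijective_iff_injective_and_card _).2
    ⟨fun p p' e => dProd_injective (congrArg Subtype.val e), by
      rw [card_centralizer_am, Nat.card_prod, Nat.card_prod, Nat.card_prod, Nat.card_fin, Nat.card_fin,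
        Nat.card_fin, Nat.card_fin, ← mul_assoc, ← mul_assoc, chain_dT.2]⟩
  obtain ⟨⟨i, j, k, l⟩, e⟩ := hb.2 ⟨c, Subgroup.mem_centralizer_singleton_iff.2 hc⟩
  refine ⟨_, List.getElem_mem i.2, _, List.getElem_mem j.2, _, List.getElem_mem k.2, _,
    List.getElem_mem l.2, ?_⟩
  rw [← show dProd (i, j, k, l) = c from congrArg Subtype.val e, el_append, el_append, el_append]
  rfl

end CfsgLib.Recog.Co3Inv
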