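import Mathlib.Data.Nat.Notation

/-!
Words for the rotations of the diagram `E7` in the centralizer of the first involution, and the letters
as products of them up to that involution.
-/

set_option autoImplicit false

namespace CfsgLib.Recog.Co3Inv

/-- The rotations of the diagram. -/
def rotL : List (List ℕ) :=
  [[], [3, 9, 4, 5, 4, 3, 9, 3, 4, 6], [0, 3, 9, 4, 3, 0, 9, 4, 3, 9], [0, 4, 5, 9, 2, 3, 4, 9, 5, 4, 0], [0, 6, 3, 0, 6, 0, 4], [0, 5, 6, 1, 3, 1, 6, 0], [0, 2, 3, 2]]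

/-- The letters in the rotations. -/
def genL : List (ℕ × List ℕ) :=
  [(0, [3, 2, 1, 4, 3, 2, 1, 6, 3, 2, 4, 1, 3, 2, 1, 5, 4, 3, 2, 6, 3, 2, 1, 4, 3, 2, 5, 1, 4, 3,
     2, 6, 3, 2, 1, 4, 3, 2, 6, 3]),
   (1, [2, 3, 1, 4, 3, 5, 4, 3, 2, 6, 3, 2, 1, 4, 3, 2, 5, 4, 3, 6, 3, 2, 1, 4, 3, 2, 5, 4, 3,
     6]),
   (2, [1, 2, 3, 2, 4, 1, 3, 2, 5, 4, 3, 2, 6, 3, 2, 1, 4, 3, 2, 5, 4, 3, 6, 3, 2, 1, 4, 3, 2,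
     5, 1, 4, 3, 6]),
   (3, [2, 1, 2, 3, 2, 1, 5, 4, 3, 2, 6, 3, 2, 1, 4, 3, 2, 5, 6, 3]),
   (4, [2, 3, 1, 2, 5, 6, 3, 2, 1, 4, 3, 2, 5, 4, 3, 6, 3, 2, 1, 4, 3, 2, 5, 4, 3, 6]),
   (5, [1, 2, 3, 1, 2, 4, 1, 3, 2, 5, 4, 3, 6, 3, 2, 1, 4, 3, 2, 5, 4, 3, 6, 3, 2, 1, 4, 3, 2,
     5, 1, 4, 3, 2, 6, 1, 3]),
   (6, [3, 1, 2, 4, 1, 3, 2, 5, 4, 3, 6, 3, 2, 4, 1, 3, 2, 5, 4, 3, 6, 3, 2, 4, 1, 3, 2, 1, 5,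
     4, 3, 6]),
   (9, [1, 2, 1, 3, 2, 1, 4, 3, 2, 1, 5, 4, 3, 2, 1, 6, 3, 2, 4, 1, 3, 2, 5, 4, 3, 6, 3, 2, 4,
     1, 3, 2, 1, 5, 4, 3, 2, 6, 3, 4, 5])]

end CfsgLib.Recog.Co3Inv
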