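import Cfsg.Agent.Lib.Recog.Co3Inv.Model
import Cfsg.Agent.Lib.Recog.Co3Inv.CoverData
import Cfsg.Agent.Lib.Golay.E8CoxChecks

/-!
The words of the rotations satisfy the relations of the rotation group of `E7` up to the central
involution, and generate.
-/

set_option autoImplicit false
set_option maxRecDepth 100000
set_option Elab.async false

namespace CfsgLib.Recog.Co3Inv

open CfsgLib.InvChar.Coset CfsgLib.Golay.E8Cox

/-- The word of a rotation. -/
def rw7 (i : ℕ) : List ℕ := rotL.getD i []

/-- A word for a power. -/
def powW (L : List ℕ) (m : ℕ) : List ℕ := (List.replicate m L).flatten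

theorem el_powW (L : List ℕ) (m : ℕ) : el (powW L m) = el L ^ m := by
  induction m with
  | zero => simp [powW, el_nil]
  | succ m ih =>
    rw [powW, List.replicate_succ, List.flatten_cons, el_append, pow_succ']
    exact congrArg (el L * ·) ih

/-- A word for a relation between two rotations. -/
def relW (i j : Fin 7) : List ℕ :=
  powW ((rw7 i.val).reverse ++ rw7 j.val) (mE (e7 i) (e7 j))

theorem relations_check : ((List.finRange 7).all fun i => (List.finRange 7).all fun j =>
    eqE (relW i j) [] || eqE (relW i j) McLInv.tW) = true := by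
  decide +kernel

theorem gen_check : (genL.all fun kl =>
    (kl.2.all fun i => Nat.blt i 7) &&
      (eqE [kl.1] (kl.2.flatMap rw7) || eqE [kl.1] (McLInv.tW ++ kl.2.flatMap rw7))) = true ∧
    (cLetters.all fun k => genL.any fun kl => Nat.beq kl.1 k) = true := by
  decide +kernel

theorem central_check : (cLetters.all fun k => eqE (McLInv.tW ++ [k]) ([k] ++ McLInv.tW)) = true ∧
    eqE (McLInv.tW ++ McLInv.tW) [] = true ∧ neE McLInv.tW [] = true ∧
    eqE (rw7 2 ++ rw7 4 ++ (rw7 2).reverse ++ (rw7 4).reverse) McLInv.tW = true := by
  decide +kernel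

end CfsgLib.Recog.Co3Inv
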