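import Cfsg.Agent.Lib.Recog.Co3Inv.Spec
import Cfsg.Agent.Lib.Recog.Co3Inv.CoverChecks
import Cfsg.Agent.Lib.Golay.E8CoxMult
import Cfsg.Agent.Lib.KnownA.SpStemL

/-!
A nonsplit double cover of `Sp₆(2)` is the centralizer of the first involution in the model.
-/

set_option autoImplicit false
set_option maxRecDepth 100000
set_option linter.unusedSectionVars false
set_option linter.style.haveILetI false

namespace CfsgLib.Recog.Co3Inv

open CfsgLib.InvChar.Coset CfsgLib.Golay CfsgLib.Golay.E8Cox Subgroup
open CfsgLib.Recog.McLInv (wprod_cons')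
open scoped commutatorElement

universe u v

/-! ### Stem extensions with the largest kernel -/

theorem perfect_of_stem {X : Type u} {K : Type v} [Group X] [Group K] (hK : commutator K = ⊤)
    {σ : X →* K} (h : Cfsg.IsStemExtension σ) : commutator X = ⊤ := by
  obtain ⟨hs, -, hd⟩ := h
  rw [eq_top_iff]
  intro x _
  have : σ x ∈ (commutator X).map σ := by
    rw [_root_.commutator_def, Subgroup.map_commutator, Subgroup.map_top_of_surjective σ hs,
      ← _root_.commutator_def, hK]
    exact mem_top _
  obtain ⟨y, hy, hxy⟩ := this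
  have h2 : y⁻¹ * x ∈ commutator X :=
    hd (by rw [MonoidHom.mem_ker, map_mul, map_inv, hxy, inv_mul_cancel])
  simpa using mul_mem hy h2

/-- Two stem extensions with kernels of the largest possible order are isomorphic over the group. -/
theorem exists_equiv_of_stem {X : Type u} {Y : Type v} {K : Type} [Group X] [Group Y] [Group K]
    [Finite X] [Finite Y] (hK : commutator K = ⊤) {σ₁ : X →* K} {σ₂ : Y →* K}
    (h₁ : Cfsg.IsStemExtension σ₁) (h₂ : Cfsg.IsStemExtension σ₂) {n : ℕ}
    (hn₁ : Nat.card σ₁.ker = n) (hn₂ : Nat.card σ₂.ker = n)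
    (hle : ∀ (Γ : Type max u v) [Group Γ] [Finite Γ] (σ : Γ →* K), Cfsg.IsStemExtension σ →
      Nat.card σ.ker ≤ n) : ∃ e : X ≃* Y, ∀ x, σ₂ (e x) = σ₁ x := by
  have hX := perfect_of_stem hK h₁
  have hY := perfect_of_stem hK h₂
  let F : Subgroup (X × Y) :=
    MonoidHom.eqLocus (σ₁.comp (MonoidHom.fst X Y)) (σ₂.comp (MonoidHom.snd X Y))
  let τ : F →* K := σ₁.comp ((MonoidHom.fst X Y).comp F.subtype)
  have hτ : ∀ a : F, σ₂ (a : X × Y).2 = τ a := fun a => (a.2).symm
  have hp1 : Function.Surjective ((MonoidHom.fst X Y).comp F.subtype) := fun x => by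
    obtain ⟨y, hy⟩ := h₂.1 (σ₁ x)
    exact ⟨⟨(x, y), hy.symm⟩, rfl⟩
  have hp2 : Function.Surjective ((MonoidHom.snd X Y).comp F.subtype) := fun y => by
    obtain ⟨x, hx⟩ := h₁.1 (σ₂ y)
    exact ⟨⟨(x, y), hx⟩, rfl⟩
  have hτc : τ.ker ≤ center F := fun a ha => mem_center_iff.2 fun g => by
    have ha' : σ₂ (a : X × Y).2 = 1 := (hτ a).trans ha
    refine Subtype.ext (Prod.ext ?_ ?_)
    · exact mem_center_iff.1 (h₁.2.1 (show (a : X × Y).1 ∈ σ₁.ker from ha)) _
    · exact mem_center_iff.1 (h₂.2.1 (show (a : X × Y).2 ∈ σ₂.ker from ha')) _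
  let σ : commutator F →* K := τ.comp (commutator F).subtype
  have hlift : ∀ a : F, ∃ b : commutator F, σ b = τ a := fun a => by
    have hm : τ a ∈ (commutator F).map τ := by
      rw [_root_.commutator_def, Subgroup.map_commutator,
        Subgroup.map_top_of_surjective τ (h₁.1.comp hp1), ← _root_.commutator_def, hK]
      exact mem_top _
    obtain ⟨b, hb, e⟩ := hm
    exact ⟨⟨b, hb⟩, e⟩
  have hperf : commutator (commutator F) = ⊤ := by
    refine Subgroup.map_injective (commutator F).subtype_injective ?_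
    rw [_root_.commutator_def (G := ↥(commutator F)), Subgroup.map_commutator,
      ← MonoidHom.range_eq_map, Subgroup.range_subtype]
    refine le_antisymm (commutator_le_self _) ?_
    refine Subgroup.commutator_le.2 fun a _ b _ => ?_
    obtain ⟨a', ha⟩ := hlift a
    obtain ⟨b', hb⟩ := hlift b
    rw [comm_congr hτc (X := a) (X' := (a' : F)) (Y := b) (Y' := (b' : F)) ha.symm hb.symm]
    exact commutator_mem_commutator a'.2 b'.2
  have hstem : Cfsg.IsStemExtension σ := by
    refine ⟨fun k => ?_, fun a ha => mem_center_iff.2 fun g => Subtype.ext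
      (mem_center_iff.1 (hτc (show (a : F) ∈ τ.ker from ha)) g), hperf ▸ le_top⟩
    obtain ⟨a, rfl⟩ := h₁.1.comp hp1 k
    exact hlift a
  have hle' := hle (commutator F) σ hstem
  have hcard : ∀ {Z : Type max u v} [Group Z] (π : Z →* K), Function.Surjective π →
      Nat.card Z = Nat.card K * Nat.card π.ker := fun π hπ => by
    rw [Subgroup.card_eq_card_quotient_mul_card_subgroup π.ker,
      Nat.card_congr (QuotientGroup.quotientKerEquivOfSurjective π hπ).toEquiv]
  have hcF : Nat.card (commutator F) ≤ Nat.card K * n :=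
    (hcard σ hstem.1).le.trans (Nat.mul_le_mul_left _ hle')
  let q₁ : commutator F →* X := ((MonoidHom.fst X Y).comp F.subtype).comp (commutator F).subtype
  let q₂ : commutator F →* Y := ((MonoidHom.snd X Y).comp F.subtype).comp (commutator F).subtype
  have hq₁ : Function.Surjective q₁ := fun x => by
    have hm : x ∈ (commutator F).map ((MonoidHom.fst X Y).comp F.subtype) := by
      rw [_root_.commutator_def, Subgroup.map_commutator, Subgroup.map_top_of_surjective _ hp1,
        ← _root_.commutator_def, hX]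
      exact mem_top _
    obtain ⟨b, hb, rfl⟩ := hm
    exact ⟨⟨b, hb⟩, rfl⟩
  have hq₂ : Function.Surjective q₂ := fun y => by
    have hm : y ∈ (commutator F).map ((MonoidHom.snd X Y).comp F.subtype) := by
      rw [_root_.commutator_def, Subgroup.map_commutator, Subgroup.map_top_of_surjective _ hp2,
        ← _root_.commutator_def, hY]
      exact mem_top _
    obtain ⟨b, hb, rfl⟩ := hm
    exact ⟨⟨b, hb⟩, rfl⟩
  have hcX : Nat.card X = Nat.card K * n := by
    rw [← hn₁, Subgroup.card_eq_card_quotient_mul_card_subgroup σ₁.ker,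
      Nat.card_congr (QuotientGroup.quotientKerEquivOfSurjective σ₁ h₁.1).toEquiv]
  have hcY : Nat.card Y = Nat.card K * n := by
    rw [← hn₂, Subgroup.card_eq_card_quotient_mul_card_subgroup σ₂.ker,
      Nat.card_congr (QuotientGroup.quotientKerEquivOfSurjective σ₂ h₂.1).toEquiv]
  have hb₁ : Function.Bijective q₁ := (Nat.bijective_iff_surjective_and_card _).2
    ⟨hq₁, le_antisymm (hcX ▸ hcF) (Nat.card_le_card_of_surjective q₁ hq₁)⟩
  have hb₂ : Function.Bijective q₂ := (Nat.bijective_iff_surjective_and_card _).2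
    ⟨hq₂, le_antisymm (hcY ▸ hcF) (Nat.card_le_card_of_surjective q₂ hq₂)⟩
  refine ⟨(MulEquiv.ofBijective q₁ hb₁).symm.trans (MulEquiv.ofBijective q₂ hb₂), fun x => ?_⟩
  obtain ⟨a, rfl⟩ := hq₁ x
  show σ₂ (q₂ ((MulEquiv.ofBijective q₁ hb₁).symm (MulEquiv.ofBijective q₁ hb₁ a))) = _
  rw [MulEquiv.symm_apply_apply]
  exact hτ a.1

/-! ### The symplectic group -/

theorem sp6_perfect : commutator (Matrix.symplecticGroup (Fin 3) (ZMod 2)) = ⊤ := by
  have := E8Cent.isSimple_sp
  exact perfect_of_simple E8Cent.sp_center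

theorem card_sp6 : Nat.card (Matrix.symplecticGroup (Fin 3) (ZMod 2)) = 1451520 := by
  rw [CfsgLib.KnownA.SpStemL.card_sp, ZMod.card]
  rfl

/-- The kernels of the stem extensions of `Sp₆(2)` have order at most two. -/
theorem stem_ker_le {Γ : Type u} [Group Γ] [Finite Γ]
    (σ : Γ →* Matrix.symplecticGroup (Fin 3) (ZMod 2)) (hσ : Cfsg.IsStemExtension σ) :
    Nat.card σ.ker ≤ 2 := by
  obtain ⟨π, hπ, hi⟩ := exists_pi7
  have hcard : Nat.card π.ker = 1 := by
    rw [(MonoidHom.ker_eq_bot_iff π).2 hi]; exact Subgroup.card_bot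
  exact D7.ker_le π hσ hπ sp6_perfect hcard 2 4 ⟨by decide, by decide⟩ ⟨by decide, by decide⟩
    (by decide) (hcc7 π hσ.1 hσ.2.1) (fun f hf => conn7 f hf)

/-! ### The centralizer in the model -/

theorem tm_central : tm ∈ center Cm := by
  have h : ∀ k ∈ cLetters, tm * cg k = cg k * tm := fun k hk => by
    have := eqE_sound (List.all_eq_true.1 central_check.1 k hk)
    rwa [el_append, el_append, el_singleton] at this
  have hle : (⊤ : Subgroup Cm) ≤ centralizer {tm} := by
    rw [← closure_cg, Subgroup.closure_le]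
    rintro _ ⟨k, hk, rfl⟩
    exact mem_centralizer_singleton_iff.2 (h k hk).symm
  exact mem_center_iff.2 fun g => mem_centralizer_singleton_iff.1 (hle (mem_top g))

theorem cover_tm_sq : tm * tm = 1 := by
  rw [tm, ← el_append, eqE_sound central_check.2.1, el_nil]

theorem cover_tm_ne_one : tm ≠ 1 := fun h => neE_sound central_check.2.2.1 (h.trans el_nil.symm)

theorem tm_commutator : ⁅el (rw7 2), el (rw7 4)⁆ = tm := by
  have := eqE_sound central_check.2.2.2
  rwa [el_append, el_append, el_append, el_reverse, el_reverse] at this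

instance normal_zpowers_tm : (zpowers tm).Normal :=
  ⟨fun x hx g => by
    have h : x ∈ center Cm := zpowers_le.2 tm_central hx
    rwa [mem_center_iff.1 h g, mul_inv_cancel_right]⟩

theorem card_zpowers_tm : Nat.card (zpowers tm) = 2 := by
  rw [Nat.card_zpowers]
  have : Fact (Nat.Prime 2) := ⟨Nat.prime_two⟩
  exact orderOf_eq_prime (by rw [pow_two, cover_tm_sq]) cover_tm_ne_one

/-- The centralizer in the model is a stem extension of `Sp₆(2)` with the first involution
generating the kernel. -/
theorem exists_stem_cm : ∃ σ : Cm →* Matrix.symplecticGroup (Fin 3) (ZMod 2),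
    Cfsg.IsStemExtension σ ∧ σ.ker = zpowers tm := by
  let q : Cm →* Cm ⧸ zpowers tm := QuotientGroup.mk' _
  have hq1 : ∀ L, el L ∈ zpowers tm → q (el L) = 1 := fun L h =>
    (QuotientGroup.eq_one_iff _).2 h
  let g : Fin 7 → Cm ⧸ zpowers tm := fun i => q (el (rw7 i.val))
  obtain ⟨ψ, hψ⟩ := exists_rot_hom e7 (Fin.succ_injective _) D7.o g
    (by show q (el (rw7 0)) = 1; exact hq1 _ (by rw [show rw7 0 = [] from rfl, el_nil]; exact one_mem _))
    (fun i j => by
      have h := List.all_eq_true.1 (List.all_eq_true.1 relations_check i (List.mem_finRange i)) j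
        (List.mem_finRange j)
      have e : el (relW i j) = ((el (rw7 i.val))⁻¹ * el (rw7 j.val)) ^ mE (e7 i) (e7 j) := by
        rw [relW, el_powW, el_append, el_reverse]
      show ((q _)⁻¹ * q _) ^ _ = 1
      rw [← map_inv, ← map_mul, ← map_pow, ← e]
      rw [Bool.or_eq_true] at h
      rcases h with h | h
      · exact hq1 _ (by rw [eqE_sound h, el_nil]; exact one_mem _)
      · exact hq1 _ (by rw [eqE_sound h]; exact mem_zpowers tm))
  have hword : ∀ L : List ℕ, (∀ x ∈ L, x < 7) → q (el (L.flatMap rw7)) ∈ ψ.range := by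
    intro L
    induction L with
    | nil => intro _; rw [List.flatMap_nil, el_nil, map_one]; exact one_mem _
    | cons x L ih =>
      intro h
      rw [List.flatMap_cons, el_append, map_mul]
      refine mul_mem ⟨rotW e7 D7.o ⟨x, h x (List.mem_cons_self ..)⟩, hψ _⟩
        (ih fun y hy => h y (List.mem_cons_of_mem _ hy))
  have hψs : Function.Surjective ψ := by
    rw [← MonoidHom.range_eq_top, eq_top_iff]
    have hqs : Function.Surjective q := QuotientGroup.mk'_surjective _
    rw [← Subgroup.map_top_of_surjective q hqs, ← closure_cg, MonoidHom.map_closure,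
      Subgroup.closure_le]
    rintro _ ⟨_, ⟨k, hk, rfl⟩, rfl⟩
    obtain ⟨⟨k', w⟩, hmem, hbeq⟩ := List.any_eq_true.1 (List.all_eq_true.1 gen_check.2 k hk)
    obtain rfl : k' = k := Nat.eq_of_beq_eq_true hbeq
    have h := List.all_eq_true.1 gen_check.1 _ hmem
    simp only [Bool.and_eq_true, List.all_eq_true, Bool.or_eq_true, Nat.blt_eq] at h
    obtain ⟨hw, h⟩ := h
    show q (cg k') ∈ ψ.range
    rw [← el_singleton]
    rcases h with h | h
    · rw [eqE_sound h]; exact hword w hw
    · rw [eqE_sound h, el_append, map_mul, hq1 _ (mem_zpowers tm), one_mul]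
      exact hword w hw
  obtain ⟨π, hπs, hπi⟩ := exists_pi7
  let f := MulEquiv.ofBijective π ⟨hπi, hπs⟩
  let φ : Matrix.symplecticGroup (Fin 3) (ZMod 2) →* Cm ⧸ zpowers tm := ψ.comp f.symm.toMonoidHom
  have hφs : Function.Surjective φ := hψs.comp f.symm.surjective
  have hφi : Function.Injective φ := by
    have := E8Cent.isSimple_sp
    rcases (inferInstance : φ.ker.Normal).eq_bot_or_eq_top with h | h
    · exact (MonoidHom.ker_eq_bot_iff φ).1 h
    · exfalso
      have hall : ∀ x : Cm, x ∈ zpowers tm := fun x => by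
        obtain ⟨k, hk⟩ := hφs (q x)
        rw [show φ k = 1 from (h.ge (mem_top k) : k ∈ φ.ker)] at hk
        exact (QuotientGroup.eq_one_iff x).1 hk.symm
      refine cover_tm_ne_one ?_
      rw [← tm_commutator, commutatorElement_eq_one_iff_mul_comm]
      exact (mem_center_iff.1 (zpowers_le.2 tm_central (hall (el (rw7 4)))) _)
  let e := MulEquiv.ofBijective φ ⟨hφi, hφs⟩
  let σ := e.symm.toMonoidHom.comp q
  have hker : σ.ker = zpowers tm := by
    ext x
    rw [MonoidHom.mem_ker]
    show e.symm (q x) = 1 ↔ _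
    rw [MulEquiv.map_eq_one_iff]
    exact QuotientGroup.eq_one_iff x
  refine ⟨σ, ⟨e.symm.surjective.comp (QuotientGroup.mk'_surjective _), ?_, ?_⟩, hker⟩
  · rw [hker]; exact zpowers_le.2 tm_central
  · rw [hker, zpowers_le, ← tm_commutator]
    exact commutator_mem_commutator (mem_top _) (mem_top _)

theorem card_cm : Nat.card Cm = 2903040 := by
  obtain ⟨σ, hσ, hker⟩ := exists_stem_cm
  rw [Subgroup.card_eq_card_quotient_mul_card_subgroup σ.ker,
    Nat.card_congr (QuotientGroup.quotientKerEquivOfSurjective σ hσ.1).toEquiv, card_sp6, hker,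
    card_zpowers_tm]

theorem cm_perfect : commutator Cm = ⊤ := by
  obtain ⟨σ, hσ, -⟩ := exists_stem_cm
  exact perfect_of_stem sp6_perfect hσ

/-! ### The covers -/

theorem cover_stmt (C : Type u) [Group C] : CoverStmt C := by
  intro hC t ht ht1
  obtain ⟨hcard, ⟨eK⟩, hnc⟩ := hC
  haveI : Finite (C ⧸ center C) := Finite.of_equiv _ eK.toEquiv.symm
  haveI : Finite (center C) := Nat.finite_of_card_ne_zero (by rw [hcard]; norm_num)
  haveI : Finite C := Finite.of_subgroup_quotient (center C)
  let π : C →* Matrix.symplecticGroup (Fin 3) (ZMod 2) :=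
    eK.toMonoidHom.comp (QuotientGroup.mk' (center C))
  have hπs : Function.Surjective π := eK.surjective.comp (QuotientGroup.mk'_surjective _)
  have hker : π.ker = center C := by
    ext x
    rw [MonoidHom.mem_ker]
    show eK (QuotientGroup.mk x) = 1 ↔ _
    rw [MulEquiv.map_eq_one_iff]
    exact QuotientGroup.eq_one_iff x
  have htwo : ∀ x ∈ center C, x = 1 ∨ x = t := fun x hx => by
    obtain ⟨a, b, hab, huniv⟩ := Nat.card_eq_two_iff.1 hcard
    have h1 : (1 : center C) ∈ ({a, b} : Set (center C)) := huniv ▸ Set.mem_univ _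
    have h2 : (⟨t, ht⟩ : center C) ∈ ({a, b} : Set (center C)) := huniv ▸ Set.mem_univ _
    have h3 : (⟨x, hx⟩ : center C) ∈ ({a, b} : Set (center C)) := huniv ▸ Set.mem_univ _
    have hne : (1 : center C) ≠ ⟨t, ht⟩ := fun h => ht1 (congrArg Subtype.val h).symm
    simp only [Set.mem_insert_iff, Set.mem_singleton_iff] at h1 h2 h3
    rcases h1 with h1 | h1 <;> rcases h2 with h2 | h2 <;> rcases h3 with h3 | h3 <;>
      first
      | exact absurd (h1.trans h2.symm) hne
      | exact Or.inl (congrArg Subtype.val (h3.trans h1.symm))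
      | exact Or.inr (congrArg Subtype.val (h3.trans h2.symm))
  have htc : t ∈ commutator C := by
    by_contra htn
    refine hnc (commutator C) (Subgroup.isComplement'_of_disjoint_and_mul_eq_univ ?_ ?_)
    · rw [Subgroup.disjoint_def]
      intro x hx hx'
      rcases htwo x hx with h | h
      · exact h
      · exact absurd (h ▸ hx') htn
    · refine Set.eq_univ_of_forall fun x => ?_
      have : π x ∈ (commutator C).map π := by
        rw [_root_.commutator_def, Subgroup.map_commutator, Subgroup.map_top_of_surjective π hπs,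
          ← _root_.commutator_def, sp6_perfect]
        exact mem_top _
      obtain ⟨y, hy, hxy⟩ := this
      refine Set.mem_mul.2 ⟨x * y⁻¹, ?_, y, hy, inv_mul_cancel_right x y⟩
      rw [SetLike.mem_coe, ← hker, MonoidHom.mem_ker, map_mul, map_inv, hxy, mul_inv_cancel]
  have hstem : Cfsg.IsStemExtension π := by
    refine ⟨hπs, hker.le, fun x hx => ?_⟩
    rcases htwo x (hker ▸ hx) with h | h <;> rw [h]
    · exact one_mem _
    · exact htc
  obtain ⟨σ, hσ, hσk⟩ := exists_stem_cm
  obtain ⟨e, he⟩ := exists_equiv_of_stem sp6_perfect hσ hstem (n := 2)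
    (by rw [hσk]; exact card_zpowers_tm) (by rw [hker]; exact hcard)
    (fun Γ _ _ τ hτ => stem_ker_le τ hτ)
  refine ⟨e, ?_⟩
  have h1 : σ tm = 1 := (hσk.ge (mem_zpowers tm) : tm ∈ σ.ker)
  rcases htwo (e tm) (hker ▸ MonoidHom.mem_ker.2 ((he tm).trans h1)) with h | h
  · exact absurd (e.injective (h.trans (map_one e).symm)) cover_tm_ne_one
  · exact h

end CfsgLib.Recog.Co3Inv
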