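import Mathlib.Data.Nat.Notation

/-!
Certificate for the automorphisms of the centralizer of two involutions that exchange them.
-/

set_option autoImplicit false
set_option maxRecDepth 100000

namespace CfsgLib.Recog.Co3Inv

/-- Six generators of the centralizer of the second involution. -/
def swGen : List (List ℕ) :=
  [[0, 4, 0, 9, 4, 9, 3, 1, 9, 3], [2, 5, 3, 1, 9, 3, 4, 0, 9, 4, 1], [0, 1, 2, 5, 2, 5, 9, 2, 5], [2, 5,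
  0, 2, 5, 1, 9, 2, 5], [2, 5, 1, 2, 5, 0, 9, 2, 5], [1, 3, 1, 9, 3, 2, 5, 1]]

/-- The four candidate images of the generators. -/
def swTgt : List (List (List ℕ)) :=
  [[[2, 5, 0, 4, 0, 9, 4, 1, 3, 1, 9, 3], [0, 9, 2, 5, 1, 3, 1, 9, 3, 4, 0, 9, 4], [0, 4, 0, 9, 4, 4, 0,
  9, 4, 9], [4, 0, 9, 4, 2, 5, 1, 4, 0, 9, 4, 2, 5], [0, 4, 0, 9, 4, 1, 2, 5, 4, 0, 9, 4, 2, 5], [1, 9, 3,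
  1, 9, 3, 1, 2, 5, 1]], [[2, 5, 0, 4, 0, 9, 4, 1, 3, 1, 9, 3], [0, 9, 2, 5, 1, 3, 1, 9, 3, 4, 0, 9, 4],
  [0, 4, 0, 9, 4, 4, 0, 9, 4, 9], [4, 0, 9, 4, 2, 5, 1, 4, 0, 9, 4, 2, 5], [0, 4, 0, 9, 4, 1, 2, 5, 4, 0,
  9, 4, 2, 5], [1, 3, 1, 9, 3, 2, 5, 1]], [[2, 5, 0, 4, 0, 9, 4, 1, 3, 1, 9, 3], [0, 9, 2, 5, 1, 3, 1, 9,
  3, 4, 0, 9, 4], [0, 4, 0, 9, 4, 4, 0, 9, 4, 9], [4, 0, 9, 4, 2, 5, 1, 4, 0, 9, 4, 2, 5], [0, 4, 0, 9, 4,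
  1, 2, 5, 4, 0, 9, 4, 2, 5], [1, 2, 5, 0, 2, 5, 9, 3, 1, 9, 3]], [[2, 5, 0, 4, 0, 9, 4, 1, 3, 1, 9, 3],
  [0, 9, 2, 5, 1, 3, 1, 9, 3, 4, 0, 9, 4], [0, 4, 0, 9, 4, 4, 0, 9, 4, 9], [4, 0, 9, 4, 2, 5, 1, 4, 0, 9,
  4, 2, 5], [0, 4, 0, 9, 4, 1, 2, 5, 4, 0, 9, 4, 2, 5], [0, 1, 0, 3, 1, 9, 3, 2, 5, 1]]]

/-- The candidate images as words in the generators. -/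
def swTgtIdx : List (List (List ℕ)) :=
  [[[2, 1, 5, 0, 2, 5], [2, 1, 2, 4], [0, 5, 4, 0, 5], [0, 3, 0, 0], [1, 2, 1, 1], [3, 3, 5]], [[2, 1, 5,
  0, 2, 5], [2, 1, 2, 4], [0, 5, 4, 0, 5], [0, 3, 0, 0], [1, 2, 1, 1], [5]], [[2, 1, 5, 0, 2, 5], [2, 1,
  2, 4], [0, 5, 4, 0, 5], [0, 3, 0, 0], [1, 2, 1, 1], [4, 4, 5]], [[2, 1, 5, 0, 2, 5], [2, 1, 2, 4], [0,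
  5, 4, 0, 5], [0, 3, 0, 0], [1, 2, 1, 1], [2, 2, 5]]]

/-- The named elements as words in the generators. -/
def swName : List (List ℕ) :=
  [[0, 2, 3, 0, 4, 0, 3], [0, 2, 3, 0, 4, 0, 4], [4, 0, 1, 2], [1, 5, 2, 3, 4, 1, 5], [1, 3, 0, 3, 5, 0]]

/-- The third element of order three as a word in the first two generators. -/
def swThird : List ℕ :=
  [0, 1, 1]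

/-- The two involutions as words in the generators. -/
def swTV : List (List ℕ) :=
  [[2, 2], [4, 4]]

/-- Relations among the first five generators. -/
def swRel5 : List (List ℕ) :=
  [[0, 2, 3, 0, 3, 0, 2, 3], [1, 3, 2, 3, 1, 2, 1, 2], [0, 4, 0, 4, 2, 2, 0, 4]]

/-- Relations among all generators. -/
def swRel6 : List (List ℕ) :=
  [[0, 4, 2, 5, 2, 0, 4, 5], [0, 3, 5, 0, 3, 5]]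

/-- Representatives of the elements of order three. -/
def swRep : List (List ℕ) :=
  [[0, 4, 0, 9, 4, 9, 3, 1, 9, 3], [2, 5, 3, 1, 9, 3, 4, 0, 9, 4, 1], [0, 1, 3, 1, 9, 3, 0, 9, 2, 5, 4, 0,
  9, 4], [0, 2, 5, 9]]

/-- The elements of order three: key, representative and conjugator. -/
def swThree : List (ℕ × ℕ × List ℕ) :=
  [(4274963, 3, [3, 1, 9, 3, 2, 5]), (6765526, 3, [9, 2, 5, 4, 0, 9, 4, 0]), (9054506, 3, [2, 5, 4, 0, 9,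
  4, 2, 5, 1]), (9759394, 0, [3, 1, 9, 3, 2, 5]), (10597329, 2, [3, 1, 9, 3, 2, 5]), (13545085, 2, [4, 0,
  9, 4, 2, 5, 2, 5]), (14505782, 3, [4, 0, 9, 4, 2, 5, 1, 0]), (15483142, 3, [4, 0, 9, 4, 9, 1, 0]),
  (15830333, 0, [4, 0, 9, 4, 2, 5]), (16004782, 3, [4, 0, 9, 4, 2, 5, 1]), (17568278, 3, [0, 2, 5, 3, 1,
  9, 3, 1]), (17750758, 3, [4, 0, 9, 4, 1, 2, 5]), (22639370, 1, [3, 1, 9, 3, 9, 0]), (23386066, 1, [2, 5,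
  0]), (26433105, 1, [3, 1, 9, 3, 2, 5]), (28703667, 1, [9, 1]), (30442718, 1, [3, 1, 9, 3, 1]),
  (30714051, 1, [0, 2, 5, 0]), (39520473, 1, [3, 1, 9, 3, 2, 5, 0]), (40116910, 1, [9, 1, 0]), (127358267,
  3, [4, 0, 9, 4, 3, 1, 9, 3, 2, 5, 1]), (130413638, 3, [1, 2, 5, 1]), (132246483, 0, [2, 5]), (132474806,
  3, [2, 5, 1]), (132867166, 3, [9, 1]), (133840714, 2, [1, 2, 5]), (134783270, 3, [1, 0, 2, 5, 1, 0]),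
  (134983595, 3, [9, 2, 5, 1]), (135167782, 3, [3, 1, 9, 3, 3, 1, 9, 3]), (135585033, 0, [3, 1, 9, 3, 3,
  1, 9, 3]), (143511443, 3, [9, 0, 2, 5, 1, 0]), (144762489, 2, [9, 1]), (360970382, 1, [4, 0, 9, 4, 1]),
  (369570933, 1, [4, 0, 9, 4]), (373048989, 1, [1, 2, 5]), (374217849, 1, [1]), (589249450, 3, [4, 0, 9,
  4, 4, 0, 9, 4, 9]), (590368726, 2, [4, 0, 9, 4, 3, 1, 9, 3, 0]), (592878134, 3, [2, 5]), (593796662, 3,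
  [1, 2, 5]), (596834819, 3, [9, 1, 0, 2, 5, 0]), (598735293, 2, [0]), (598775099, 3, [9, 2, 5]),
  (598887707, 3, [9, 0, 2, 5, 0]), (602949157, 0, [2, 5, 1]), (605751094, 3, [2, 5, 9, 1, 0]), (608601722,
  0, [9, 0]), (608967002, 3, [1, 0, 2, 5, 0]), (673933858, 3, [3, 1, 9, 3, 2, 5, 4, 0, 9, 4, 9, 0]),
  (675219861, 2, [1, 0]), (677068390, 3, [4, 0, 9, 4, 4, 0, 9, 4, 0]), (677509895, 3, [1, 4, 0, 9, 4, 3,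
  1, 9, 3, 0]), (678266943, 0, [2, 5, 0]), (679177150, 3, [9, 2, 5, 9, 1]), (681470158, 3, [0, 2, 5, 2, 5,
  1]), (681574642, 3, [2, 5, 9, 1]), (681847010, 3, [2, 5, 0]), (682080214, 2, [2, 5, 1]), (683451381, 0,
  [0]), (690567118, 3, [0, 2, 5, 1, 2, 5]), (1135879750, 3, [4, 0, 9, 4, 0]), (1138025775, 0, [4, 0, 9, 4,
  9, 0]), (1138193414, 3, [4, 0, 9, 4, 3, 1, 9, 3, 3, 1, 9, 3]), (1138592278, 3, [3, 1, 9, 3, 1, 2, 5]),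
  (1139372254, 3, [3, 1, 9, 3, 1, 0]), (1140051722, 3, [2, 5, 4, 0, 9, 4, 0]), (1140463238, 3, [2, 5, 4,
  0, 9, 4, 9, 0]), (1142964237, 0, [4, 0, 9, 4]), (1144324918, 3, [2, 5, 4, 0, 9, 4, 2, 5, 1, 0]),
  (1144704735, 2, [3, 1, 9, 3, 0]), (1151295830, 2, [2, 5, 3, 1, 9, 3, 0]), (1153138211, 3, [2, 5, 3, 1,
  9, 3, 0]), (1220034925, 1, [4, 0, 9, 4, 9, 0]), (1220228505, 1, []), (1223081933, 1, [0, 2, 5]),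
  (1239130959, 1, [4, 0, 9, 4, 1, 0]), (1263386721, 2, [3, 1, 9, 3, 1]), (1265802290, 3, [4, 0, 9, 4, 9,
  2, 5, 0]), (1266206398, 3, [3, 1, 9, 3, 1]), (1267753361, 0, [0, 3, 1, 9, 3]), (1270465259, 3, [1, 4, 0,
  9, 4, 9]), (1271044417, 2, [1, 4, 0, 9, 4]), (1271638535, 3, [3, 1, 9, 3, 9, 2, 5, 0]), (1272339575, 3,
  [4, 0, 9, 4, 9, 1]), (1278481342, 3, [1, 2, 5, 4, 0, 9, 4, 2, 5, 0]), (1278832414, 3, [3, 1, 9, 3, 2, 5,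
  1, 2, 5]), (1279460038, 3, [4, 0, 9, 4, 0, 2, 5, 1, 0]), (1280766442, 0, [3, 1, 9, 3, 1]), (1472177079,
  0, [0, 2, 5]), (1473793130, 3, [0, 2, 5, 1]), (1474566758, 3, [4, 0, 9, 4, 3, 1, 9, 3, 2, 5, 0]),
  (1475762554, 3, [9, 1, 0]), (1476094091, 3, [2, 5, 9, 2, 5, 1]), (1482613211, 3, [9, 2, 5, 1, 0]),
  (1483010453, 2, [9, 1, 0]), (1484469621, 0, [3, 1, 9, 3, 3, 1, 9, 3, 0]), (1487825139, 2, [3, 1, 9, 3,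
  3, 1, 9, 3, 0]), (1489765846, 3, [3, 1, 9, 3, 3, 1, 9, 3, 0]), (1492131347, 3, [4, 0, 9, 4, 3, 1, 9, 3,
  9, 0]), (1492288166, 3, [1, 2, 5, 1, 0]), (2125057839, 1, [3, 1, 9, 3]), (2129972295, 1, [0, 3, 1, 9,
  3]), (2132684787, 1, [9]), (2135874610, 1, [9, 0]), (2398570485, 1, [2, 5]), (2409114377, 1, [0]),
  (2415633951, 1, [3, 1, 9, 3, 0]), (2415983221, 1, [4, 0, 9, 4, 0]), (2461169941, 0, [1]), (2461426982,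
  0, [2, 5, 2, 5]), (2462762075, 3, [4, 0, 9, 4, 3, 1, 9, 3, 2, 5]), (2463334870, 3, [0]), (2463988438, 3,
  [1, 0]), (2464401274, 2, [2, 5]), (2467966270, 3, [1, 0, 2, 5, 2, 5]), (2474376922, 3, [0, 2, 5, 2, 5]),
  (2475343862, 3, [2, 5, 1, 0]), (2476726509, 2, [9]), (2479910170, 3, [9, 0]), (2480210062, 3, [3, 1, 9,
  3, 3, 1, 9, 3, 1, 0]), (3133014326, 3, [4, 0, 9, 4, 2, 5, 2, 5]), (3133806214, 3, [4, 0, 9, 4, 2, 5]),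
  (3137622310, 3, [3, 1, 9, 3, 4, 0, 9, 4, 3, 1, 9, 3, 9, 0]), (3139046531, 3, [3, 1, 9, 3, 9, 0]),
  (3139811930, 3, [2, 5, 4, 0, 9, 4, 2, 5]), (3140744302, 3, [0, 3, 1, 9, 3, 1, 0]), (3147213290, 2, [3,
  1, 9, 3, 9, 0]), (3147353559, 2, [0, 3, 1, 9, 3, 0]), (3149468326, 0, [4, 0, 9, 4, 0]), (3152780093, 0,
  [4, 0, 9, 4, 9]), (3152944010, 3, [2, 5, 3, 1, 9, 3, 1, 2, 5]), (3153261730, 3, [4, 0, 9, 4, 9, 0]),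
  (3238365959, 3, [4, 0, 9, 4]), (3240208203, 0, [0, 3, 1, 9, 3, 0]), (3240622750, 3, [4, 0, 9, 4, 3, 1,
  9, 3, 3, 1, 9, 3, 0]), (3240985966, 3, [3, 1, 9, 3, 2, 5, 1]), (3241854599, 3, [3, 1, 9, 3, 0]),
  (3242896438, 3, [3, 1, 9, 3, 2, 5, 9, 1]), (3243255218, 2, [4, 0, 9, 4, 1]), (3244554155, 3, [3, 1, 9,
  3]), (3246835390, 3, [1, 4, 0, 9, 4, 9, 0]), (3248915445, 0, [1, 4, 0, 9, 4]), (3251810175, 2, [4, 0, 9,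
  4, 0]), (3255085538, 3, [2, 5, 3, 1, 9, 3, 1, 0]), (3637556842, 3, [2, 5, 2, 5, 1]), (3637852870, 3, [4,
  0, 9, 4, 4, 0, 9, 4]), (3639380254, 3, [4, 0, 9, 4, 4, 0, 9, 4, 1]), (3640634889, 0, []), (3642431339,
  3, [9, 1, 2, 5]), (3649303719, 0, [0, 2, 5, 0]), (3653276534, 3, [0, 2, 5, 0]), (3653432518, 3, [3, 1,
  9, 3, 2, 5, 4, 0, 9, 4, 0]), (3654015279, 2, [2, 5, 2, 5]), (3654535397, 2, [1]), (3654777034, 3, [2, 5,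
  1, 2, 5]), (3657606862, 3, [2, 5, 1, 2, 5, 0]), (3680052106, 0, [3, 1, 9, 3, 0]), (3683650835, 3, [4, 0,
  9, 4, 9]), (3687423418, 3, [3, 1, 9, 3, 2, 5, 9, 1, 0]), (3687865059, 2, [3, 1, 9, 3]), (3687910558, 3,
  [3, 1, 9, 3, 2, 5, 1, 0]), (3688122914, 3, [2, 5, 0, 3, 1, 9, 3, 1]), (3688374670, 3, [1, 4, 0, 9, 4,
  0]), (3690576581, 0, [1, 4, 0, 9, 4, 9]), (3695469646, 3, [4, 0, 9, 4, 0, 2, 5, 2, 5]), (3698516666, 2,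
  [1, 4, 0, 9, 4, 0]), (3699553403, 3, [0, 3, 1, 9, 3]), (3699596183, 3, [0, 3, 1, 9, 3, 0]), (3954176133,
  2, [3, 1, 9, 3, 1, 0]), (3954684818, 3, [2, 5, 3, 1, 9, 3, 1]), (3956857810, 3, [4, 0, 9, 4, 9, 2, 5,
  1]), (3959571733, 2, [4, 0, 9, 4, 1, 2, 5]), (3961290275, 3, [3, 1, 9, 3, 2, 5, 0]), (3961382278, 3, [3,
  1, 9, 3, 9, 1, 0]), (3962131850, 3, [2, 5, 1, 4, 0, 9, 4, 0]), (3962227510, 3, [2, 5, 4, 0, 9, 4, 2, 5,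
  0]), (3968530797, 0, [4, 0, 9, 4, 1]), (3970447347, 0, [3, 1, 9, 3, 2, 5, 0]), (3972686918, 3, [4, 0, 9,
  4, 9, 2, 5, 1, 0]), (3972978694, 3, [4, 0, 9, 4, 1, 0]), (4668512123, 3, [1, 4, 0, 9, 4]), (4668660386,
  3, [4, 0, 9, 4, 2, 5, 0]), (4668834987, 0, [3, 1, 9, 3, 2, 5, 1]), (4669560647, 3, [4, 0, 9, 4, 1]),
  (4670492457, 2, [4, 0, 9, 4]), (4670891734, 3, [3, 1, 9, 3, 9, 2, 5, 1]), (4673780350, 3, [2, 5, 2, 5,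
  4, 0, 9, 4, 2, 5]), (4674320638, 3, [0, 3, 1, 9, 3, 1]), (4676340249, 0, [3, 1, 9, 3]), (4677530699, 3,
  [3, 1, 9, 3, 9, 2, 5]), (4681702549, 2, [4, 0, 9, 4, 1, 0]), (4687827370, 3, [2, 5, 2, 5, 4, 0, 9, 4,
  0]), (4710500279, 3, [4, 0, 9, 4, 3, 1, 9, 3, 0]), (4712776390, 3, [4, 0, 9, 4, 4, 0, 9, 4, 9, 0]),
  (4716240026, 3, [1, 0, 2, 5]), (4716428810, 3, [1, 2, 5, 0]), (4718510075, 3, [9, 2, 5, 0]),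
  (4718645642, 3, [0, 2, 5]), (4720703391, 2, [9, 2, 5]), (4722455414, 0, [9]), (4727021165, 2, []),
  (4727254402, 3, [0, 2, 5, 9, 1, 0]), (4729154125, 0, [0, 2, 5, 1]), (4729719815, 3, [9, 1, 2, 5, 0]),
  (5006924081, 2, [9, 0]), (5007080219, 3, [9, 1, 2, 5, 1]), (5008643854, 3, [1]), (5008868518, 3, []),
  (5010938362, 3, [1, 2, 5, 2, 5]), (5011237827, 2, [0, 2, 5]), (5012838346, 3, [2, 5, 2, 5]),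
  (5013323002, 3, [9]), (5013522982, 3, [3, 1, 9, 3, 3, 1, 9, 3, 1]), (5013756769, 0, [1, 0]),
  (5021157098, 3, [0, 2, 5, 1, 0]), (5024637050, 0, [1, 2, 5, 0]), (5182558017, 1, [4, 0, 9, 4, 9]),
  (5183319821, 1, [9, 2, 5, 0]), (5184285821, 1, [1, 0]), (5188592642, 1, [3, 1, 9, 3, 1, 0]),
  (5769206139, 1, [9, 2, 5]), (5774715265, 1, [4, 0, 9, 4, 2, 5]), (5774978845, 1, [2, 5, 4, 0, 9, 4, 0]),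
  (5775664354, 1, [1, 2, 5, 0])]

/-- The centralizers of the representatives, by increasing key. -/
def swCent : List (List (List ℕ)) :=
  [[[1, 4, 0, 9, 4, 4, 0, 9, 4, 3, 1, 9, 3, 4, 0, 9, 4, 0], [4, 0, 9, 4, 4, 0, 9, 4, 3, 1, 9, 3, 4, 0, 9,
  4], [0, 2, 5, 9, 4, 0, 9, 4, 3, 1, 9, 3], [1, 2, 5, 0, 9, 2, 5], [0, 2, 5, 4, 0, 9, 4, 0, 3, 1, 9, 3],
  [0, 4, 0, 9, 4, 2, 5, 0, 1, 4, 0, 9, 4], [], [3, 1, 9, 3, 2, 5, 9, 1, 2, 5, 4, 0, 9, 4], [9, 0, 4, 0, 9,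
  4, 2, 5, 3, 1, 9, 3, 1], [1, 9, 1, 9], [0, 2, 5, 1, 2, 5, 4, 0, 9, 4, 3, 1, 9, 3], [3, 1, 9, 3, 4, 0, 9,
  4, 2, 5, 9, 0], [2, 5, 4, 0, 9, 4, 9, 2, 5, 3, 1, 9, 3], [0, 3, 1, 9, 3, 4, 0, 9, 4, 3, 1, 9, 3, 1, 4,
  0, 9, 4], [2, 5, 9, 3, 1, 9, 3, 3, 1, 9, 3], [2, 5, 3, 1, 9, 3, 1, 3, 1, 9, 3], [2, 5, 3, 1, 9, 3, 4, 0,
  9, 4, 2, 5, 0, 1], [1, 3, 1, 9, 3, 0, 2, 5, 1, 4, 0, 9, 4], [0, 1, 4, 0, 9, 4, 0, 4, 0, 9, 4, 3, 1, 9,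
  3, 3, 1, 9, 3], [0, 4, 0, 9, 4, 1, 2, 5, 4, 0, 9, 4, 2, 5], [4, 0, 9, 4, 1, 2, 5, 3, 1, 9, 3], [1, 4, 0,
  9, 4, 1, 2, 5, 1, 3, 1, 9, 3], [0, 3, 1, 9, 3, 1, 4, 0, 9, 4, 2, 5], [0, 9, 3, 1, 9, 3, 4, 0, 9, 4, 2,
  5], [1, 2, 5, 0, 1], [9, 4, 0, 9, 4, 0, 3, 1, 9, 3], [2, 5, 3, 1, 9, 3, 4, 0, 9, 4, 9, 2, 5], [2, 5, 1,
  4, 0, 9, 4, 4, 0, 9, 4, 0], [4, 0, 9, 4, 3, 1, 9, 3], [0, 1, 9, 3, 1, 9, 3, 2, 5, 9, 4, 0, 9, 4], [0, 2,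
  5, 2, 5, 4, 0, 9, 4, 3, 1, 9, 3, 0, 2, 5], [0, 9, 4, 0, 9, 4, 3, 1, 9, 3, 4, 0, 9, 4, 4, 0, 9, 4, 9],
  [0, 3, 1, 9, 3, 0, 2, 5, 4, 0, 9, 4], [1, 9, 2, 5], [9, 1, 2, 5], [4, 0, 9, 4, 1, 2, 5, 3, 1, 9, 3, 4,
  0, 9, 4, 3, 1, 9, 3], [0, 2, 5, 2, 5, 4, 0, 9, 4, 2, 5, 1, 3, 1, 9, 3], [2, 5, 2, 5, 1, 9], [2, 5, 2, 5,
  9, 1], [0, 2, 5, 2, 5, 1, 4, 0, 9, 4, 2, 5, 3, 1, 9, 3], [1, 3, 1, 9, 3, 0, 1, 4, 0, 9, 4], [1, 9, 3, 1,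
  9, 3, 4, 0, 9, 4, 9], [2, 5, 3, 1, 9, 3, 4, 0, 9, 4, 1], [2, 5, 0, 4, 0, 9, 4, 9, 3, 1, 9, 3, 2, 5], [9,
  2, 5, 3, 1, 9, 3, 4, 0, 9, 4], [9, 2, 5, 4, 0, 9, 4, 2, 5, 2, 5, 3, 1, 9, 3], [3, 1, 9, 3, 4, 0, 9, 4,
  4, 0, 9, 4, 3, 1, 9, 3, 4, 0, 9, 4, 4, 0, 9, 4], [2, 5, 0, 4, 0, 9, 4, 1, 2, 5, 4, 0, 9, 4], [1, 9, 3,
  1, 9, 3, 0, 4, 0, 9, 4], [1, 3, 1, 9, 3, 1, 0, 4, 0, 9, 4], [4, 0, 9, 4, 4, 0, 9, 4, 2, 5, 2, 5, 9], [1,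
  2, 5, 1, 2, 5, 9], [1, 9, 4, 0, 9, 4, 2, 5, 2, 5, 3, 1, 9, 3, 1], [1, 9, 4, 0, 9, 4, 2, 5, 2, 5, 9, 3,
  1, 9, 3], [3, 1, 9, 3, 2, 5, 9, 4, 0, 9, 4, 1], [3, 1, 9, 3, 2, 5, 4, 0, 9, 4, 0, 1], [1, 4, 0, 9, 4, 3,
  1, 9, 3, 0, 1], [1, 0, 4, 0, 9, 4, 3, 1, 9, 3, 0], [0, 9, 2, 5, 1, 0, 9], [9, 0, 2, 5, 0, 1, 9], [1, 9,
  2, 5, 4, 0, 9, 4, 2, 5, 4, 0, 9, 4], [2, 5, 0, 3, 1, 9, 3, 4, 0, 9, 4, 0], [2, 5, 0, 1, 3, 1, 9, 3, 4,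
  0, 9, 4], [3, 1, 9, 3, 4, 0, 9, 4, 3, 1, 9, 3, 2, 5, 4, 0, 9, 4], [2, 5, 2, 5, 1, 9, 4, 0, 9, 4, 3, 1,
  9, 3], [0, 1, 2, 5, 2, 5, 9, 2, 5], [2, 5, 4, 0, 9, 4, 1, 9, 2, 5, 4, 0, 9, 4], [2, 5, 9, 2, 5, 1, 0, 2,
  5], [0, 9, 0, 2, 5, 3, 1, 9, 3, 4, 0, 9, 4], [1, 2, 5, 4, 0, 9, 4, 3, 1, 9, 3, 2, 5, 9], [2, 5, 4, 0, 9,
  4, 3, 1, 9, 3, 2, 5], [9, 2, 5, 3, 1, 9, 3, 0, 4, 0, 9, 4, 9], [0, 9, 2, 5, 0, 1, 9], [3, 1, 9, 3, 0, 4,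
  0, 9, 4, 2, 5, 2, 5], [0, 9, 2, 5, 0, 9, 1], [3, 1, 9, 3, 2, 5, 4, 0, 9, 4, 1, 0], [0, 1, 4, 0, 9, 4, 3,
  1, 9, 3, 0], [1, 4, 0, 9, 4, 3, 1, 9, 3, 1, 0], [0, 1, 3, 1, 9, 3, 4, 0, 9, 4, 1, 3, 1, 9, 3, 3, 1, 9,
  3], [0, 1, 3, 1, 9, 3, 4, 0, 9, 4, 3, 1, 9, 3, 3, 1, 9, 3, 1], [9, 0, 2, 5, 0, 2, 5], [0, 4, 0, 9, 4, 1,
  3, 1, 9, 3, 2, 5], [9, 2, 5, 1, 4, 0, 9, 4, 1, 3, 1, 9, 3], [0, 4, 0, 9, 4, 9, 2, 5, 4, 0, 9, 4], [3, 1,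
  9, 3, 4, 0, 9, 4, 3, 1, 9, 3, 3, 1, 9, 3], [0, 4, 0, 9, 4, 4, 0, 9, 4, 0, 3, 1, 9, 3, 4, 0, 9, 4], [1,
  4, 0, 9, 4, 1, 3, 1, 9, 3, 0, 2, 5], [4, 0, 9, 4, 2, 5, 2, 5, 1, 3, 1, 9, 3], [0, 1, 2, 5, 9, 2, 5, 0],
  [1, 2, 5, 9, 0, 2, 5], [0, 4, 0, 9, 4, 3, 1, 9, 3, 1], [0, 4, 0, 9, 4, 9, 3, 1, 9, 3], [1, 2, 5, 1, 0],
  [4, 0, 9, 4, 4, 0, 9, 4, 2, 5, 0], [2, 5, 3, 1, 9, 3, 0, 4, 0, 9, 4, 2, 5], [4, 0, 9, 4, 1, 2, 5, 4, 0,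
  9, 4, 3, 1, 9, 3, 4, 0, 9, 4], [2, 5, 0, 1, 2, 5, 0], [0, 2, 5, 1, 2, 5], [0, 9, 3, 1, 9, 3, 4, 0, 9, 4,
  9, 1], [2, 5, 4, 0, 9, 4, 1, 3, 1, 9, 3, 1], [0, 9, 3, 1, 9, 3, 4, 0, 9, 4, 1, 9], [2, 5, 4, 0, 9, 4, 1,
  9, 3, 1, 9, 3], [2, 5, 0, 4, 0, 9, 4, 1, 3, 1, 9, 3], [0, 4, 0, 9, 4, 3, 1, 9, 3, 2, 5, 1, 0], [0, 1, 2,
  5, 2, 5, 1], [2, 5, 3, 1, 9, 3, 1, 2, 5, 4, 0, 9, 4], [0, 2, 5, 2, 5, 4, 0, 9, 4, 4, 0, 9, 4], [4, 0, 9,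
  4, 3, 1, 9, 3, 4, 0, 9, 4, 3, 1, 9, 3], [9, 2, 5, 2, 5, 0], [4, 0, 9, 4, 2, 5, 4, 0, 9, 4], [0, 1, 4, 0,
  9, 4, 4, 0, 9, 4, 3, 1, 9, 3, 4, 0, 9, 4, 1], [1, 9, 2, 5, 4, 0, 9, 4, 3, 1, 9, 3], [0, 2, 5, 3, 1, 9,
  3, 4, 0, 9, 4, 2, 5, 0, 2, 5], [1, 2, 5, 4, 0, 9, 4, 3, 1, 9, 3, 0], [0, 2, 5, 2, 5, 3, 1, 9, 3, 4, 0,
  9, 4], [1, 0, 9, 0, 2, 5], [0, 9, 4, 0, 9, 4, 1, 3, 1, 9, 3, 4, 0, 9, 4, 4, 0, 9, 4], [9, 2, 5, 4, 0, 9,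
  4, 4, 0, 9, 4], [0, 1, 3, 1, 9, 3, 0, 9, 2, 5, 4, 0, 9, 4], [0, 9, 3, 1, 9, 3, 3, 1, 9, 3, 4, 0, 9, 4,
  1, 3, 1, 9, 3], [0, 2, 5, 1, 9, 1], [0, 2, 5, 9], [1, 2, 5, 2, 5, 3, 1, 9, 3, 1, 4, 0, 9, 4], [1, 2, 5,
  2, 5, 9, 3, 1, 9, 3, 4, 0, 9, 4], [3, 1, 9, 3, 0, 4, 0, 9, 4, 3, 1, 9, 3, 4, 0, 9, 4, 1], [2, 5, 0, 4,
  0, 9, 4, 2, 5, 3, 1, 9, 3], [4, 0, 9, 4, 1, 9, 2, 5, 4, 0, 9, 4, 2, 5], [9, 2, 5, 1, 0, 2, 5, 2, 5], [9,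
  0, 3, 1, 9, 3, 4, 0, 9, 4, 2, 5], [4, 0, 9, 4, 2, 5, 4, 0, 9, 4, 4, 0, 9, 4, 3, 1, 9, 3], [0, 1, 2, 5,
  9, 3, 1, 9, 3, 4, 0, 9, 4], [0, 4, 0, 9, 4, 9, 1, 2, 5, 3, 1, 9, 3], [0, 3, 1, 9, 3, 0, 4, 0, 9, 4, 2,
  5, 0], [3, 1, 9, 3, 4, 0, 9, 4, 2, 5, 0, 9], [0, 9, 4, 0, 9, 4, 2, 5, 3, 1, 9, 3, 1], [0, 1, 0, 1], [0,
  9, 0, 9], [0, 9, 4, 0, 9, 4, 2, 5, 9, 3, 1, 9, 3], [2, 5, 4, 0, 9, 4, 2, 5, 4, 0, 9, 4, 1, 9], [0, 2, 5,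
  2, 5, 9, 2, 5, 1], [2, 5, 1, 0, 3, 1, 9, 3, 4, 0, 9, 4], [1, 4, 0, 9, 4, 2, 5, 3, 1, 9, 3, 1, 0], [1, 4,
  0, 9, 4, 2, 5, 9, 3, 1, 9, 3, 0], [0, 2, 5, 1, 3, 1, 9, 3, 4, 0, 9, 4, 9]], [[2, 5, 2, 5, 4, 0, 9, 4, 2,
  5, 3, 1, 9, 3], [2, 5, 3, 1, 9, 3, 4, 0, 9, 4, 3, 1, 9, 3, 4, 0, 9, 4, 1], [0, 2, 5, 9, 4, 0, 9, 4, 3,
  1, 9, 3], [9, 4, 0, 9, 4, 0, 3, 1, 9, 3, 2, 5, 1], [2, 5, 1, 4, 0, 9, 4, 3, 1, 9, 3], [0, 1, 9, 4, 0, 9,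
  4, 3, 1, 9, 3, 2, 5], [0, 2, 5, 4, 0, 9, 4, 0, 3, 1, 9, 3], [4, 0, 9, 4, 3, 1, 9, 3, 2, 5, 1], [0, 1, 4,
  0, 9, 4, 3, 1, 9, 3, 3, 1, 9, 3, 4, 0, 9, 4], [1, 2, 5, 4, 0, 9, 4, 1, 2, 5, 4, 0, 9, 4], [2, 5, 0, 2,
  5, 9, 1, 2, 5], [2, 5, 0, 2, 5, 1, 9, 2, 5], [], [1, 4, 0, 9, 4, 2, 5, 4, 0, 9, 4, 2, 5], [4, 0, 9, 4,
  2, 5, 1, 4, 0, 9, 4, 2, 5], [1, 9, 1, 9], [2, 5, 0, 1, 0], [1, 9, 2, 5, 0, 9], [9, 1, 2, 5, 0, 9], [0,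
  2, 5, 1, 3, 1, 9, 3, 3, 1, 9, 3], [2, 5, 9, 3, 1, 9, 3, 3, 1, 9, 3], [2, 5, 3, 1, 9, 3, 1, 3, 1, 9, 3],
  [0, 9, 1, 2, 5, 0, 1], [0, 1, 9, 2, 5, 0, 1], [4, 0, 9, 4, 1, 2, 5, 3, 1, 9, 3], [1, 4, 0, 9, 4, 1, 2,
  5, 1, 3, 1, 9, 3], [2, 5, 4, 0, 9, 4, 3, 1, 9, 3, 1, 2, 5, 0], [2, 5, 1, 4, 0, 9, 4, 3, 1, 9, 3, 2, 5,
  1], [0, 4, 0, 9, 4, 2, 5, 3, 1, 9, 3, 0], [4, 0, 9, 4, 3, 1, 9, 3, 1, 2, 5, 2, 5], [0, 1, 4, 0, 9, 4, 2,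
  5, 0, 9, 3, 1, 9, 3], [2, 5, 1, 2, 5, 1, 4, 0, 9, 4, 3, 1, 9, 3], [9, 4, 0, 9, 4, 0, 3, 1, 9, 3], [4, 0,
  9, 4, 3, 1, 9, 3], [1, 4, 0, 9, 4, 0, 3, 1, 9, 3, 4, 0, 9, 4, 4, 0, 9, 4], [9, 3, 1, 9, 3, 4, 0, 9, 4,
  9, 3, 1, 9, 3, 4, 0, 9, 4], [9, 3, 1, 9, 3, 4, 0, 9, 4, 3, 1, 9, 3, 1, 4, 0, 9, 4], [1, 9, 4, 0, 9, 4,
  3, 1, 9, 3, 4, 0, 9, 4, 4, 0, 9, 4], [1, 2, 5, 4, 0, 9, 4, 2, 5, 3, 1, 9, 3], [0, 4, 0, 9, 4, 0, 3, 1,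
  9, 3, 0, 9], [1, 3, 1, 9, 3, 4, 0, 9, 4, 2, 5, 2, 5], [3, 1, 9, 3, 4, 0, 9, 4, 0, 2, 5, 2, 5], [0, 1, 0,
  3, 1, 9, 3, 1, 2, 5, 4, 0, 9, 4], [0, 3, 1, 9, 3, 0, 2, 5, 4, 0, 9, 4], [3, 1, 9, 3, 1, 4, 0, 9, 4, 2,
  5, 9, 2, 5], [9, 3, 1, 9, 3, 4, 0, 9, 4, 2, 5, 9, 2, 5], [1, 3, 1, 9, 3, 2, 5, 1, 4, 0, 9, 4, 1], [4, 0,
  9, 4, 1, 2, 5, 3, 1, 9, 3, 4, 0, 9, 4, 3, 1, 9, 3], [2, 5, 3, 1, 9, 3, 4, 0, 9, 4, 1], [3, 1, 9, 3, 0,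
  1, 4, 0, 9, 4, 2, 5, 0], [9, 3, 1, 9, 3, 4, 0, 9, 4, 9, 2, 5, 0], [1, 0, 3, 1, 9, 3, 4, 0, 9, 4, 2, 5,
  0], [0, 4, 0, 9, 4, 4, 0, 9, 4, 3, 1, 9, 3, 4, 0, 9, 4, 2, 5], [9, 2, 5, 3, 1, 9, 3, 4, 0, 9, 4], [1, 2,
  5, 3, 1, 9, 3, 0, 4, 0, 9, 4], [0, 3, 1, 9, 3, 4, 0, 9, 4, 9, 1, 2, 5], [1, 2, 5, 3, 1, 9, 3, 4, 0, 9,
  4, 9], [0, 3, 1, 9, 3, 0, 4, 0, 9, 4, 1, 2, 5], [0, 3, 1, 9, 3, 4, 0, 9, 4, 0, 2, 5, 0], [0, 9, 0, 2, 5,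
  3, 1, 9, 3, 4, 0, 9, 4], [9, 3, 1, 9, 3, 0, 4, 0, 9, 4, 2, 5, 0], [0, 1, 3, 1, 9, 3, 4, 0, 9, 4, 2, 5,
  0], [3, 1, 9, 3, 1, 0, 4, 0, 9, 4, 2, 5, 0], [9, 2, 5, 3, 1, 9, 3, 0, 4, 0, 9, 4, 9], [0, 2, 5, 1, 2, 5,
  0, 9], [2, 5, 0, 1, 2, 5, 9], [1, 0, 2, 5, 9, 1, 2, 5], [1, 0, 2, 5, 1, 9, 2, 5], [9, 0, 2, 5, 0, 2, 5],
  [1, 2, 5, 2, 5], [0, 4, 0, 9, 4, 9, 2, 5, 4, 0, 9, 4], [9, 1, 9, 2, 5, 2, 5], [1, 9, 2, 5, 9, 0, 4, 0,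
  9, 4, 3, 1, 9, 3], [0, 2, 5, 3, 1, 9, 3, 0, 4, 0, 9, 4, 3, 1, 9, 3, 4, 0, 9, 4], [1, 2, 5, 4, 0, 9, 4,
  1, 3, 1, 9, 3], [1, 4, 0, 9, 4, 1, 3, 1, 9, 3, 0, 2, 5], [4, 0, 9, 4, 2, 5, 2, 5, 1, 3, 1, 9, 3], [1, 0,
  4, 0, 9, 4, 0, 3, 1, 9, 3, 2, 5], [0, 4, 0, 9, 4, 9, 3, 1, 9, 3, 2, 5, 1], [0, 4, 0, 9, 4, 3, 1, 9, 3,
  1, 2, 5, 1], [0, 4, 0, 9, 4, 3, 1, 9, 3, 1], [0, 4, 0, 9, 4, 9, 3, 1, 9, 3], [0, 9, 4, 0, 9, 4, 1, 3, 1,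
  9, 3, 0], [9, 3, 1, 9, 3, 0, 4, 0, 9, 4, 3, 1, 9, 3, 4, 0, 9, 4], [1, 3, 1, 9, 3, 1, 3, 1, 9, 3, 4, 0,
  9, 4, 3, 1, 9, 3], [1, 9, 3, 1, 9, 3, 3, 1, 9, 3, 4, 0, 9, 4, 3, 1, 9, 3], [3, 1, 9, 3, 1, 0, 4, 0, 9,
  4, 3, 1, 9, 3, 4, 0, 9, 4], [0, 1, 3, 1, 9, 3, 4, 0, 9, 4, 3, 1, 9, 3, 4, 0, 9, 4], [1, 3, 1, 9, 3, 0,
  4, 0, 9, 4, 3, 1, 9, 3, 3, 1, 9, 3], [1, 4, 0, 9, 4, 4, 0, 9, 4, 3, 1, 9, 3, 4, 0, 9, 4, 9], [0, 4, 0,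
  9, 4, 0, 4, 0, 9, 4, 3, 1, 9, 3, 4, 0, 9, 4], [0, 9, 4, 0, 9, 4, 4, 0, 9, 4, 3, 1, 9, 3, 4, 0, 9, 4],
  [3, 1, 9, 3, 4, 0, 9, 4, 0, 1], [0, 9, 3, 1, 9, 3, 4, 0, 9, 4, 9, 1], [1, 3, 1, 9, 3, 4, 0, 9, 4, 1],
  [0, 9, 3, 1, 9, 3, 4, 0, 9, 4, 1, 9], [1, 3, 1, 9, 3, 4, 0, 9, 4, 9, 3, 1, 9, 3, 3, 1, 9, 3], [0, 2, 5,
  1, 3, 1, 9, 3, 2, 5, 4, 0, 9, 4], [0, 3, 1, 9, 3, 1, 4, 0, 9, 4, 3, 1, 9, 3, 3, 1, 9, 3], [0, 1, 0, 3,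
  1, 9, 3, 4, 0, 9, 4, 1], [2, 5, 3, 1, 9, 3, 1, 2, 5, 4, 0, 9, 4], [3, 1, 9, 3, 4, 0, 9, 4, 1, 0], [4, 0,
  9, 4, 3, 1, 9, 3, 4, 0, 9, 4, 3, 1, 9, 3], [0, 9, 3, 1, 9, 3, 4, 0, 9, 4, 3, 1, 9, 3, 3, 1, 9, 3], [2,
  5, 1, 2, 5, 1], [9, 2, 5, 2, 5, 0], [4, 0, 9, 4, 2, 5, 4, 0, 9, 4], [2, 5, 4, 0, 9, 4, 4, 0, 9, 4, 2,
  5], [2, 5, 0, 2, 5, 4, 0, 9, 4, 4, 0, 9, 4, 9], [0, 1, 2, 5, 9, 1, 2, 5], [2, 5, 1, 0, 2, 5, 9], [0, 2,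
  5, 9, 2, 5, 1], [9, 2, 5, 9, 3, 1, 9, 3, 4, 0, 9, 4, 2, 5], [9, 2, 5, 3, 1, 9, 3, 1, 4, 0, 9, 4, 2, 5],
  [0, 2, 5, 2, 5, 3, 1, 9, 3, 4, 0, 9, 4], [0, 3, 1, 9, 3, 2, 5, 1, 4, 0, 9, 4, 0], [0, 3, 1, 9, 3, 2, 5,
  1, 9, 4, 0, 9, 4], [1, 9, 3, 1, 9, 3, 2, 5, 4, 0, 9, 4], [1, 3, 1, 9, 3, 1, 2, 5, 4, 0, 9, 4], [0, 1, 3,
  1, 9, 3, 0, 9, 2, 5, 4, 0, 9, 4], [0, 2, 5, 1, 9, 1], [0, 2, 5, 9], [0, 9, 1, 2, 5, 1, 0], [0, 1, 9, 2,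
  5, 1, 0], [1, 4, 0, 9, 4, 4, 0, 9, 4, 2, 5], [9, 1, 2, 5, 9, 0], [2, 5, 1], [1, 9, 2, 5, 9, 0], [0, 1,
  4, 0, 9, 4, 2, 5, 9, 0, 3, 1, 9, 3], [0, 9, 4, 0, 9, 4, 2, 5, 0, 3, 1, 9, 3], [1, 2, 5, 2, 5, 4, 0, 9,
  4, 3, 1, 9, 3], [0, 4, 0, 9, 4, 3, 1, 9, 3, 2, 5, 2, 5], [0, 2, 5, 1, 0, 4, 0, 9, 4, 3, 1, 9, 3, 2, 5],
  [2, 5, 2, 5, 4, 0, 9, 4, 1, 3, 1, 9, 3], [4, 0, 9, 4, 2, 5, 4, 0, 9, 4, 4, 0, 9, 4, 3, 1, 9, 3], [0, 4,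
  0, 9, 4, 9, 1, 2, 5, 3, 1, 9, 3], [2, 5, 1, 4, 0, 9, 4, 2, 5, 4, 0, 9, 4], [2, 5, 4, 0, 9, 4, 2, 5, 1,
  4, 0, 9, 4], [0, 2, 5, 2, 5, 0, 1, 9, 2, 5], [2, 5, 4, 0, 9, 4, 2, 5, 2, 5, 4, 0, 9, 4, 2, 5], [0, 1, 0,
  1], [1, 9, 3, 1, 9, 3, 3, 1, 9, 3], [1, 3, 1, 9, 3, 1, 3, 1, 9, 3], [0, 9, 0, 9]], [[1, 0, 2, 5, 2, 5,
  9], [0, 2, 5, 9, 4, 0, 9, 4, 3, 1, 9, 3], [0, 2, 5, 1, 2, 5, 9, 1], [0, 2, 5, 4, 0, 9, 4, 0, 3, 1, 9,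
  3], [1, 3, 1, 9, 3, 1, 4, 0, 9, 4, 3, 1, 9, 3, 3, 1, 9, 3], [1, 9, 3, 1, 9, 3, 4, 0, 9, 4, 3, 1, 9, 3,
  3, 1, 9, 3], [1, 3, 1, 9, 3, 0, 9, 4, 0, 9, 4, 2, 5], [9, 4, 0, 9, 4, 2, 5, 3, 1, 9, 3, 0, 1], [4, 0, 9,
  4, 2, 5, 9, 0, 3, 1, 9, 3], [3, 1, 9, 3, 4, 0, 9, 4, 9, 2, 5], [], [1, 9, 1, 9], [0, 1, 9, 4, 0, 9, 4,
  1, 3, 1, 9, 3], [2, 5, 4, 0, 9, 4, 2, 5, 3, 1, 9, 3, 0], [2, 5, 9, 3, 1, 9, 3, 3, 1, 9, 3], [2, 5, 3, 1,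
  9, 3, 1, 3, 1, 9, 3], [1, 3, 1, 9, 3, 2, 5, 1, 9, 4, 0, 9, 4], [1, 3, 1, 9, 3, 2, 5, 1, 4, 0, 9, 4, 0],
  [1, 2, 5, 2, 5, 1, 0, 9, 2, 5], [4, 0, 9, 4, 1, 2, 5, 3, 1, 9, 3], [1, 4, 0, 9, 4, 1, 2, 5, 1, 3, 1, 9,
  3], [2, 5, 1, 2, 5, 9, 0, 2, 5], [1, 0, 2, 5, 1, 3, 1, 9, 3, 4, 0, 9, 4], [1, 0, 2, 5, 3, 1, 9, 3, 4, 0,
  9, 4, 0], [9, 4, 0, 9, 4, 0, 3, 1, 9, 3], [4, 0, 9, 4, 3, 1, 9, 3], [1, 0, 3, 1, 9, 3, 2, 5, 4, 0, 9, 4,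
  1], [3, 1, 9, 3, 4, 0, 9, 4, 2, 5, 9, 0, 2, 5], [1, 9, 2, 5, 9, 1], [1, 9, 2, 5, 1, 9], [0, 9, 0, 2, 5,
  1, 0], [9, 2, 5, 0, 1], [0, 3, 1, 9, 3, 0, 2, 5, 4, 0, 9, 4], [3, 1, 9, 3, 0, 4, 0, 9, 4, 3, 1, 9, 3, 0,
  4, 0, 9, 4], [3, 1, 9, 3, 4, 0, 9, 4, 3, 1, 9, 3, 0, 1, 4, 0, 9, 4], [4, 0, 9, 4, 1, 2, 5, 3, 1, 9, 3,
  4, 0, 9, 4, 3, 1, 9, 3], [2, 5, 1, 9, 2, 5], [2, 5, 9, 1, 2, 5], [0, 9, 4, 0, 9, 4, 2, 5, 2, 5, 3, 1, 9,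
  3], [0, 4, 0, 9, 4, 0, 2, 5, 2, 5, 3, 1, 9, 3], [0, 1, 3, 1, 9, 3, 4, 0, 9, 4], [0, 3, 1, 9, 3, 4, 0, 9,
  4, 0], [2, 5, 3, 1, 9, 3, 4, 0, 9, 4, 1], [0, 3, 1, 9, 3, 4, 0, 9, 4, 0, 4, 0, 9, 4, 3, 1, 9, 3], [9, 2,
  5, 3, 1, 9, 3, 4, 0, 9, 4], [0, 1, 3, 1, 9, 3, 4, 0, 9, 4, 4, 0, 9, 4, 3, 1, 9, 3], [1, 0, 9, 4, 0, 9,
  4, 2, 5, 3, 1, 9, 3], [1, 0, 4, 0, 9, 4, 0, 2, 5, 3, 1, 9, 3], [9, 2, 5, 1, 2, 5, 9], [0, 4, 0, 9, 4, 2,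
  5, 2, 5, 4, 0, 9, 4, 2, 5], [0, 3, 1, 9, 3, 0, 9, 0, 4, 0, 9, 4], [1, 0, 3, 1, 9, 3, 4, 0, 9, 4], [0, 4,
  0, 9, 4, 0, 3, 1, 9, 3, 0, 2, 5], [0, 9, 4, 0, 9, 4, 3, 1, 9, 3, 0, 2, 5], [1, 2, 5, 3, 1, 9, 3, 4, 0,
  9, 4, 2, 5], [9, 3, 1, 9, 3, 0, 2, 5, 4, 0, 9, 4, 0], [1, 0, 2, 5, 0], [2, 5, 2, 5, 4, 0, 9, 4, 3, 1, 9,
  3, 2, 5], [3, 1, 9, 3, 3, 1, 9, 3, 1, 2, 5], [4, 0, 9, 4, 1, 3, 1, 9, 3, 0, 4, 0, 9, 4, 4, 0, 9, 4], [0,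
  9, 4, 0, 9, 4, 4, 0, 9, 4], [9, 2, 5, 4, 0, 9, 4, 3, 1, 9, 3, 2, 5, 1], [0, 4, 0, 9, 4, 0, 4, 0, 9, 4],
  [2, 5, 4, 0, 9, 4, 3, 1, 9, 3, 0, 2, 5, 1], [2, 5, 1, 3, 1, 9, 3, 0, 1, 4, 0, 9, 4], [2, 5, 1, 9, 3, 1,
  9, 3, 4, 0, 9, 4, 9], [0, 9, 0, 2, 5, 3, 1, 9, 3, 4, 0, 9, 4], [0, 1, 4, 0, 9, 4, 0, 2, 5, 3, 1, 9, 3],
  [0, 3, 1, 9, 3, 4, 0, 9, 4, 4, 0, 9, 4, 9, 3, 1, 9, 3], [0, 1, 9, 4, 0, 9, 4, 2, 5, 3, 1, 9, 3], [9, 2,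
  5, 3, 1, 9, 3, 0, 4, 0, 9, 4, 9], [0, 3, 1, 9, 3, 4, 0, 9, 4, 4, 0, 9, 4, 3, 1, 9, 3, 1], [4, 0, 9, 4,
  1, 3, 1, 9, 3, 4, 0, 9, 4, 4, 0, 9, 4, 0], [3, 1, 9, 3, 3, 1, 9, 3, 4, 0, 9, 4, 1, 3, 1, 9, 3, 0], [9,
  2, 5, 2, 5, 3, 1, 9, 3, 4, 0, 9, 4, 0], [9, 2, 5, 2, 5, 1, 3, 1, 9, 3, 4, 0, 9, 4], [0, 1, 2, 5, 0], [0,
  9, 1, 9, 2, 5, 0], [9, 0, 2, 5, 0, 2, 5], [0, 1, 2, 5, 4, 0, 9, 4, 3, 1, 9, 3, 1], [0, 1, 2, 5, 4, 0, 9,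
  4, 9, 3, 1, 9, 3], [3, 1, 9, 3, 1, 2, 5, 4, 0, 9, 4, 2, 5], [9, 3, 1, 9, 3, 2, 5, 4, 0, 9, 4, 2, 5], [0,
  4, 0, 9, 4, 9, 2, 5, 4, 0, 9, 4], [1, 9, 4, 0, 9, 4, 4, 0, 9, 4, 3, 1, 9, 3, 4, 0, 9, 4], [1, 4, 0, 9,
  4, 0, 4, 0, 9, 4, 3, 1, 9, 3, 4, 0, 9, 4], [1, 4, 0, 9, 4, 1, 3, 1, 9, 3, 0, 2, 5], [4, 0, 9, 4, 2, 5,
  2, 5, 1, 3, 1, 9, 3], [0, 9, 1, 2, 5, 9, 2, 5], [0, 1, 2, 5, 2, 5, 9], [1, 3, 1, 9, 3, 2, 5, 4, 0, 9, 4,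
  1, 9], [0, 1, 3, 1, 9, 3, 2, 5, 4, 0, 9, 4, 1], [0, 4, 0, 9, 4, 3, 1, 9, 3, 1], [0, 4, 0, 9, 4, 9, 3, 1,
  9, 3], [4, 0, 9, 4, 4, 0, 9, 4, 9, 2, 5, 9], [9, 2, 5, 1, 4, 0, 9, 4, 4, 0, 9, 4, 9], [1, 0, 4, 0, 9, 4,
  3, 1, 9, 3, 2, 5, 1], [1, 2, 5, 1, 0, 2, 5], [0, 9, 3, 1, 9, 3, 4, 0, 9, 4, 9, 1], [0, 9, 3, 1, 9, 3, 4,
  0, 9, 4, 1, 9], [0, 2, 5, 2, 5, 0, 1], [9, 2, 5, 1, 4, 0, 9, 4, 3, 1, 9, 3, 1], [1, 4, 0, 9, 4, 3, 1, 9,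
  3, 1, 2, 5, 1], [1, 2, 5, 0, 1, 2, 5], [2, 5, 0, 2, 5, 1], [0, 1, 4, 0, 9, 4, 3, 1, 9, 3, 2, 5, 1], [2,
  5, 3, 1, 9, 3, 1, 2, 5, 4, 0, 9, 4], [4, 0, 9, 4, 3, 1, 9, 3, 4, 0, 9, 4, 3, 1, 9, 3], [3, 1, 9, 3, 2,
  5, 4, 0, 9, 4, 1, 2, 5, 1], [9, 2, 5, 2, 5, 0], [4, 0, 9, 4, 2, 5, 4, 0, 9, 4], [3, 1, 9, 3, 2, 5, 1, 4,
  0, 9, 4, 1, 2, 5], [1, 0, 2, 5, 4, 0, 9, 4, 3, 1, 9, 3, 1], [0, 1, 2, 5, 0, 4, 0, 9, 4, 3, 1, 9, 3], [0,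
  9, 0, 2, 5, 0, 1], [9, 2, 5, 1, 0], [0, 2, 5, 2, 5, 3, 1, 9, 3, 4, 0, 9, 4], [3, 1, 9, 3, 4, 0, 9, 4, 3,
  1, 9, 3, 1, 0, 4, 0, 9, 4], [0, 1, 3, 1, 9, 3, 0, 9, 2, 5, 4, 0, 9, 4], [3, 1, 9, 3, 0, 4, 0, 9, 4, 3,
  1, 9, 3, 4, 0, 9, 4, 9], [0, 2, 5, 1, 9, 1], [0, 2, 5, 9], [2, 5, 9, 0, 3, 1, 9, 3, 4, 0, 9, 4, 2, 5],
  [2, 5, 4, 0, 9, 4, 3, 1, 9, 3, 2, 5, 2, 5], [0, 2, 5, 9, 3, 1, 9, 3, 4, 0, 9, 4, 9, 2, 5], [0, 4, 0, 9,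
  4, 4, 0, 9, 4, 9, 4, 0, 9, 4, 3, 1, 9, 3], [0, 2, 5, 0, 1, 2, 5, 9, 2, 5], [4, 0, 9, 4, 2, 5, 4, 0, 9,
  4, 4, 0, 9, 4, 3, 1, 9, 3], [0, 1, 2, 5, 3, 1, 9, 3, 4, 0, 9, 4, 0], [0, 1, 2, 5, 1, 3, 1, 9, 3, 4, 0,
  9, 4], [0, 4, 0, 9, 4, 9, 1, 2, 5, 3, 1, 9, 3], [2, 5, 1, 2, 5, 0, 9, 2, 5], [4, 0, 9, 4, 2, 5, 0, 3, 1,
  9, 3, 1], [4, 0, 9, 4, 2, 5, 0, 9, 3, 1, 9, 3], [3, 1, 9, 3, 0, 4, 0, 9, 4, 2, 5], [9, 3, 1, 9, 3, 1, 0,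
  4, 0, 9, 4, 2, 5], [0, 1, 0, 1], [0, 9, 0, 9], [0, 1, 4, 0, 9, 4, 4, 0, 9, 4, 9, 1], [2, 5, 1, 9, 3, 1,
  9, 3, 0, 4, 0, 9, 4], [0, 4, 0, 9, 4, 4, 0, 9, 4, 9], [2, 5, 1, 3, 1, 9, 3, 1, 0, 4, 0, 9, 4], [2, 5, 4,
  0, 9, 4, 2, 5, 2, 5, 9, 3, 1, 9, 3], [2, 5, 4, 0, 9, 4, 2, 5, 2, 5, 3, 1, 9, 3, 1]], [[0, 2, 5, 9, 4, 0,
  9, 4, 3, 1, 9, 3], [0, 2, 5, 4, 0, 9, 4, 0, 3, 1, 9, 3], [], [1, 9, 1, 9], [2, 5, 9, 3, 1, 9, 3, 3, 1,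
  9, 3], [2, 5, 3, 1, 9, 3, 1, 3, 1, 9, 3], [4, 0, 9, 4, 1, 2, 5, 3, 1, 9, 3], [1, 4, 0, 9, 4, 1, 2, 5, 1,
  3, 1, 9, 3], [9, 4, 0, 9, 4, 0, 3, 1, 9, 3], [4, 0, 9, 4, 3, 1, 9, 3], [0, 3, 1, 9, 3, 0, 2, 5, 4, 0, 9,
  4], [4, 0, 9, 4, 1, 2, 5, 3, 1, 9, 3, 4, 0, 9, 4, 3, 1, 9, 3], [2, 5, 3, 1, 9, 3, 4, 0, 9, 4, 1], [9, 2,
  5, 3, 1, 9, 3, 4, 0, 9, 4], [0, 9, 0, 2, 5, 3, 1, 9, 3, 4, 0, 9, 4], [9, 2, 5, 3, 1, 9, 3, 0, 4, 0, 9,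
  4, 9], [9, 0, 2, 5, 0, 2, 5], [0, 4, 0, 9, 4, 9, 2, 5, 4, 0, 9, 4], [1, 4, 0, 9, 4, 1, 3, 1, 9, 3, 0, 2,
  5], [4, 0, 9, 4, 2, 5, 2, 5, 1, 3, 1, 9, 3], [0, 4, 0, 9, 4, 3, 1, 9, 3, 1], [0, 4, 0, 9, 4, 9, 3, 1, 9,
  3], [0, 9, 3, 1, 9, 3, 4, 0, 9, 4, 9, 1], [0, 9, 3, 1, 9, 3, 4, 0, 9, 4, 1, 9], [2, 5, 3, 1, 9, 3, 1, 2,
  5, 4, 0, 9, 4], [4, 0, 9, 4, 3, 1, 9, 3, 4, 0, 9, 4, 3, 1, 9, 3], [9, 2, 5, 2, 5, 0], [4, 0, 9, 4, 2, 5,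
  4, 0, 9, 4], [0, 2, 5, 2, 5, 3, 1, 9, 3, 4, 0, 9, 4], [0, 1, 3, 1, 9, 3, 0, 9, 2, 5, 4, 0, 9, 4], [0, 2,
  5, 1, 9, 1], [0, 2, 5, 9], [4, 0, 9, 4, 2, 5, 4, 0, 9, 4, 4, 0, 9, 4, 3, 1, 9, 3], [0, 4, 0, 9, 4, 9, 1,
  2, 5, 3, 1, 9, 3], [0, 1, 0, 1], [0, 9, 0, 9]]]

/-- The nontrivial elements of a Sylow 3-subgroup: representative and word. -/
def swP : List (ℕ × List ℕ) :=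
  [(0, [0, 4, 0, 9, 4, 9, 3, 1, 9, 3]), (0, [0, 4, 0, 9, 4, 9, 3, 1, 9, 3, 0, 4, 0, 9, 4, 9, 3, 1, 9, 3]),
  (1, [2, 5, 3, 1, 9, 3, 4, 0, 9, 4, 1]), (1, [2, 5, 3, 1, 9, 3, 4, 0, 9, 4, 1, 2, 5, 3, 1, 9, 3, 4, 0, 9,
  4, 1]), (2, [0, 1, 3, 1, 9, 3, 0, 9, 2, 5, 4, 0, 9, 4]), (2, [0, 1, 3, 1, 9, 3, 0, 9, 2, 5, 4, 0, 9, 4,
  0, 1, 3, 1, 9, 3, 0, 9, 2, 5, 4, 0, 9, 4]), (3, [0, 2, 5, 9]), (3, [0, 2, 5, 9, 0, 2, 5, 9])]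

/-- The elements of order three centralizing the third representative: key, place and conjugator. -/
def swY : List (ℕ × ℕ × List ℕ) :=
  [(23386066, 2, [1, 9, 2, 5, 1, 9]), (26433105, 3, [1, 9, 2, 5, 1, 9]), (132246483, 0, [9, 2, 5, 0, 1]),
  (360970382, 3, []), (608967002, 6, [0, 1, 2, 5, 0]), (1135879750, 7, [0, 1, 2, 5, 0]), (1220228505, 2,
  []), (1267753361, 1, [9, 2, 5, 0, 1]), (1482613211, 6, [9, 2, 5, 0, 1]), (2129972295, 3, [9, 2, 5, 0,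
  1]), (2415983221, 3, [0, 1, 2, 5, 0]), (2461426982, 0, [0, 1, 2, 5, 0]), (3149468326, 1, [0, 1, 2, 5,
  0]), (3248915445, 1, [1, 9, 2, 5, 1, 9]), (3251810175, 5, []), (3255085538, 7, [1, 9, 2, 5, 1, 9]),
  (3640634889, 0, []), (3699553403, 7, [9, 2, 5, 0, 1]), (3970447347, 1, []), (4670891734, 7, []),
  (4712776390, 6, [1, 9, 2, 5, 1, 9]), (4727021165, 4, []), (4729154125, 0, [1, 9, 2, 5, 1, 9]),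
  (5008868518, 6, []), (5184285821, 2, [9, 2, 5, 0, 1]), (5769206139, 2, [0, 1, 2, 5, 0])]

/-- Candidates for the third generator. -/
def swU : List (List ℕ) :=
  [[2, 5, 1, 2, 5, 0, 9, 2, 5], [2, 5, 1, 2, 5, 9, 0, 2, 5], [0, 4, 0, 9, 4, 0, 4, 0, 9, 4], [1, 2, 5, 2,
  5, 1, 0, 9, 2, 5]]

/-- Key, candidate and exponent. -/
def swUCert : List (ℕ × ℕ × ℕ) :=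
  [(5188475474, 0, 0), (365464622, 1, 0), (2123649646, 0, 2), (2127534622, 2, 0), (5767377910, 1, 2),
  (5180705522, 2, 1), (358608782, 3, 0), (5765854390, 3, 2), (1227312754, 0, 1), (1221523378, 2, 2),
  (2414535862, 1, 1), (2417202022, 3, 1)]

/-- Candidates for the fourth generator. -/
def swV : List (List ℕ) :=
  [[2, 5, 0, 2, 5, 1, 9, 2, 5], [2, 5, 0, 2, 5, 9, 1, 2, 5], [1, 9, 3, 1, 9, 3, 3, 1, 9, 3], [1, 3, 1, 9,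
  3, 1, 3, 1, 9, 3]]

/-- Key, candidate and exponent. -/
def swVCert : List (ℕ × ℕ × ℕ) :=
  [(27575762, 0, 0), (25823714, 1, 0), (5483681926, 2, 0), (5484138982, 3, 0), (5471155226, 2, 2),
  (31427230, 1, 1), (5469132190, 1, 2), (5469665422, 0, 2), (34321918, 0, 1), (25333030, 2, 1),
  (5473135802, 3, 2), (24266566, 3, 1)]

/-- Candidates for the fifth generator. -/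
def swW : List (List ℕ) :=
  [[0, 1, 2, 5, 2, 5, 9, 2, 5], [0, 2, 5, 2, 5, 9, 2, 5, 1], [9, 2, 5, 1, 0, 2, 5, 2, 5], [2, 5, 9, 2, 5,
  1, 0, 2, 5], [0, 4, 0, 9, 4, 1, 2, 5, 4, 0, 9, 4, 2, 5], [1, 9, 2, 5, 4, 0, 9, 4, 2, 5, 4, 0, 9, 4], [2,
  5, 0, 4, 0, 9, 4, 1, 2, 5, 4, 0, 9, 4], [2, 5, 4, 0, 9, 4, 1, 9, 2, 5, 4, 0, 9, 4], [2, 5, 4, 0, 9, 4,
  2, 5, 4, 0, 9, 4, 1, 9], [4, 0, 9, 4, 1, 9, 2, 5, 4, 0, 9, 4, 2, 5], [0, 1, 4, 0, 9, 4, 0, 4, 0, 9, 4,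
  3, 1, 9, 3, 3, 1, 9, 3], [3, 1, 9, 3, 4, 0, 9, 4, 4, 0, 9, 4, 3, 1, 9, 3, 4, 0, 9, 4, 4, 0, 9, 4]]

/-- An element inverting the Sylow 3-subgroup. -/
def swInv : List ℕ :=
  [1, 3, 1, 9, 3, 2, 5, 1]

/-- The centralizer of the Sylow 3-subgroup. -/
def swCP : List (List ℕ) :=
  [[], [4, 0, 9, 4, 3, 1, 9, 3], [0, 2, 5, 9], [4, 0, 9, 4, 2, 5, 4, 0, 9, 4], [0, 1, 0, 1], [0, 9, 0, 9],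
  [0, 4, 0, 9, 4, 9, 3, 1, 9, 3], [0, 4, 0, 9, 4, 3, 1, 9, 3, 1], [1, 9, 1, 9], [9, 2, 5, 2, 5, 0], [9, 2,
  5, 3, 1, 9, 3, 4, 0, 9, 4], [9, 4, 0, 9, 4, 0, 3, 1, 9, 3], [2, 5, 9, 3, 1, 9, 3, 3, 1, 9, 3], [2, 5, 3,
  1, 9, 3, 1, 3, 1, 9, 3], [2, 5, 3, 1, 9, 3, 4, 0, 9, 4, 1], [4, 0, 9, 4, 1, 2, 5, 3, 1, 9, 3], [4, 0, 9,
  4, 3, 1, 9, 3, 4, 0, 9, 4, 3, 1, 9, 3], [0, 2, 5, 1, 9, 1], [0, 2, 5, 9, 4, 0, 9, 4, 3, 1, 9, 3], [0, 2,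
  5, 2, 5, 3, 1, 9, 3, 4, 0, 9, 4], [0, 2, 5, 4, 0, 9, 4, 0, 3, 1, 9, 3], [0, 3, 1, 9, 3, 0, 2, 5, 4, 0,
  9, 4], [0, 4, 0, 9, 4, 9, 2, 5, 4, 0, 9, 4], [9, 0, 2, 5, 0, 2, 5], [2, 5, 3, 1, 9, 3, 1, 2, 5, 4, 0, 9,
  4], [4, 0, 9, 4, 2, 5, 2, 5, 1, 3, 1, 9, 3], [4, 0, 9, 4, 2, 5, 4, 0, 9, 4, 4, 0, 9, 4, 3, 1, 9, 3], [0,
  9, 0, 2, 5, 3, 1, 9, 3, 4, 0, 9, 4], [0, 9, 3, 1, 9, 3, 4, 0, 9, 4, 1, 9], [0, 9, 3, 1, 9, 3, 4, 0, 9,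
  4, 9, 1], [0, 4, 0, 9, 4, 9, 1, 2, 5, 3, 1, 9, 3], [1, 4, 0, 9, 4, 1, 2, 5, 1, 3, 1, 9, 3], [1, 4, 0, 9,
  4, 1, 3, 1, 9, 3, 0, 2, 5], [9, 2, 5, 3, 1, 9, 3, 0, 4, 0, 9, 4, 9], [4, 0, 9, 4, 1, 2, 5, 3, 1, 9, 3,
  4, 0, 9, 4, 3, 1, 9, 3], [0, 1, 3, 1, 9, 3, 0, 9, 2, 5, 4, 0, 9, 4]]

/-- The solutions: images, candidate and conjugator. -/
def swSol : List (List (List ℕ) × ℕ × List ℕ) :=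
  [([[0, 1, 3, 1, 9, 3, 0, 9, 2, 5, 4, 0, 9, 4], [4, 0, 9, 4, 1, 2, 5, 3, 1, 9, 3], [2, 5, 1, 2, 5, 0, 9,
  2, 5], [2, 5, 0, 2, 5, 9, 1, 2, 5], [0, 1, 2, 5, 2, 5, 9, 2, 5], [2, 5, 2, 5, 4, 0, 9, 4, 2, 5, 1]], 1,
  [1, 4, 0, 9, 4, 3, 1, 9, 3, 0, 4, 0, 9, 4]), ([[0, 1, 3, 1, 9, 3, 0, 9, 2, 5, 4, 0, 9, 4], [4, 0, 9, 4,
  1, 2, 5, 3, 1, 9, 3], [2, 5, 1, 2, 5, 0, 9, 2, 5], [2, 5, 0, 2, 5, 9, 1, 2, 5], [0, 1, 2, 5, 2, 5, 9, 2,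
  5], [2, 5, 2, 5, 1, 4, 0, 9, 4, 2, 5]], 0, [1, 4, 0, 9, 4, 3, 1, 9, 3, 0, 4, 0, 9, 4]), ([[0, 1, 3, 1,
  9, 3, 0, 9, 2, 5, 4, 0, 9, 4], [4, 0, 9, 4, 1, 2, 5, 3, 1, 9, 3], [2, 5, 1, 2, 5, 0, 9, 2, 5], [2, 5, 0,
  2, 5, 9, 1, 2, 5], [0, 1, 2, 5, 2, 5, 9, 2, 5], [1, 2, 5, 1, 2, 5, 4, 0, 9, 4, 2, 5]], 2, [1, 4, 0, 9,
  4, 3, 1, 9, 3, 0, 4, 0, 9, 4]), ([[0, 1, 3, 1, 9, 3, 0, 9, 2, 5, 4, 0, 9, 4], [4, 0, 9, 4, 1, 2, 5, 3,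
  1, 9, 3], [2, 5, 1, 2, 5, 0, 9, 2, 5], [2, 5, 0, 2, 5, 9, 1, 2, 5], [0, 1, 2, 5, 2, 5, 9, 2, 5], [9, 2,
  5, 0, 1, 4, 0, 9, 4, 0]], 3, [1, 4, 0, 9, 4, 3, 1, 9, 3, 0, 4, 0, 9, 4])]

end CfsgLib.Recog.Co3Inv
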