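import Cfsg.Agent.Lib.Recog.Co3Inv.EmbedCent

/-!
The two relators hold in a group with the double cover as involution centralizer, so the group
contains the letters of the McLaughlin group.
-/

set_option autoImplicit false
set_option maxRecDepth 100000
set_option Elab.async false

namespace CfsgLib.Recog.Co3Inv

open CfsgLib.InvChar.Coset
open CfsgLib.Recog.McLInv (C0 Setup eOK eImg eIter eBasis eElts ltW ltW_spec dW dEl rA rB yA yB)

/-! ### The letters below seven -/

/-- The group of the first seven letters inside the eight. -/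
noncomputable def c0ToMl : C0 →* Ml :=
  restrEquiv.symm.toMonoidHom.comp (Subgroup.inclusion McLInv.C0_le_M8)

theorem c0ToMl_cl {x : ℕ} (hx : x < 7) : c0ToMl (McLInv.cl x) = mg x := by
  refine restrEquiv.injective ?_
  rw [c0ToMl, MonoidHom.comp_apply, MulEquiv.coe_toMonoidHom, MulEquiv.apply_symm_apply]
  refine Subtype.ext ?_
  show ((McLInv.cl x : C0) : Equiv.Perm (Fin 275)) = ((restr (mg x) : McLInv.M8) : Equiv.Perm (Fin 275))
  rw [restr_mg (lt_trans hx (by norm_num)), McLInv.cl_val hx]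

theorem c0ToMl_mem (c : C0) : ((c0ToMl c : Ml) : Equiv.Perm (Fin 276)) ∈ Cm := by
  have h : (⊤ : Subgroup C0) ≤ Cm.comap (Ml.subtype.comp c0ToMl) := by
    rw [← McLInv.closure_cl, Subgroup.closure_le]
    rintro _ ⟨x, hx, rfl⟩
    show ((c0ToMl (McLInv.cl x) : Ml) : Equiv.Perm (Fin 276)) ∈ Cm
    rw [c0ToMl_cl hx, mg_val (lt_trans hx (by norm_num))]
    exact gp_mem_cm (mem_cLetters_of_lt hx)
  exact h (Subgroup.mem_top c)

/-- The group of the first seven letters inside the double cover. -/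
noncomputable def c0ToCm : C0 →* Cm := (Ml.subtype.comp c0ToMl).codRestrict Cm c0ToMl_mem

theorem c0ToCm_cl {x : ℕ} (hx : x < 7) : c0ToCm (McLInv.cl x) = el [x] := by
  refine Subtype.ext ?_
  rw [el_singleton, cg_val (mem_cLetters_of_lt hx)]
  show ((c0ToMl (McLInv.cl x) : Ml) : Equiv.Perm (Fin 276)) = gp x
  rw [c0ToMl_cl hx, mg_val (lt_trans hx (by norm_num))]

theorem c0ToCm_el {L : List ℕ} (h : ∀ x ∈ L, x < 7) : c0ToCm (McLInv.el L) = el L :=
  map_wprod c0ToCm McLInv.cl cg L fun x hx => by rw [c0ToCm_cl (h x hx), el_singleton]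

theorem c0ToCm_injective : Function.Injective c0ToCm := fun a b e => by
  have h : c0ToMl a = c0ToMl b := Subtype.ext (congrArg (fun c : Cm => (c : Equiv.Perm (Fin 276))) e :)
  exact Subgroup.inclusion_injective McLInv.C0_le_M8 (restrEquiv.symm.injective h)

theorem c0ToCm_dEl {i : ℕ} (hi : i < 192) : c0ToCm (dEl i) = el (dW i) := by
  have h := List.all_eq_true.1 McLInv.d_checks.2.2.1 i (List.mem_range.2 hi)
  refine c0ToCm_el fun x hx => ?_
  obtain ⟨k, hk, hxk⟩ := List.mem_flatMap.1 hx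
  have h3 : ∀ k < 3, ∀ x ∈ McLInv.dGen.getD k [], x < 7 := by decide
  exact h3 k (ltW_spec h k hk) x hxk

theorem word_lt : (∀ k < 3, (∀ x ∈ McLInv.dGen.getD k [], x < 7) ∧ ∀ x ∈ McLInv.dImg.getD k [], x < 7) ∧
    (∀ x ∈ McLInv.tW, x < 7) := by decide

namespace Amb

variable {G : Type*} [Group G] (A : Amb G)

/-- The data of the enumeration. -/
noncomputable def setup (O : A.Outer) : Setup G where
  φ := A.φ.comp c0ToCm
  w := O.w
  w_sq := O.w_sq
  act k hk := by
    rw [MonoidHom.comp_apply, MonoidHom.comp_apply, c0ToCm_el (word_lt.1 k hk).1,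
      c0ToCm_el (word_lt.1 k hk).2]
    exact O.act k hk

theorem setup_injective (O : A.Outer) : Function.Injective (A.setup O).φ := A.inj.comp c0ToCm_injective

/-- Commuting with one of the groups of order sixteen. -/
theorem exists_member (hcard : Nat.card Cm = 2903040) (O : A.Outer) {k : ℕ} (hk : k < 2) {x : G}
    (hb : ∀ g ∈ eBasis k, g < 192 ∧ x * (A.setup O).φ (dEl g) = (A.setup O).φ (dEl g) * x)
    (he : ∀ i ∈ eElts k, i < 192) : ∃ i ∈ eElts k, x = (A.setup O).φ (dEl i) := by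
  obtain ⟨n27, -, -⟩ := McLInv.named_el
  obtain ⟨c, rfl⟩ := A.cent x (by
    have h := (hb 27 (List.mem_cons_self ..)).2
    rwa [n27, show (A.setup O).φ McLInv.t0 = A.t by
      rw [setup, MonoidHom.comp_apply, McLInv.t0, c0ToCm_el word_lt.2]; exact A.t_eq] at h)
  obtain ⟨i, hi, rfl⟩ := exists_eElt hcard hk (c := c) fun g hg => by
    obtain ⟨hg', e⟩ := hb g hg
    rw [setup, MonoidHom.comp_apply, c0ToCm_dEl hg', ← map_mul, ← map_mul] at e
    exact A.inj e
  exact ⟨i, hi, by rw [setup, MonoidHom.comp_apply, c0ToCm_dEl (he i hi)]⟩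

/-- The value of a relator. -/
theorem pow_value (hcard : Nat.card Cm = 2903040) (O : A.Outer) {y : List ℕ} {n k : ℕ} (hk : k < 2)
    (h : eOK y n k = true) :
    (∀ x ∈ y, x < 7) ∧ ∃ i ∈ eElts k, i < 192 ∧ eImg y k i = i ∧
      ((A.setup O).φ (McLInv.el y) * O.w) ^ n = (A.setup O).φ (dEl i) := by
  simp only [eOK, Bool.and_eq_true, List.all_eq_true, List.any_eq_true, List.mem_range, Nat.blt_eq] at h
  obtain ⟨⟨⟨-, hbas⟩, hy⟩, hmem⟩ := h
  refine ⟨ltW_spec hy, ?_⟩
  set S := A.setup O with hS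
  change ∃ i ∈ eElts k, i < 192 ∧ eImg y k i = i ∧ (S.φ (McLInv.el y) * S.w) ^ n = S.φ (dEl i)
  set m := S.φ (McLInv.el y) * S.w with hm
  have hstep : ∀ i ∈ eElts k, eImg y k i ∈ eElts k ∧ m * S.φ (dEl i) * m⁻¹ = S.φ (dEl (eImg y k i)) := by
    intro i hi
    obtain ⟨⟨hlt, u, hu, hue⟩, he⟩ := hmem i hi
    refine ⟨Nat.eq_of_beq_eq_true hue ▸ hu, ?_⟩
    have e := McLInv.eqB_sound he
    rw [McLInv.el_append, McLInv.el_append, McLInv.el_reverse] at e
    rw [hm, show S.φ (McLInv.el y) * S.w * S.φ (dEl i) * (S.φ (McLInv.el y) * S.w)⁻¹ =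
      S.φ (McLInv.el y) * (S.w * S.φ (dEl i) * S.w⁻¹) * (S.φ (McLInv.el y))⁻¹ by group,
      inv_eq_of_mul_eq_one_right S.w_sq, S.conj_alpha hlt, dEl, dEl, ← e, map_mul, map_mul, map_inv]
  have hiter : ∀ i ∈ eElts k, ∀ j, eIter y k j i ∈ eElts k ∧
      m ^ j * S.φ (dEl i) * (m ^ j)⁻¹ = S.φ (dEl (eIter y k j i)) := by
    intro i hi j
    induction j with
    | zero => exact ⟨hi, by simp [eIter]⟩
    | succ j ih =>
      obtain ⟨h1, h2⟩ := hstep _ ih.1
      refine ⟨h1, ?_⟩
      rw [pow_succ', show m * m ^ j * S.φ (dEl i) * (m * m ^ j)⁻¹ =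
        m * (m ^ j * S.φ (dEl i) * (m ^ j)⁻¹) * m⁻¹ by group, ih.2, h2]
      rfl
  have hfix : ∀ g ∈ eBasis k, g < 192 ∧ m ^ n * S.φ (dEl g) = S.φ (dEl g) * m ^ n := by
    intro g hg
    obtain ⟨⟨u, hu, hue⟩, hgi⟩ := hbas g hg
    obtain rfl := Nat.eq_of_beq_eq_true hue
    refine ⟨(hmem g hu).1.1, ?_⟩
    rw [← mul_inv_eq_iff_eq_mul, (hiter g hu n).2, Nat.eq_of_beq_eq_true hgi]
  obtain ⟨c, hcE, hce⟩ := A.exists_member hcard O hk hfix (fun i hi => (hmem i hi).1.1)
  have hc : c < 192 := (hmem c hcE).1.1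
  refine ⟨c, hcE, hc, ?_, hce⟩
  obtain ⟨h1, h2⟩ := hstep c hcE
  refine McLInv.dEl_inj (hmem _ h1).1.1 hc (A.setup_injective O ?_)
  rw [← hS, ← h2, ← hce]
  group

/-- Both relators hold. -/
theorem relators_hold (hcard : Nat.card Cm = 2903040) (O : A.Outer) :
    wprod (A.setup O).f rA = 1 ∧ wprod (A.setup O).f rB = 1 := by
  obtain ⟨hA, hB, hfA, hfB⟩ := McLInv.e_checks
  obtain ⟨yA7, i, hiE, hi, hif, hiv⟩ := A.pow_value hcard O (by norm_num) hA
  obtain ⟨yB7, j, hjE, hj, hjf, hjv⟩ := A.pow_value hcard O (by norm_num) hB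
  set S := A.setup O with hS
  change (S.φ (McLInv.el yA) * S.w) ^ 4 = _ at hiv
  change (S.φ (McLInv.el yB) * S.w) ^ 3 = _ at hjv
  rw [← S.wprod_powWord yA yA7] at hiv
  rw [← S.wprod_powWord yB yB7] at hjv
  have hinj : Function.Injective S.φ := A.setup_injective O
  have hsh : ∀ L : List ℕ, (∀ x ∈ L, x < 7) → ∀ r : List ℕ, wprod S.f r = S.φ (McLInv.el L) →
      wprod S.f (r ++ L.reverse) = 1 ∧ wprod S.f (r ++ L.reverse).reverse = 1 := by
    intro L hL r hr
    have e : wprod S.f (r ++ L.reverse) = 1 := by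
      rw [wprod_append, wprod_reverse _ S.f_sq, S.wprod_f hL, hr, mul_inv_cancel]
    exact ⟨e, by rw [wprod_reverse _ S.f_sq, e, inv_one]⟩
  have hww : wprod S.f [7, 7] = 1 := by simp [wprod, Setup.f_seven, S.w_sq]
  have hAi : i = 0 ∨ i = McLInv.badVal.getD 0 0 := by
    have h := List.all_eq_true.1 hfA i hiE
    rw [hif, Nat.beq_refl] at h
    simp only [Bool.not_true, Bool.false_or, Bool.or_eq_true, Bool.false_eq_true, false_or] at h
    exact h.imp Nat.eq_of_beq_eq_true Nat.eq_of_beq_eq_true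
  have hAone : wprod S.f rA = 1 := by
    rcases hAi with rfl | rfl
    · rw [rA, hiv, McLInv.dEl_zero, map_one]
    · exfalso
      have e : S.φ (dEl (McLInv.badVal.getD 0 0)) = S.φ (McLInv.el [2, 3, 0, 3, 2]) := by
        rw [dEl, McLInv.eqB_sound McLInv.bad_words.1]
      obtain ⟨p1, p2⟩ := hsh [2, 3, 0, 3, 2] (by decide) rA (hiv.trans e)
      refine S.false_of_collapsed hinj (fun k hk => Nat.le_of_ble_eq_true
        (List.all_eq_true.1 McLInv.TabBadA.defs_ok k (List.mem_range.2 hk))) ?_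
        McLInv.TabBadA.facts_ok McLInv.TabBadA.collapsed_ok
      intro p hp
      have hm : p ∈ [[], [7, 7], rA ++ [2, 3, 0, 3, 2].reverse, (rA ++ [2, 3, 0, 3, 2].reverse).reverse] := by
        revert p; decide
      simp only [List.mem_cons, List.not_mem_nil, or_false] at hm
      rcases hm with rfl | rfl | rfl | rfl
      exacts [rfl, hww, p1, p2]
  refine ⟨hAone, ?_⟩
  have hy : S.φ (McLInv.el yB) * S.φ (McLInv.el yB) = 1 := by
    rw [← map_mul, yB, McLInv.el_singleton, McLInv.cl_sq, map_one]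
  have hinvw : S.w * (S.φ (McLInv.el yB) * S.w) * S.w = (S.φ (McLInv.el yB) * S.w)⁻¹ := by
    rw [mul_inv_rev, inv_eq_of_mul_eq_one_right S.w_sq, inv_eq_of_mul_eq_one_right hy,
      mul_assoc S.w (S.φ (McLInv.el yB) * S.w), mul_assoc (S.φ (McLInv.el yB)), S.w_sq, mul_one]
  have hjalpha : McLInv.alphaD j = McLInv.invD j := by
    have him : ∀ k < 3, McLInv.alphaIm.getD k 0 < 192 := fun k hk => by
      have h := List.all_eq_true.1 McLInv.rep_checks.2.2 k (List.mem_range.2 hk)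
      simp only [Bool.and_eq_true, Nat.blt_eq] at h
      exact h.1.1.1.1
    refine McLInv.dEl_inj (McLInv.evD_spec him _ (McLInv.dIdx_lt hj)).1 (McLInv.invD_spec hj).1 (hinj ?_)
    show S.φ (dEl (McLInv.alphaD j)) = _
    rw [← S.conj_alpha hj, (McLInv.invD_spec hj).2, map_inv, ← hjv, S.wprod_powWord yB yB7]
    have hw' : S.w⁻¹ = S.w := inv_eq_of_mul_eq_one_right S.w_sq
    calc S.w * (S.φ (McLInv.el yB) * S.w) ^ 3 * S.w
        = (S.w * (S.φ (McLInv.el yB) * S.w) * S.w⁻¹) ^ 3 := by rw [conj_pow, hw']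
      _ = _ := by rw [hw', hinvw, inv_pow]
  have hBj : j = 0 ∨ j = McLInv.badVal.getD 1 0 := by
    have h := List.all_eq_true.1 hfB j hjE
    rw [hjf, hjalpha, Nat.beq_refl, Nat.beq_refl] at h
    simp only [Bool.not_true, Bool.false_or, Bool.or_eq_true, Bool.false_eq_true, false_or] at h
    exact h.imp Nat.eq_of_beq_eq_true Nat.eq_of_beq_eq_true
  rcases hBj with rfl | rfl
  · rw [rB, hjv, McLInv.dEl_zero, map_one]
  · exfalso
    have e : S.φ (dEl (McLInv.badVal.getD 1 0)) = S.φ (McLInv.el [2, 1, 2]) := by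
      rw [dEl, McLInv.eqB_sound McLInv.bad_words.2]
    obtain ⟨p1, p2⟩ := hsh [2, 1, 2] (by decide) rB (hjv.trans e)
    refine S.false_of_collapsed hinj (fun k hk => Nat.le_of_ble_eq_true
      (List.all_eq_true.1 McLInv.TabBadB.defs_ok k (List.mem_range.2 hk))) ?_
      McLInv.TabBadB.facts_ok McLInv.TabBadB.collapsed_ok
    intro p hp
    have hm : p ∈ [[], [7, 7], rA, rA.reverse, rB ++ [2, 1, 2].reverse, (rB ++ [2, 1, 2].reverse).reverse] := by
      revert p; decide
    simp only [List.mem_cons, List.not_mem_nil, or_false] at hm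
    rcases hm with rfl | rfl | rfl | rfl | rfl | rfl
    exacts [rfl, hww, hAone, by rw [wprod_reverse _ S.f_sq, hAone, inv_one], p1, p2]

end Amb

/-- A group with the relations receives the group on 275 points, letters to letters. -/
theorem exists_letters {G : Type*} [Group G] (S : Setup G) (hinj : Function.Injective S.φ)
    (hp : ∀ p ∈ McLInv.TabGood.pats, wprod S.f p = 1) :
    ∃ ι : McLInv.M8 →* G, Function.Injective ι ∧
      ∀ x, (hx : x < 8) → ι ⟨McLInv.gm x, McLInv.gm_mem8 hx⟩ = S.f x := by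
  classical
  obtain ⟨hM, cM⟩ := McLInv.M8_eq
  have hmc := McLInv.model_checks
  simp only [Bool.and_eq_true, List.all_eq_true] at hmc
  obtain ⟨hact, hpat⟩ := hmc
  let S2 : Setup (G × Equiv.Perm (Fin 275)) :=
    { φ := S.φ.prod C0.subtype
      w := (S.w, McLInv.gm 7)
      w_sq := Prod.ext S.w_sq (McLInv.gm_sq 7)
      act := fun k hk => by
        refine Prod.ext (S.act k hk) ?_
        show McLInv.gm 7 * ((McLInv.el (McLInv.dGen.getD k []) : C0) : Equiv.Perm (Fin 275)) * McLInv.gm 7 =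
          ((McLInv.el (McLInv.dImg.getD k []) : C0) : _)
        rw [McLInv.el_val (word_lt.1 k hk).1, McLInv.el_val (word_lt.1 k hk).2,
          ← McLInv.eqM_sound (hact k (by interval_cases k <;> simp)), wprod_append, wprod_append]
        simp [wprod] }
  have hf : ∀ x < 8, S2.f x = (S.f x, McLInv.gm x) := fun x hx => by
    rcases Nat.lt_succ_iff_lt_or_eq.1 hx with h | rfl
    · refine Prod.ext ?_ ?_ <;> simp [Setup.f, h, S2, McLInv.cl_val]
    · rw [Setup.f_seven, Setup.f_seven]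
  have hp2 : ∀ p ∈ McLInv.TabGood.pats, wprod S2.f p = 1 := fun p hpm => by
    have h8 : ∀ x ∈ p, x < 8 := (show ∀ p ∈ McLInv.TabGood.pats, ∀ x ∈ p, x < 8 by decide) p hpm
    refine Prod.ext ?_ ?_
    · show MonoidHom.fst G _ (wprod S2.f p) = 1
      rw [map_wprod _ _ S.f p fun x hx => by simp [hf x (h8 x hx)], hp p hpm]
    · show MonoidHom.snd G _ (wprod S2.f p) = 1
      rw [map_wprod _ _ McLInv.gm p fun x hx => by simp [hf x (h8 x hx)], McLInv.eqM_sound (hpat p hpm)]
      rfl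
  obtain ⟨hfin, hbound⟩ := S2.card_gen_le (defs := McLInv.TabGood.defs)
    (fun k hk => Nat.le_of_ble_eq_true (List.all_eq_true.1 McLInv.TabGood.defs_ok k (List.mem_range.2 hk)))
    hp2 McLInv.TabGood.facts_ok McLInv.TabGood.closed_ok
  rw [McLInv.TabGood.lives_idx] at hbound
  haveI := hfin
  let π : S2.gen →* Equiv.Perm (Fin 275) := (MonoidHom.snd G _).comp S2.gen.subtype
  have hmem : ∀ x < 8, S2.f x ∈ S2.gen := fun x hx => by
    rcases Nat.lt_succ_iff_lt_or_eq.1 hx with h | rfl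
    · exact Subgroup.mem_sup_left ⟨McLInv.cl x, by simp [Setup.f, h]⟩
    · rw [Setup.f_seven]; exact Subgroup.mem_sup_right (Subgroup.mem_zpowers _)
  have hπ : π.range = McLInv.M8 := by
    refine le_antisymm ?_ ?_
    · rintro _ ⟨⟨y, hy⟩, rfl⟩
      have hle : S2.gen ≤ McLInv.M8.comap (MonoidHom.snd G _) := sup_le
        (by rintro _ ⟨c, rfl⟩; exact McLInv.C0_le_M8 c.2)
        (Subgroup.zpowers_le.2 (McLInv.gm_mem8 (by norm_num)))
      exact hle hy
    · rw [McLInv.M8, Subgroup.closure_le]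
      rintro _ ⟨x, hx, rfl⟩
      exact ⟨⟨_, hmem x hx⟩, by simp [π, hf x hx]⟩
  have hπinj : Function.Injective π := by
    have h1 : Nat.card π.range = 898128000 := by rw [hπ, cM]
    have h2 := π.ker.card_mul_index
    rw [Subgroup.index_ker, h1] at h2
    refine (MonoidHom.ker_eq_bot_iff π).1 ((Subgroup.card_eq_one).1 ?_)
    by_contra hne
    have h3 : 2 ≤ Nat.card π.ker := by
      have := Nat.card_pos (α := π.ker)
      omega
    have := Nat.mul_le_mul_right 898128000 h3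
    omega
  let e : McLInv.M8 ≃* S2.gen :=
    (MulEquiv.subgroupCongr hπ.symm).trans (MonoidHom.ofInjective hπinj).symm
  let ι : McLInv.M8 →* G := ((MonoidHom.fst G _).comp S2.gen.subtype).comp e.toMonoidHom
  have hval : ∀ x, (hx : x < 8) → ι ⟨McLInv.gm x, McLInv.gm_mem8 hx⟩ = S.f x := by
    intro x hx
    have : e ⟨McLInv.gm x, McLInv.gm_mem8 hx⟩ = ⟨S2.f x, hmem x hx⟩ := by
      refine hπinj ?_
      have h1 : π (e ⟨McLInv.gm x, McLInv.gm_mem8 hx⟩) = McLInv.gm x := by
        simp only [e, MulEquiv.trans_apply]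
        exact congrArg Subtype.val ((MonoidHom.ofInjective hπinj).apply_symm_apply _)
      rw [h1]
      simp [π, hf x hx]
    show (MonoidHom.fst G _) ((e ⟨McLInv.gm x, McLInv.gm_mem8 hx⟩ : S2.gen) : G × Equiv.Perm (Fin 275)) = _
    rw [this]
    simp [hf x hx]
  refine ⟨ι, ?_, hval⟩
  haveI := CfsgLib.Golay.isSimple_mclGroup
  let eR : CfsgLib.Golay.mclGroup ≃* McLInv.M8 :=
    (MonoidHom.ofInjective McL275.actV_injective).trans (MulEquiv.subgroupCongr hM.symm)
  haveI : IsSimpleGroup McLInv.M8 := eR.symm.isSimpleGroup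
  rcases (MonoidHom.normal_ker ι).eq_bot_or_eq_top with h | h
  · exact (MonoidHom.ker_eq_bot_iff ι).1 h
  · exfalso
    have hz : ∀ y, ι y = 1 := fun y => MonoidHom.mem_ker.1 (h ▸ Subgroup.mem_top y)
    have ht : S.φ McLInv.t0 = 1 := by
      rw [McLInv.t0, ← S.wprod_f (show ∀ x ∈ McLInv.tW, x < 7 by decide)]
      refine List.prod_eq_one fun u hu => ?_
      obtain ⟨x, hx, rfl⟩ := List.mem_map.1 hu
      have hx8 : x < 8 := lt_trans ((show ∀ x ∈ McLInv.tW, x < 7 by decide) x hx) (by norm_num)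
      rw [← hval x hx8, hz]
    exact McLInv.t0_ne (hinj (ht.trans S.φ.map_one.symm))

/-- Step A2, given the order of the double cover. -/
theorem embed_of_card {G : Type*} [Group G] [Finite G] (hcard : Nat.card Cm = 2903040) (A : Amb G)
    (O : A.Outer) : A.EmbedStmt O := by
  obtain ⟨hA, hB⟩ := A.relators_hold hcard O
  obtain ⟨ι, hι, hval⟩ := exists_letters (A.setup O) (A.setup_injective O) ((A.setup O).good_pats hA hB)
  have hx : ∀ k < 8, ∀ x : Ml, (x : Equiv.Perm (Fin 276)) = gp k →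
      ι (restr x) = (A.setup O).f k := fun k hk x e => by
    rw [← hval k hk]
    congr 1
    refine Subtype.ext ?_
    rw [show x = mg k from Subtype.ext (e.trans (mg_val hk).symm), restr_mg hk]
  refine ⟨ι.comp restr, hι.comp restr_injective, fun x e => ?_, fun k hk x e => ?_⟩
  · rw [MonoidHom.comp_apply, hx 7 (by norm_num) x e, Setup.f_seven]; rfl
  · rw [MonoidHom.comp_apply, hx k (lt_trans hk (by norm_num)) x e]
    show (A.setup O).f k = _
    rw [Setup.f, if_pos hk]
    exact congrArg A.φ (c0ToCm_cl hk)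

/-- **Step A2.** -/
theorem embed_stmt {G : Type*} [Group G] [Finite G] (A : Amb G) (O : A.Outer) : A.EmbedStmt O :=
  embed_of_card card_Cm A O

end CfsgLib.Recog.Co3Inv
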