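import Cfsg.Agent.Lib.Recog.Co3Inv.Model
import Cfsg.Agent.Lib.Recog.McLInv.Ident

/-!
The group of the eight letters on 276 points is the McLaughlin group on 275 points.
-/

set_option autoImplicit false
set_option maxRecDepth 100000
set_option Elab.async false

namespace CfsgLib.Recog.Co3Inv

open CfsgLib.InvChar.Coset

theorem ml_fix (g : Ml) : (g : Equiv.Perm (Fin 276)) inf = inf := by
  have h : Ml ≤ MulAction.stabilizer (Equiv.Perm (Fin 276)) inf := by
    rw [Ml, Subgroup.closure_le]
    rintro _ ⟨x, hx, rfl⟩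
    exact gp_inf hx
  exact h g.2

/-- An element of the eight letters as a permutation of the 275 points. -/
theorem exists_restr (g : Equiv.Perm (Fin 276)) (hg : g ∈ Ml) :
    ∃ h ∈ McLInv.M8, ∀ i : Fin 275, g i.castSucc = (h i).castSucc := by
  induction hg using Subgroup.closure_induction with
  | mem x hx =>
    obtain ⟨k, hk, rfl⟩ := hx
    exact ⟨_, McLInv.gm_mem8 hk, gp_castSucc hk⟩
  | one => exact ⟨1, one_mem _, fun _ => rfl⟩
  | mul x y _ _ hx hy =>
    obtain ⟨a, ha, ha'⟩ := hx
    obtain ⟨b, hb, hb'⟩ := hy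
    exact ⟨a * b, mul_mem ha hb, fun i => by
      rw [Equiv.Perm.mul_apply, hb' i, ha' (b i), Equiv.Perm.mul_apply]⟩
  | inv x _ hx =>
    obtain ⟨a, ha, ha'⟩ := hx
    exact ⟨a⁻¹, inv_mem ha, fun i => by
      have h := ha' (a⁻¹ i)
      rw [Equiv.Perm.coe_inv, Equiv.apply_symm_apply] at h
      rw [← h, Equiv.Perm.coe_inv, Equiv.Perm.coe_inv, Equiv.symm_apply_apply]⟩

theorem castSucc_or_inf (j : Fin 276) : j = inf ∨ ∃ i : Fin 275, i.castSucc = j := by
  rcases Nat.lt_or_ge (j : ℕ) 275 with h | h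
  · exact Or.inr ⟨⟨j, h⟩, Fin.ext rfl⟩
  · exact Or.inl (Fin.ext (by have := j.2; show (j : ℕ) = 275; omega))

/-- The restriction to the 275 points. -/
noncomputable def restr : Ml →* McLInv.M8 :=
  MonoidHom.mk' (fun g => ⟨_, (exists_restr g g.2).choose_spec.1⟩) fun a b => by
    refine Subtype.ext (Equiv.ext fun i => Fin.castSucc_injective _ ?_)
    show ((exists_restr (a * b : Ml) (a * b).2).choose i).castSucc =
      ((exists_restr a a.2).choose ((exists_restr b b.2).choose i)).castSucc
    rw [← (exists_restr (a * b : Ml) (a * b).2).choose_spec.2, Subgroup.coe_mul, Equiv.Perm.mul_apply,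
      (exists_restr b b.2).choose_spec.2, (exists_restr a a.2).choose_spec.2]

theorem restr_spec (g : Ml) (i : Fin 275) :
    (g : Equiv.Perm (Fin 276)) i.castSucc = ((restr g : Equiv.Perm (Fin 275)) i).castSucc :=
  (exists_restr g g.2).choose_spec.2 i

theorem restr_injective : Function.Injective restr := by
  intro a b h
  refine Subtype.ext (Equiv.ext fun j => ?_)
  rcases castSucc_or_inf j with rfl | ⟨i, rfl⟩
  · rw [ml_fix, ml_fix]
  · rw [restr_spec, restr_spec, h]

/-- A letter in the group of the eight. -/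
def mg (x : ℕ) : Ml := if h : x < 8 then ⟨gp x, Subgroup.subset_closure ⟨x, h, rfl⟩⟩ else 1

theorem mg_val {x : ℕ} (hx : x < 8) : (mg x : Equiv.Perm (Fin 276)) = gp x := by simp [mg, hx]

theorem restr_mg {x : ℕ} (hx : x < 8) :
    (restr (mg x) : Equiv.Perm (Fin 275)) = McLInv.gm x := by
  refine Equiv.ext fun i => Fin.castSucc_injective _ ?_
  rw [← restr_spec, mg_val hx, gp_castSucc hx]

theorem closure_mg : Subgroup.closure (mg '' Set.Iio 8) = ⊤ := by
  refine Subgroup.map_injective Ml.subtype_injective ?_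
  rw [MonoidHom.map_closure, ← MonoidHom.range_eq_map, Subgroup.range_subtype, ← Set.image_comp]
  show _ = Subgroup.closure (gp '' Set.Iio 8)
  exact congrArg Subgroup.closure (Set.image_congr fun x hx => mg_val hx)

theorem restr_surjective : Function.Surjective restr := by
  rintro ⟨h, hh⟩
  induction hh using Subgroup.closure_induction with
  | mem x hx =>
    obtain ⟨k, hk, rfl⟩ := hx
    exact ⟨mg k, Subtype.ext (restr_mg hk)⟩
  | one => exact ⟨1, map_one restr⟩
  | mul x y _ _ hx hy =>
    obtain ⟨a, ha⟩ := hx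
    obtain ⟨b, hb⟩ := hy
    exact ⟨a * b, by rw [map_mul, ha, hb]; rfl⟩
  | inv x _ hx =>
    obtain ⟨a, ha⟩ := hx
    exact ⟨a⁻¹, by rw [map_inv, ha]; rfl⟩

/-- The isomorphism with the group on 275 points. -/
noncomputable def restrEquiv : Ml ≃* McLInv.M8 :=
  MulEquiv.ofBijective restr ⟨restr_injective, restr_surjective⟩

theorem card_Ml : Nat.card Ml = 898128000 := by
  rw [Nat.card_congr restrEquiv.toEquiv, McLInv.M8_eq.2]

end CfsgLib.Recog.Co3Inv
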