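import Cfsg.Agent.Lib.Recog.Co3Inv.TopBase
import Cfsg.Agent.Lib.Recog.Co3Inv.Base
import Cfsg.Agent.Lib.Recog.Co3Inv.MlFacts
import Cfsg.Agent.Lib.Recog.Co3Inv.EmbedData
import Cfsg.Agent.Lib.Recog.McLInv.Relators

/-!
Each of the two groups of order sixteen of the common centralizer is its own centralizer in the
double cover.
-/

set_option autoImplicit false
set_option maxRecDepth 100000
set_option Elab.async false

namespace CfsgLib.Recog.Co3Inv

open CfsgLib.InvChar.Coset
open CfsgLib.Recog.McLInv (img ltW ltW_spec eBasis eElts dW)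

/-- The image table of a listed member. -/
def eCode (n : ℕ) : ℕ := (eCodes.getD n (0, 0)).2

/-- The index of a listed member. -/
def eIdx (n : ℕ) : ℕ := (eCodes.getD n (0, 0)).1

/-- The members generating a group. -/
def eList : List (List ℕ) := [[0, 1, 2, 3, 4, 5], [0, 1, 6, 7, 8, 9]]

/-- The images of the base under a product, packed. -/
noncomputable def keyA (w : List ℕ) : ℕ :=
  List.rec (motive := fun _ => ℕ) 0 (fun b _ r => evA w b + 512 * r) baseP

/-- The images of the base under a word, packed. -/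
noncomputable def keyEW (L : List ℕ) : ℕ :=
  List.rec (motive := fun _ => ℕ) 0 (fun b _ r => actP L b + 512 * r) baseP

/-- A partial product breaks the commutation where it is determined. -/
noncomputable def breakE (k b : ℕ) (done w : List ℕ) : Bool :=
  (eEdges.getD k []).any fun e => (Nat.beq e.2.1 b || Nat.beq e.2.2 b) && done.any (Nat.beq e.2.1) && done.any (Nat.beq e.2.2) &&
    !Nat.beq (evA w e.2.2) (img (eCode e.1) (evA w e.2.1))

/-- The search for the centralizer. -/
noncomputable def srchE (k : ℕ) : List ℕ → List ℕ → List (List (List ℕ)) → List ℕ → Bool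
  | _, [], [], w =>
      (eKeys.getD k []).any (Nat.beq (keyA w)) ||
      (eList.getD k []).any fun n => baseP.any fun b =>
        !Nat.beq (evA w (img (eCode n) b)) (img (eCode n) (evA w b))
  | d, b :: bs, L :: Ls, w => L.all fun u =>
      okW (w ++ u) && (breakE k b (b :: d) (w ++ u) || srchE k (b :: d) bs Ls (w ++ u))
  | _, _, _, _ => false

theorem srchE_checks : srchE 0 [] baseP levT [] = true ∧ srchE 1 [] baseP levT [] = true := by
  decide +kernel

theorem eKey_checks : ((List.range 2).all fun k =>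
    (eKeys.getD k []).all fun q => (eElts k).any fun i => Nat.beq q (keyEW (dW i))) = true := by
  decide +kernel

theorem eCode_checks : ((List.range 10).all fun n => ltW 7 (dW (eIdx n)) && (List.range 276).all fun p =>
      Nat.beq (img (eCode n) p) (actP (dW (eIdx n)) p)) = true ∧
    ((List.range 2).all fun k =>
      ((eList.getD k []).all fun n => Nat.blt n 10 && (eBasis k).any (Nat.beq (eIdx n))) &&
      ((eEdges.getD k []).all fun e => Nat.blt e.2.1 276 && (eList.getD k []).any (Nat.beq e.1) &&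
        Nat.beq (img (eCode e.1) e.2.1) e.2.2) &&
      ((eElts k).all fun i => ltW 7 (dW i)) && baseP.all fun b => Nat.blt b 276) = true := by
  decide +kernel

theorem el_point {L : List ℕ} (h : ∀ x ∈ L, x < 7) (i : Fin 276) :
    ((((el L : Cm) : Equiv.Perm (Fin 276)) i : Fin 276) : ℕ) = actP L i := by
  rw [el_val fun x hx => mem_cLetters_of_lt (h x hx),
    wprod_gp_val L (fun x hx => lt_trans (h x hx) (by norm_num)) i]

theorem eCode_val {n : ℕ} (hn : n < 10) (i : Fin 276) :
    ((((el (dW (eIdx n)) : Cm) : Equiv.Perm (Fin 276)) i : Fin 276) : ℕ) = img (eCode n) i := by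
  have h := List.all_eq_true.1 eCode_checks.1 n (List.mem_range.2 hn)
  rw [Bool.and_eq_true, List.all_eq_true] at h
  rw [el_point (ltW_spec h.1)]
  exact (Nat.eq_of_beq_eq_true (h.2 i (List.mem_range.2 i.2))).symm

/-- Commutation on the points. -/
theorem commute_point {c : Cm} {n : ℕ} (hn : n < 10) (hc : Commute c (el (dW (eIdx n)))) {f : ℕ → ℕ}
    {j l : Fin 276} (hj : ((((c : Cm) : Equiv.Perm (Fin 276)) j : Fin 276) : ℕ) = f j)
    (hl : ((((c : Cm) : Equiv.Perm (Fin 276)) l : Fin 276) : ℕ) = f l) (hjl : img (eCode n) j = l) :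
    f l = img (eCode n) (f j) := by
  have e1 := congrArg (fun g : Cm => (((g : Equiv.Perm (Fin 276)) j : Fin 276) : ℕ)) hc.eq
  simp only [Subgroup.coe_mul, Equiv.Perm.mul_apply] at e1
  rw [show ((el (dW (eIdx n)) : Cm) : Equiv.Perm (Fin 276)) j = l from
    Fin.ext ((eCode_val hn j).trans hjl), hl, eCode_val hn, hj] at e1
  exact e1

theorem keyE_inj : ∀ (l : List ℕ) {f g : ℕ → ℕ}, (∀ b ∈ l, f b < 512 ∧ g b < 512) →
    List.rec (motive := fun _ => ℕ) 0 (fun b _ r => f b + 512 * r) l =
      List.rec (motive := fun _ => ℕ) 0 (fun b _ r => g b + 512 * r) l →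
    ∀ b ∈ l, f b = g b
  | [], _, _, _, _ => fun b hb => absurd hb List.not_mem_nil
  | a :: l, f, g, hl, e => by
    obtain ⟨h1, h2⟩ := hl a List.mem_cons_self
    simp only at e
    intro b hb
    rcases List.mem_cons.1 hb with rfl | hb
    · omega
    · exact keyE_inj l (fun b hb => hl b (List.mem_cons_of_mem _ hb)) (by omega) b hb

theorem srchE_sound {k : ℕ} (hk : k < 2) : ∀ {bs d : List ℕ} {Ls : List (List (List ℕ))} {w : List ℕ},
    srchE k d bs Ls w = true → levOK d bs Ls = true → (∀ j ∈ d, j < 276) →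
    ∀ {v : List ℕ}, IsChoice Ls v → okW (w ++ v) = true →
      (∀ n ∈ eList.getD k [], Commute (aEl (w ++ v)) (el (dW (eIdx n)))) →
      ∃ i ∈ eElts k, ∀ b ∈ baseP, evA (w ++ v) b = actP (dW i) b
  | [], d, [], w, h, _, _, v, hv, hok, hc => by
    subst hv
    rw [List.append_nil] at hok hc ⊢
    have hcl := List.all_eq_true.1 eCode_checks.2 k (List.mem_range.2 hk)
    simp only [Bool.and_eq_true, List.all_eq_true, Nat.blt_eq, List.any_eq_true] at hcl
    obtain ⟨⟨⟨hlist, -⟩, helt⟩, hb⟩ := hcl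
    simp only [srchE, Bool.or_eq_true, List.any_eq_true, List.all_eq_true] at h
    rcases h with ⟨q, hq, he⟩ | ⟨n, hn, b, hb', hne⟩
    · have hk' := List.all_eq_true.1 (List.all_eq_true.1 eKey_checks k (List.mem_range.2 hk)) q hq
      simp only [List.any_eq_true] at hk'
      obtain ⟨i, hi, hqi⟩ := hk'
      refine ⟨i, hi, keyE_inj baseP (fun b hb' => ⟨?_, ?_⟩)
        ((Nat.eq_of_beq_eq_true he).trans (Nat.eq_of_beq_eq_true hqi))⟩
      · rw [← evA_spec hok ⟨b, hb b hb'⟩]
        exact lt_trans (Fin.is_lt _) (by norm_num)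
      · rw [← el_point (ltW_spec (helt i hi)) ⟨b, hb b hb'⟩]
        exact lt_trans (Fin.is_lt _) (by norm_num)
    · exfalso
      have hn10 := (hlist n hn).1
      have hlt : img (eCode n) b < 276 := by
        rw [← eCode_val hn10 ⟨b, hb b hb'⟩]; exact Fin.is_lt _
      rw [Bool.not_eq_true', ← Bool.not_eq_true] at hne
      refine hne ?_
      rw [← commute_point hn10 (hc n hn) (f := evA w) (j := ⟨b, hb b hb'⟩) (l := ⟨_, hlt⟩)
        (evA_spec hok _) (evA_spec hok _) rfl]
      exact Nat.beq_refl _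
  | b :: bs, d, L :: Ls, w, h, hlev, hd, _, ⟨u, hu, v, hv, rfl⟩, hok, hc => by
    simp only [srchE, List.all_eq_true, Bool.and_eq_true, Bool.or_eq_true] at h
    obtain ⟨hwu, hor⟩ := h u hu
    simp only [levOK, Bool.and_eq_true, List.all_eq_true, Nat.blt_eq] at hlev
    have hb : b < 276 := hlev.1.1.1
    have hd' : ∀ j ∈ b :: d, j < 276 := by
      intro j hj
      rcases List.mem_cons.1 hj with rfl | hj
      exacts [hb, hd j hj]
    rw [← List.append_assoc] at hc hok ⊢
    rcases hor with hp | hr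
    · exfalso
      simp only [breakE, List.any_eq_true, Bool.and_eq_true, Bool.not_eq_true'] at hp
      obtain ⟨e, he, ⟨⟨-, ⟨j', hj', hjj⟩⟩, ⟨l', hl', hll⟩⟩, hne⟩ := hp
      obtain rfl := Nat.eq_of_beq_eq_true hjj
      obtain rfl := Nat.eq_of_beq_eq_true hll
      have hcl := List.all_eq_true.1 eCode_checks.2 k (List.mem_range.2 hk)
      simp only [Bool.and_eq_true, List.all_eq_true, Nat.blt_eq, List.any_eq_true] at hcl
      obtain ⟨⟨⟨hlist, hedge⟩, -⟩, -⟩ := hcl
      obtain ⟨⟨-, n, hn, hen⟩, himg⟩ := hedge e he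
      rw [← Nat.eq_of_beq_eq_true hen] at hn
      obtain ⟨hv1, hv2⟩ := choice_facts hlev.2 hv
      have hev : ∀ p ∈ b :: d, ∀ (hp : p < 276),
          ((((aEl (w ++ u ++ v) : Cm) : Equiv.Perm (Fin 276)) ⟨p, hp⟩ : Fin 276) : ℕ) = evA (w ++ u) p := by
        intro p hpd hp
        rw [aEl_append, Subgroup.coe_mul, Equiv.Perm.mul_apply, hv2 p hpd ⟨p, hp⟩ rfl, evA_spec hwu]
      have e1 := commute_point (hlist _ hn).1 (hc _ hn) (f := evA (w ++ u))
        (j := ⟨_, hd' _ hj'⟩) (l := ⟨_, hd' _ hl'⟩) (hev _ hj' _) (hev _ hl' _)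
        (Nat.eq_of_beq_eq_true himg)
      simp only at e1
      rw [e1, Nat.beq_refl] at hne
      cases hne
    · exact srchE_sound hk hr hlev.2 hd' hv hok hc
  | [], _, _ :: _, _, h, _, _, _, _, _, _ => by simp [srchE] at h
  | _ :: _, _, [], _, h, _, _, _, _, _, _ => by simp [srchE] at h

/-- Either group is self-centralizing. -/
theorem exists_eElt (hcard : Nat.card Cm = 2903040) {k : ℕ} (hk : k < 2) {c : Cm}
    (hc : ∀ g ∈ eBasis k, Commute c (el (dW g))) : ∃ i ∈ eElts k, c = el (dW i) := by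
  obtain ⟨w, hw, rfl⟩ := exists_choice hcard c
  obtain ⟨hok, -⟩ := choice_facts lev_check.1 hw
  have hcl := List.all_eq_true.1 eCode_checks.2 k (List.mem_range.2 hk)
  simp only [Bool.and_eq_true, List.all_eq_true, Nat.blt_eq, List.any_eq_true] at hcl
  obtain ⟨⟨⟨hlist, -⟩, helt⟩, hb⟩ := hcl
  have hs : srchE k [] baseP levT [] = true := by
    interval_cases k
    exacts [srchE_checks.1, srchE_checks.2]
  obtain ⟨i, hi, he⟩ := srchE_sound hk hs lev_check.1 (fun j hj => absurd hj List.not_mem_nil)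
    (w := []) hw hok (fun n hn => by
      obtain ⟨g, hg, hgn⟩ := (hlist n hn).2
      rw [Nat.eq_of_beq_eq_true hgn]
      exact hc g hg)
  simp only [List.nil_append] at he
  refine ⟨i, hi, inv_mul_eq_one.1 (eq_one_of_fix hcard fun b hb' p hp => ?_)⟩
  have e : ((aEl w : Cm) : Equiv.Perm (Fin 276)) p = ((el (dW i) : Cm) : Equiv.Perm (Fin 276)) p :=
    Fin.ext (by rw [evA_spec hok, el_point (ltW_spec (helt i hi)), hp, he b hb'])
  rw [Subgroup.coe_mul, Subgroup.coe_inv, Equiv.Perm.mul_apply, Equiv.Perm.inv_eq_iff_eq, e]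

end CfsgLib.Recog.Co3Inv
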