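import Mathlib.Data.Nat.Notation

/-! Tables for the amalgam of the double cover with the group of the eight letters. -/

set_option autoImplicit false
set_option maxRecDepth 100000

namespace CfsgLib.Recog.Co3Inv

/-- The image of the last point under the letter `9`. -/
def qPt : ℕ := 214

/-- Elements fixing `qPt` with their conjugates under the letter `9`. -/
def uA : List (List ℕ × List ℕ) := [([1, 6, 1], [5, 4, 5]), ([6], [1, 2, 5, 2, 6, 1]), ([0, 1, 0, 6, 1], [1, 5, 4, 1, 5])]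

/-- Elements whose conjugates under the letter `7` fix `qPt`, with their conjugates. -/
def uB : List (List ℕ × List ℕ) := [([3, 2, 0, 3, 0], [0, 3, 0, 2, 3]), ([0, 1, 0], [1]), ([4, 6, 3, 6, 4], [0, 4, 6, 3, 6, 4, 5])]

/-- The words generating the stabilizer of `qPt`, and their inverses. -/
def uWords : List (List ℕ) := [[1, 6, 1], [6], [0, 1, 0, 6, 1], [7, 3, 2, 0, 3, 0, 7], [7, 0, 1, 0, 7], [7, 4, 6, 3, 6, 4, 7], [1, 6, 1], [6], [1, 6, 0, 1, 0], [7, 0, 3, 0, 2, 3, 7], [7, 0, 1, 0, 7], [7, 4, 6, 3, 6, 4, 7]]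

/-- Base points and transporters in the stabilizer. -/
def uChain : List (ℕ × List (List ℕ)) := [
  (0, [[], [6], [7], [8], [3], [10], [11], [9], [8, 6], [3, 6], [10, 6], [11, 6], [9, 6], [8, 7], [11, 7], [3, 8], [11, 8], [9, 8], [6, 3], [7, 3], [8, 3], [10, 3], [11, 3], [11, 10], [9, 10], [6, 11], [7, 11], [8, 11], [3, 11], [10, 11], [9, 11], [7, 9], [11, 9], [11, 8, 6], [6, 3, 6], [7, 3, 6], [8, 3, 6], [11, 3, 6], [11, 10, 6], [6, 11, 6], [7, 11, 6], [8, 11, 6], [3, 11, 6], [10, 11, 6], [9, 11, 6], [6, 9, 6], [11, 9, 6], [11, 8, 7], [7, 11, 7], [8, 11, 7], [10, 11, 7], [11, 3, 8], [6, 11, 8], [7, 11, 8], [3, 11, 8], [10, 11, 8], [9, 11, 8], [11, 9, 8], [3, 6, 3], [11, 6, 3], [9, 6, 3], [11, 7, 3], [3, 8, 3], [11, 8, 3],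 [9, 8, 3], [11, 10, 3], [6, 11, 3], [3, 11, 3], [10, 11, 3], [9, 11, 3], [6, 11, 10], [8, 11, 10], [3, 11, 10], [10, 11, 10], [9, 11, 10], [7, 6, 11], [3, 6, 11], [10, 6, 11], [8, 7, 11], [3, 7, 11], [10, 7, 11], [9, 7, 11], [3, 8, 11], [11, 8, 11], [7, 3, 11], [8, 3, 11], [10, 3, 11], [7, 10, 11], [11, 10, 11], [9, 10, 11], [10, 11, 9], [7, 11, 8, 6], [10, 11, 8, 6], [3, 6, 3, 6], [11, 6, 3, 6], [3, 7, 3, 6], [3, 8, 3, 6], [11, 8, 3, 6], [3, 11, 3, 6], [9, 11, 3, 6], [6, 11, 10, 6], [8, 11, 10, 6], [10, 11, 10, 6], [3, 6, 11, 6], [10, 6, 11, 6], [9, 6, 11, 6], [3, 7, 11, 6], [10, 7, 11, 6], [11, 7, 11, 6], [9, 7, 11, 6], [10, 8, 11, 6], [10, 3, 11, 6], [3, 10, 11, 6], [9, 10, 11, 6], [10, 9, 11, 6], [3, 6, 9, 6], [10, 11,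 8, 7], [8, 7, 11, 7], [10, 7, 11, 7], [10, 8, 11, 7], [11, 8, 11, 7], [7, 10, 11, 7], [3, 6, 11, 8], [10, 6, 11, 8], [9, 6, 11, 8], [9, 7, 11, 8], [9, 10, 11, 8], [6, 11, 9, 8], [10, 11, 7, 3], [11, 10, 11, 3], [10, 8, 11, 10], [8, 3, 11, 10], [3, 10, 11, 10], [11, 10, 11, 10], [6, 9, 11, 10], [7, 9, 11, 10], [11, 10, 6, 11], [11, 3, 7, 11], [11, 9, 7, 11], [3, 11, 8, 11], [9, 11, 8, 11], [11, 8, 3, 11], [3, 11, 10, 11], [11, 10, 11, 9], [11, 7, 11, 8, 6], [11, 10, 11, 8, 6], [3, 11, 6, 3, 6], [11, 3, 7, 3, 6], [6, 11, 8, 3, 6], [11, 3, 6, 11, 6], [11, 9, 6, 11, 6], [3, 11, 7, 11, 6], [9, 11, 7, 11, 6], [11, 10, 6, 11, 8], [11, 9, 7, 11, 8], [6, 11, 10, 11, 3], [7, 11, 10, 11, 3], [11, 8, 3, 11, 10], [11, 7, 9, 11, 10], [6,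 11, 3, 7, 3, 6], [6, 11, 10, 6, 11, 8], [7, 11, 10, 6, 11, 8]]),
  (113, [[], [10, 0, 1], [3, 6, 2, 3], [10, 9, 0, 1, 9], [3, 11, 0, 2, 5], [7, 11, 0, 5, 1], [11, 8, 0, 5, 9], [3, 7, 5, 0, 5], [11, 6, 5, 1, 9], [11, 3, 7, 2, 4, 5], [9, 11, 8, 3, 5, 2], [9, 11, 7, 5, 0, 9], [8, 11, 8, 5, 1, 2], [9, 11, 7, 5, 2, 3], [10, 11, 7, 5, 2, 4], [11, 10, 6, 5, 3, 1], [8, 11, 6, 5, 4, 9], [11, 10, 6, 5, 9, 0], [8, 11, 6, 5, 9, 4], [7, 11, 0, 5, 0, 4], [10, 9, 0, 5, 0, 5], [8, 11, 3, 1, 5, 9], [11, 6, 5, 0, 3, 4], [6, 9, 5, 0, 3, 5], [11, 6, 5, 0, 4, 3], [3, 6, 5, 1, 5, 3], [10, 0, 5, 0, 5, 1], [9, 2, 4, 5, 0, 5], [6, 11, 8, 0, 1, 5, 0], [11, 6, 9, 0, 1, 5, 2], [9, 7, 11, 0, 3, 5, 0], [7, 11, 9, 0, 3, 5, 1], [9, 6, 11, 0, 5, 0, 3], [11,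 9, 10, 0, 5, 2, 3], [9, 6, 11, 0, 5, 2, 9], [11, 10, 11, 0, 5, 4, 5], [7, 11, 9, 0, 9, 5, 0], [11, 10, 3, 1, 3, 5, 2], [9, 11, 10, 1, 5, 3, 0], [8, 9, 11, 1, 5, 3, 2], [11, 10, 11, 1, 5, 4, 5], [9, 11, 10, 1, 5, 9, 1], [9, 7, 11, 3, 2, 5, 0], [8, 11, 8, 3, 3, 5, 4], [10, 11, 6, 3, 5, 0, 9], [10, 11, 6, 3, 5, 2, 3], [11, 8, 11, 4, 5, 2, 5], [8, 11, 7, 4, 9, 5, 4], [10, 11, 7, 5, 0, 1, 2], [8, 11, 8, 5, 0, 2, 4], [7, 9, 6, 5, 0, 3, 1], [10, 11, 6, 5, 0, 5, 4], [6, 11, 8, 5, 2, 5, 0], [6, 11, 9, 5, 2, 5, 3], [6, 11, 6, 5, 2, 5, 4], [3, 6, 9, 9, 5, 0, 5], [7, 11, 0, 3, 3, 5, 0], [8, 7, 0, 5, 1, 5, 4], [10, 9, 0, 5, 2, 5, 9], [11, 6, 3, 5, 0, 5, 4], [8, 6, 5, 0, 3, 5, 2], [3, 6, 5, 0, 4, 3, 5], [3, 10, 5, 0, 5, 4, 1], [7, 11,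 9, 7, 2, 5, 0, 3], [8, 3, 11, 9, 4, 1, 5, 1], [8, 3, 11, 6, 4, 5, 2, 9], [8, 9, 11, 6, 5, 1, 3, 5], [10, 11, 9, 6, 5, 3, 2, 3], [11, 8, 11, 6, 5, 9, 1, 5], [10, 9, 11, 9, 9, 0, 5, 2], [7, 11, 9, 0, 3, 5, 0, 4], [3, 11, 9, 0, 4, 5, 2, 3], [11, 9, 10, 0, 5, 1, 4, 3], [7, 11, 9, 0, 5, 1, 5, 9], [9, 6, 11, 0, 5, 1, 9, 4], [9, 7, 11, 0, 9, 5, 0, 4], [6, 11, 10, 1, 5, 3, 0, 3], [10, 11, 10, 2, 3, 5, 9, 0], [6, 11, 9, 2, 4, 5, 3, 2], [10, 9, 11, 2, 5, 0, 5, 4], [9, 11, 10, 2, 5, 0, 9, 5], [9, 11, 10, 2, 5, 4, 1, 5], [7, 11, 10, 2, 5, 9, 0, 3], [9, 6, 11, 3, 1, 5, 0, 4], [9, 7, 11, 3, 5, 2, 5, 0], [11, 8, 11, 4, 5, 0, 5, 9], [11, 10, 11, 9, 0, 3, 5, 4, 5], [6, 9, 6, 11, 0, 5, 0, 3, 0], [11, 3, 7, 11, 0, 5, 2, 4, 5], [11, 10, 11,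 9, 1, 3, 5, 4, 5], [9, 7, 11, 7, 3, 5, 2, 5, 4], [11, 7, 9, 11, 4, 5, 1, 5, 0], [8, 9, 11, 6, 5, 0, 4, 5, 3], [10, 11, 3, 6, 5, 0, 4, 5, 4], [3, 11, 9, 7, 5, 0, 5, 9, 5], [11, 8, 11, 7, 6, 2, 5, 9, 1, 5], [10, 9, 0, 5, 0, 5, 10, 0, 1], [11, 6, 3, 5, 0, 5, 4, 10, 0, 1], [11, 8, 11, 6, 5, 9, 1, 5, 10, 0, 1], [8, 11, 8, 0, 3, 5, 1, 5, 10, 0, 1], [6, 9, 6, 11, 0, 5, 0, 3, 0, 10, 0, 1], [10, 9, 0, 5, 0, 5, 3, 6, 2, 3], [3, 6, 9, 9, 5, 0, 5, 3, 6, 2, 3], [11, 3, 7, 11, 8, 3, 1, 5, 2, 5, 3, 6, 2, 3], [9, 7, 11, 0, 9, 5, 0, 4, 3, 11, 0, 2, 5]]),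
  (115, [[], [8, 3, 6, 5, 0, 9, 2], [9, 7, 11, 7, 3, 0, 5, 0], [9, 6, 11, 6, 3, 1, 5, 1], [7, 6, 11, 6, 3, 1, 5, 3], [11, 6, 9, 7, 5, 0, 1, 3], [3, 11, 6, 9, 0, 5, 0, 1, 5], [6, 9, 11, 6, 3, 1, 5, 1, 5], [7, 3, 6, 11, 4, 5, 0, 3, 0], [7, 9, 10, 6, 5, 0, 3, 0, 4], [6, 11, 9, 7, 5, 1, 3, 5, 0], [7, 11, 3, 7, 5, 1, 9, 5, 1], [10, 11, 6, 3, 6, 1, 2, 5, 0, 2], [11, 10, 8, 11, 7, 3, 0, 5, 2, 5], [11, 8, 11, 9, 7, 5, 0, 4, 5, 1], [9, 7, 11, 7, 3, 0, 5, 0, 8, 3, 6, 5, 0, 9, 2], [7, 6, 11, 6, 3, 1, 5, 3, 8, 3, 6, 5, 0, 9, 2], [11, 6, 9, 7, 5, 0, 1, 3, 8, 3, 6, 5, 0, 9, 2], [11, 7, 11, 6, 3, 0, 5, 9, 0, 8, 3, 6, 5, 0, 9, 2], [6, 9, 11, 6, 3, 1, 5, 1, 5, 8, 3, 6, 5, 0, 9, 2], [11, 10, 8, 11, 7, 3, 0, 5, 2, 5, 8, 3, 6, 5, 0, 9, 2], [7,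 6, 11, 6, 3, 1, 5, 3, 9, 7, 11, 7, 3, 0, 5, 0], [11, 6, 9, 7, 5, 0, 1, 3, 9, 7, 11, 7, 3, 0, 5, 0], [11, 7, 11, 6, 3, 0, 5, 9, 0, 9, 7, 11, 7, 3, 0, 5, 0], [6, 11, 9, 7, 5, 1, 3, 5, 0, 9, 7, 11, 7, 3, 0, 5, 0], [8, 3, 6, 5, 0, 9, 2, 9, 6, 11, 6, 3, 1, 5, 1], [7, 6, 11, 6, 3, 1, 5, 3, 9, 6, 11, 6, 3, 1, 5, 1], [11, 6, 9, 7, 5, 0, 1, 3, 9, 6, 11, 6, 3, 1, 5, 1], [3, 11, 6, 9, 0, 5, 0, 1, 5, 9, 6, 11, 6, 3, 1, 5, 1], [11, 7, 11, 6, 3, 0, 5, 9, 0, 9, 6, 11, 6, 3, 1, 5, 1], [6, 9, 11, 6, 3, 1, 5, 1, 5, 9, 6, 11, 6, 3, 1, 5, 1], [7, 3, 6, 11, 4, 5, 0, 3, 0, 9, 6, 11, 6, 3, 1, 5, 1], [7, 9, 10, 6, 5, 0, 3, 0, 4, 9, 6, 11, 6, 3, 1, 5, 1], [11, 8, 11, 9, 7, 5, 0, 4, 5, 1, 9, 6, 11, 6, 3, 1, 5, 1], [11, 6, 9, 7, 5, 0, 1, 3, 7, 6, 11,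 6, 3, 1, 5, 3], [6, 9, 11, 6, 3, 1, 5, 1, 5, 7, 6, 11, 6, 3, 1, 5, 3], [11, 10, 8, 11, 7, 3, 0, 5, 2, 5, 11, 6, 9, 7, 5, 0, 1, 3], [6, 9, 11, 6, 3, 1, 5, 1, 5, 3, 11, 6, 9, 0, 5, 0, 1, 5], [9, 6, 11, 6, 3, 1, 5, 1, 6, 9, 11, 6, 3, 1, 5, 1, 5], [3, 11, 6, 9, 0, 5, 0, 1, 5, 6, 9, 11, 6, 3, 1, 5, 1, 5], [7, 3, 6, 11, 4, 5, 0, 3, 0, 6, 9, 11, 6, 3, 1, 5, 1, 5], [7, 9, 10, 6, 5, 0, 3, 0, 4, 6, 9, 11, 6, 3, 1, 5, 1, 5], [6, 11, 9, 7, 5, 1, 3, 5, 0, 6, 9, 11, 6, 3, 1, 5, 1, 5], [10, 11, 6, 3, 6, 1, 2, 5, 0, 2, 6, 9, 11, 6, 3, 1, 5, 1, 5], [11, 8, 11, 9, 7, 5, 0, 4, 5, 1, 6, 9, 11, 6, 3, 1, 5, 1, 5], [6, 11, 9, 7, 5, 1, 3, 5, 0, 7, 3, 6, 11, 4, 5, 0, 3, 0], [7, 11, 3, 7, 5, 1, 9, 5, 1, 7, 3, 6, 11, 4, 5, 0, 3, 0], [11, 10, 8, 11,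 7, 3, 0, 5, 2, 5, 7, 9, 10, 6, 5, 0, 3, 0, 4], [11, 8, 11, 9, 7, 5, 0, 4, 5, 1, 7, 9, 10, 6, 5, 0, 3, 0, 4], [7, 6, 11, 6, 3, 1, 5, 3, 6, 11, 9, 7, 5, 1, 3, 5, 0], [11, 6, 9, 7, 5, 0, 1, 3, 6, 11, 9, 7, 5, 1, 3, 5, 0], [7, 6, 11, 6, 3, 1, 5, 3, 7, 11, 3, 7, 5, 1, 9, 5, 1], [6, 11, 9, 7, 5, 1, 3, 5, 0, 10, 11, 6, 3, 6, 1, 2, 5, 0, 2], [7, 11, 3, 7, 5, 1, 9, 5, 1, 10, 11, 6, 3, 6, 1, 2, 5, 0, 2], [11, 6, 9, 7, 5, 0, 1, 3, 11, 10, 8, 11, 7, 3, 0, 5, 2, 5], [11, 7, 11, 6, 3, 0, 5, 9, 0, 11, 10, 8, 11, 7, 3, 0, 5, 2, 5], [10, 11, 6, 3, 6, 1, 2, 5, 0, 2, 11, 10, 8, 11, 7, 3, 0, 5, 2, 5], [11, 10, 8, 11, 7, 3, 0, 5, 2, 5, 11, 10, 8, 11, 7, 3, 0, 5, 2, 5], [7, 3, 6, 11, 4, 5, 0, 3, 0, 11, 8, 11, 9, 7, 5, 0, 4, 5, 1], [7, 3, 6, 11,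 4, 5, 0, 3, 0, 9, 7, 11, 7, 3, 0, 5, 0, 8, 3, 6, 5, 0, 9, 2], [7, 9, 10, 6, 5, 0, 3, 0, 4, 9, 7, 11, 7, 3, 0, 5, 0, 8, 3, 6, 5, 0, 9, 2], [6, 9, 11, 6, 3, 1, 5, 1, 5, 11, 6, 9, 7, 5, 0, 1, 3, 8, 3, 6, 5, 0, 9, 2], [9, 6, 11, 6, 3, 1, 5, 1, 11, 10, 8, 11, 7, 3, 0, 5, 2, 5, 8, 3, 6, 5, 0, 9, 2], [11, 10, 8, 11, 7, 3, 0, 5, 2, 5, 6, 11, 9, 7, 5, 1, 3, 5, 0, 9, 7, 11, 7, 3, 0, 5, 0]]),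
  (1, [[], [8, 3, 6, 11, 0, 9, 2, 11, 7, 11, 7, 9, 0, 5, 3, 0, 8, 3, 6, 5, 0, 9, 2, 9, 7, 11, 7, 3, 0, 5, 0], [6, 11, 6, 9, 1, 5, 1, 3, 8, 3, 6, 5, 0, 9, 2, 6, 9, 11, 6, 3, 1, 5, 1, 5, 8, 3, 6, 5, 0, 9, 2]])]

/-- Representatives with the rule moving the letter `9` across. -/
def cReps : List (List ℕ × List ℕ × List ℕ × ℕ) := [([], [], [], 0), ([3], [3], [3], 0), ([0, 3, 4], [4, 1, 3], [0, 1, 4, 3], 1)]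

/-- Each point from a representative by the stabilizer. -/
def cPaths : List (ℕ × List ℕ) := [(1, [3, 5, 4, 5, 3, 0]), (2, [4, 5, 1]), (1, [5, 1, 5, 4, 5, 1]), (2, [2, 5, 3, 1]), (1, [3, 0, 5, 1]), (1, [1, 5, 4, 5, 0]), (2, [3, 5, 4, 5]), (1, [4, 0, 5, 0]), (2, [5, 2, 5, 4, 5, 3]), (2, [3, 5, 0, 3]), (1, [4, 2, 0, 5, 0]), (2, [4, 5, 2, 3, 5, 1]), (1, [2, 3, 5, 0]), (1, [1, 4, 5, 0]), (2, [4, 0]), (1, [4, 5, 0, 5, 0]), (2, [1, 5, 4, 5, 3]), (2, [5, 4, 0]), (2, [5, 3, 5]), (2, [2, 5, 0, 3, 5, 1]), (1, [4, 5, 4, 0, 5, 1]), (2, [0, 5, 3, 0, 5, 4, 5]), (2, [3, 5, 3]), (2, [4, 5, 0, 3]), (2, [1, 3, 4]), (2, [3, 1, 5, 4, 5]), (1, [3, 2, 0, 5, 3, 0]), (1, [3, 1, 5, 4, 0]), (2, [5, 4, 5]), (2, [4, 5]), (2, [0, 5, 2, 5, 4, 5, 3]),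 (2, [5, 4]), (2, [5, 4, 0, 5]), (1, [3]), (1, [5, 4, 5, 0, 5, 4]), (1, [5, 4, 0]), (1, [3, 0, 5, 0, 5, 0]), (1, [4, 2, 5, 0]), (2, [3, 5, 4]), (2, [0, 5, 1, 5, 4, 5]), (1, [2, 0, 5, 3, 0]), (2, [3, 1]), (1, [5, 3, 0, 5, 1]), (1, [5, 0, 5, 4, 0]), (2, [5, 0, 5, 4, 0, 5]), (1, [0, 5, 0, 5, 4, 0]), (1, [0, 3, 5, 0, 5]), (2, [3, 4, 0]), (2, [3, 0, 5]), (2, [0, 5, 3, 1]), (1, [5, 4]), (1, [0, 3, 5, 0]), (1, [5, 1, 5, 4, 0]), (1, [3, 5, 4, 2, 5, 0]), (1, [5, 4, 5, 0]), (1, [0, 3, 5, 0, 5, 0]), (1, [2, 0, 5, 0, 5, 4, 0]), (1, [2, 5, 4, 0]), (2, [5, 3, 1]), (2, [3, 5]), (1, [5, 4, 5, 1]), (2, [3]), (1, [1, 5, 0]), (1, [2, 5, 1]), (2, [0, 5, 0, 5, 4, 5]), (1, [1, 3, 5, 0]), (2, [3, 4]), (1, [4, 3, 5, 0, 5, 0]), (2, [3, 1, 5, 4, 5,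 3]), (2, [1]), (2, [5, 3, 0, 5, 3]), (2, [1, 5, 0, 3, 5, 1]), (2, [5, 4, 1, 0]), (2, [4, 5, 3, 0, 5, 3, 1]), (1, [5, 1, 4, 5, 0]), (2, [0, 5, 0, 3, 5, 1]), (1, [4, 5, 0, 5, 1]), (1, [0, 5]), (2, [0, 3, 5, 1]), (2, [5]), (2, [3, 2, 5, 4, 5]), (2, [2, 3, 5, 1]), (2, [1, 0, 5]), (1, [5, 4, 0, 5, 4, 0]), (2, [0, 3]), (2, [5, 0, 5, 4, 5]), (1, [2, 1, 0, 5, 0]), (1, [3, 4, 5, 0, 5, 0]), (1, [0, 5, 1]), (2, [2, 3, 0, 5, 4, 5]), (1, [0, 3, 5, 4, 0]), (1, [2, 5, 4, 5, 0]), (1, [4, 5, 1]), (1, [4, 2, 5, 3, 0]), (1, [5]), (2, [5, 0, 3]), (2, [2, 5, 4]), (2, [0, 5]), (1, [3, 5, 4, 0]), (1, [4, 3, 5, 0]), (1, [2, 1, 5, 0]), (2, [3, 5, 4, 0]), (1, [2, 5, 0, 3, 5, 3, 0]), (1, [2, 5, 0]), (2, [5, 0, 5, 0, 3, 5, 1]), (1, [5, 2, 3, 5, 0]),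 (1, [3, 5, 3, 0, 5, 1]), (2, [4, 5, 0, 3, 5, 1]), (1, [0, 5, 0, 5, 0]), (1, []), (1, [5, 0, 5, 1]), (2, [5, 3]), (2, [2, 5, 4, 5, 3]), (1, [2, 5, 2, 3, 5, 0]), (2, [5, 3, 4, 0]), (1, [1, 5, 4, 0, 5, 4, 0]), (2, [4, 0, 5]), (2, [5, 4, 5, 3]), (1, [0, 5, 3, 0]), (1, [4, 1, 5, 0]), (1, [5, 3, 0]), (2, [4, 5, 3]), (1, [1, 0, 5, 3, 0]), (1, [2, 5, 0, 5, 1]), (1, [4, 0, 5, 1]), (2, [5, 3, 1, 5, 4, 5, 3]), (1, [4, 1, 5, 4, 0]), (2, [0, 5, 4]), (1, [5, 0]), (2, [3, 0, 5, 4, 5]), (1, [0, 5, 0, 5, 4]), (1, [4, 5, 0]), (1, [2, 5, 0, 5, 4, 0]), (1, [4, 2, 5, 0, 5, 0]), (1, [5, 2, 0, 5, 0]), (1, [5, 4, 2, 5, 3, 0]), (1, [5, 0, 5, 0]), (2, []), (2, [5, 3, 1, 5, 4, 5]), (1, [5, 2, 5, 1]), (1, [5, 3, 2, 5, 0]), (1, [2, 0, 5, 0]), (1, [4,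 2, 5, 4, 0]), (1, [1]), (2, [1, 5, 4, 5, 4]), (1, [5, 1, 3, 5, 0]), (2, [0, 5, 3]), (2, [4, 3, 5, 3]), (2, [3, 2, 5, 3]), (1, [3, 5, 4, 5, 0]), (1, [4, 5, 0, 5, 4]), (2, [3, 2, 5, 3, 1]), (1, [0, 5, 1, 5, 0]), (1, [1, 0, 5, 4, 0]), (1, [3, 5, 4, 5, 4, 0]), (2, [5, 3, 0]), (2, [4, 1]), (2, [3, 0, 3, 5, 1]), (1, [3, 5, 2, 5, 3, 0]), (1, [5, 0, 5, 3, 0]), (1, [3, 1, 0, 5, 3, 0]), (1, [1, 4, 0, 5, 0]), (1, [2, 1, 5, 3, 0]), (1, [5, 2, 0, 5, 3, 0]), (1, [2, 5, 3, 0]), (1, [5, 2, 0, 5, 1]), (1, [5, 2, 0, 5, 4, 0]), (2, [5, 1, 5, 4, 5]), (1, [4, 5, 4, 0]), (1, [4, 0]), (2, [5, 3, 0, 5, 4, 5]), (1, [5, 4, 0, 5, 1]), (1, [0, 5, 2, 5, 1]), (2, [5, 4, 5, 4]), (1, [4, 5, 2, 3, 5, 0]), (1, [5, 4, 5, 3, 0]), (2, [1, 5, 4, 5]), (1, [2,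 5, 0, 5, 3, 0]), (2, [5, 2, 5, 3, 1]), (2, [3, 5, 1, 5, 4, 5]), (1, [3, 0]), (1, [4, 3, 5, 0, 5]), (1, [5, 0, 5, 4]), (1, [3, 5, 1, 5, 4, 0]), (2, [3, 5, 0, 5, 4, 5]), (1, [0, 5, 3, 2, 5, 0]), (1, [5, 0, 5]), (2, [0, 5, 4, 5]), (1, [5, 4, 5, 4, 0]), (2, [2, 5, 4, 5]), (1, [4, 0, 5, 0, 5, 0]), (1, [5, 4, 1, 5, 4, 0]), (1, [5, 4, 1, 5, 0]), (2, [4, 5, 1, 0]), (1, [4]), (2, [5, 3, 2, 5, 3, 1]), (2, [5, 2, 5, 4]), (2, [0]), (1, [3, 5, 0]), (1, [5, 1, 5, 0]), (2, [3, 0]), (2, [2, 5, 3]), (2, [4]), (1, [0, 3, 5, 3, 0]), (2, [5, 0, 3, 5, 1]), (2, [3, 5, 1, 0]), (1, [0]), (1, [3, 4, 5, 3, 0]), (1, [3, 1, 0, 5, 4, 0]), (1, [5, 2, 5, 3, 0]), (1, [3, 5, 4, 0, 5, 4, 0]), (1, [3, 5, 1]), (1, [1, 5, 3, 0]), (1, [5, 0, 5, 1, 5, 0]), (0,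 []), (1, [5, 4, 2, 5, 0]), (1, [3, 5, 3, 0]), (2, [2, 5, 2, 3, 5, 1]), (1, [2, 0, 5, 4, 0]), (1, [0, 5, 4]), (1, [4, 3, 4, 5, 3, 0]), (1, [4, 5, 3, 0]), (1, [3, 5, 4, 5, 1]), (1, [4, 0, 5, 4, 0]), (2, [5, 4, 5, 0, 3]), (1, [1, 0, 5, 0]), (2, [4, 5, 4]), (1, [5, 3, 1, 5, 4, 0]), (1, [1, 5, 4, 0]), (1, [2, 0, 5, 1]), (1, [4, 1, 5, 3, 0]), (1, [5, 0, 3, 5, 3, 0]), (1, [1, 5, 1]), (1, [2, 0, 5, 0, 5, 0]), (1, [3, 2, 0, 5, 0]), (2, [4, 2, 5, 3]), (1, [1, 5, 2, 3, 5, 0]), (2, [4, 1, 0]), (2, [5, 3, 2, 5, 3]), (1, [3, 5, 0, 5]), (1, [1, 5, 1, 5, 0]), (1, [3, 2, 5, 0]), (1, [4, 5, 2, 5, 1]), (1, [4, 5, 1, 4, 5, 0]), (2, [5, 1, 0]), (1, [1, 5, 4, 5, 1]), (2, [5, 1]), (2, [0, 5, 4, 5, 3]), (2, [3, 0, 5, 3, 1]), (2, [3, 0, 5, 3]), (1,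 [5, 1]), (1, [3, 5, 0, 5, 1]), (2, [0, 5, 0, 5, 4, 0, 5]), (2, [5, 3, 4]), (2, [5, 3, 0, 5, 3, 1]), (1, [1, 0]), (2, [5, 2, 3, 5, 1]), (1, [0, 5, 0, 5]), (1, [3, 5, 1, 5, 0]), (2, [0, 5, 4, 0, 5]), (2, [4, 5, 4, 0]), (1, [1, 5, 1, 4, 5, 0]), (2, [1, 0]), (1, [3, 5, 0, 5, 0]), (1, [3, 1, 0, 5, 0]), (1, [4, 0, 5, 3, 0]), (1, [5, 4, 5, 2, 5, 1]), (1, [0, 5, 0]), (2, [1, 5]), (1, [2, 1, 5, 1]), (1, [0, 5, 4, 0]), (1, [2, 5, 0, 5, 0]), (2, [3, 0, 5, 0, 5, 4, 5]), (1, [5, 2, 1, 0, 5, 0]), (2, [3, 5, 1])]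

/-- The rule moving the letter `8` across the letter `9`. -/
def tauRule : List ℕ × List ℕ × ℕ := ([2], [0, 1, 0, 1, 2], 1)

/-- Conjugates of the first seven letters under the letter `8`. -/
def tauConjW : List (List ℕ) := [[0, 1, 3, 2, 3, 0], [3, 1, 0, 1, 3], [0, 1, 0, 1, 2], [2, 0, 4, 0, 2], [0, 1, 3, 0, 1], [6, 3, 0, 3, 6], [0, 1, 3, 1, 5, 3, 1, 0]]

/-- The letter `8` across the letter `7`, without and with the twist. -/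
def tauSeven : List (List ℕ) := [[1, 3, 2, 3, 0], [0, 1, 3, 2, 3]]

/-- Transporters of the last point in the centralizer. -/
def cOrbit : List (List ℕ) := [[], [9], [2, 9], [3, 9], [4, 9], [5, 9], [3, 2, 9], [4, 2, 9], [6, 2, 9], [1, 3, 9], [4, 3, 9], [6, 3, 9], [3, 4, 9], [1, 3, 2, 9], [6, 3, 2, 9], [0, 4, 2, 9], [3, 6, 2, 9], [4, 1, 3, 9], [6, 1, 3, 9], [5, 4, 3, 9], [6, 4, 3, 9], [9, 4, 3, 9], [0, 6, 3, 9], [2, 6, 3, 9], [3, 6, 3, 9], [4, 6, 3, 9], [0, 3, 4, 9], [9, 3, 4, 9], [0, 6, 3, 2, 9], [2, 6, 3, 2, 9], [3, 6, 3, 2, 9], [6, 3, 6, 2, 9], [0, 6, 1, 3, 9], [3, 6, 1, 3, 9], [2, 0, 6, 3, 9], [9, 2, 6, 3, 9]]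

end CfsgLib.Recog.Co3Inv
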