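import Cfsg.Agent.Lib.Recog.Co3Inv.MlFacts
import Cfsg.Agent.Lib.Recog.Co3Inv.ExtendData

/-!
The stabilizer of a point among the 275 in the group of the eight letters is generated by the tabled
words, and the orbit of the last point in the centralizer of the first involution has 36 points.
-/

set_option autoImplicit false
set_option maxRecDepth 100000
set_option Elab.async false

namespace CfsgLib.Recog.Co3Inv

open CfsgLib.InvChar.Coset
open CfsgLib.Recog.McLInv (ltW ltW_spec wprod_flatten wprod_congr wprod_mem)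

/-- The point `qPt`. -/
def qP : Fin 276 := ⟨qPt, by decide⟩

theorem qP_ne : qP ≠ inf := by decide

/-- The letters of a word in the words of the stabilizer. -/
noncomputable def uFlat (w : List ℕ) : List ℕ := w.flatMap fun j => uWords.getD j []

/-- The words in the letters below eight fix a point or move it to a given one. -/
noncomputable def fixW (n : ℕ) (L : List ℕ) (i : ℕ) : Bool := ltW n L && Nat.beq (actP L i) i

theorem actP_eq {L : List ℕ} (hL : ∀ x ∈ L, x < 8) (i : Fin 276) :
    ((wprod mg L : Ml) : Equiv.Perm (Fin 276)) i = wprod gp L i := by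
  rw [show ((wprod mg L : Ml) : Equiv.Perm (Fin 276)) = wprod gp L from
    map_wprod Ml.subtype mg gp L fun x hx => mg_val (hL x hx)]

theorem wprod_mg_val {L : List ℕ} (hL : ∀ x ∈ L, x < 8) :
    ((wprod mg L : Ml) : Equiv.Perm (Fin 276)) = wprod gp L :=
  map_wprod Ml.subtype mg gp L fun x hx => mg_val (hL x hx)

theorem wprod_mg_act {L : List ℕ} (hL : ∀ x ∈ L, x < 8) (i : Fin 276) :
    ((((wprod mg L : Ml) : Equiv.Perm (Fin 276)) i : Fin 276) : ℕ) = actP L i := by
  rw [wprod_mg_val hL, wprod_gp_val L (fun x hx => lt_trans (hL x hx) (by norm_num))]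

theorem uWords_checks : (uWords.all fun L => fixW 8 L qPt) = true := by decide +kernel

theorem uFlat_lt (w : List ℕ) : ∀ x ∈ uFlat w, x < 8 := by
  intro x hx
  obtain ⟨j, -, hx⟩ := List.mem_flatMap.1 hx
  rcases Nat.lt_or_ge j uWords.length with h | h
  · rw [List.getD_eq_getElem _ _ h] at hx
    have := List.all_eq_true.1 uWords_checks _ (List.getElem_mem h)
    rw [fixW, Bool.and_eq_true] at this
    exact ltW_spec this.1 x hx
  · rw [List.getD_eq_default _ _ h] at hx
    simp at hx

/-- The elements of the tabled words. -/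
noncomputable def uEl (j : ℕ) : Ml := wprod mg (uWords.getD j [])

theorem uFlat_eq (w : List ℕ) : wprod mg (uFlat w) = wprod uEl w :=
  wprod_flatten (fun j => uWords.getD j []) w

theorem uEl_fix (j : ℕ) : (uEl j : Equiv.Perm (Fin 276)) qP = qP := by
  rcases Nat.lt_or_ge j uWords.length with h | h
  · have hc := List.all_eq_true.1 uWords_checks _ (List.getElem_mem h)
    rw [fixW, Bool.and_eq_true] at hc
    refine Fin.ext ?_
    rw [uEl, List.getD_eq_getElem _ _ h, wprod_mg_act (ltW_spec hc.1)]
    exact Nat.eq_of_beq_eq_true hc.2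
  · rw [uEl, List.getD_eq_default _ _ h]; rfl

/-- Words moving a point to pairwise different points and fixing some points. -/
noncomputable def uChainOK (O : List (List ℕ)) (p : ℕ) (fix : List ℕ) : Bool :=
  (O.all fun w => fix.all fun b => Nat.beq (actP (uFlat w) b) b) &&
    (let M := O.foldr (fun w M => Nat.lor (Nat.shiftLeft 1 (actP (uFlat w) p)) M) 0
     Nat.beq ((List.range 276).countP fun i => M.testBit i) O.length)

theorem uChainOK_nodup {O : List (List ℕ)} {p : ℕ} {fix : List ℕ} (h : uChainOK O p fix = true) :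
    (∀ w ∈ O, ∀ b ∈ fix, actP (uFlat w) b = b) ∧ (O.map fun w => actP (uFlat w) p).Nodup := by
  simp only [uChainOK, Bool.and_eq_true, List.all_eq_true] at h
  refine ⟨fun w hw b hb => Nat.eq_of_beq_eq_true (h.1 w hw b hb), ?_⟩
  have h2 := Nat.eq_of_beq_eq_true h.2
  have key : ∀ (P : List (List ℕ)) (i : ℕ),
      (P.foldr (fun w M => Nat.lor (Nat.shiftLeft 1 (actP (uFlat w) p)) M) 0).testBit i = true →
        i ∈ P.map fun w => actP (uFlat w) p := by
    intro P
    induction P with
    | nil => intro i hi; simp at hi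
    | cons w P ih =>
      intro i hi
      rw [List.foldr_cons] at hi
      change ((1 <<< actP (uFlat w) p) ||| _).testBit i = true at hi
      rw [Nat.testBit_or, Nat.one_shiftLeft, Nat.testBit_two_pow, Bool.or_eq_true, decide_eq_true_iff] at hi
      rcases hi with hi | hi
      · exact List.mem_cons.2 (Or.inl hi.symm)
      · exact List.mem_cons_of_mem _ (ih i hi)
  refine List.dedup_eq_self.1 ((List.dedup_sublist _).eq_of_length ?_)
  refine le_antisymm (List.dedup_sublist _).length_le ?_
  rw [List.length_map, ← h2, List.countP_eq_length_filter, ← List.card_toFinset,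
    ← List.toFinset_card_of_nodup (List.nodup_range.filter _)]
  refine Finset.card_le_card fun i hi => ?_
  rw [List.mem_toFinset, List.mem_filter] at hi
  exact List.mem_toFinset.2 (key O i hi.2)

/-- A base point. -/
noncomputable def bPt (n : ℕ) : ℕ := (uChain.getD n (0, [])).1

/-- The transporters of a base point. -/
noncomputable def bOrb (n : ℕ) : List (List ℕ) := (uChain.getD n (0, [])).2

theorem chain_checks : uChainOK (bOrb 0) (bPt 0) [] = true ∧ uChainOK (bOrb 1) (bPt 1) [bPt 0] = true ∧
    uChainOK (bOrb 2) (bPt 2) [bPt 0, bPt 1] = true ∧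
    uChainOK (bOrb 3) (bPt 3) [bPt 0, bPt 1, bPt 2] = true ∧
    (bOrb 0).length * (bOrb 1).length * (bOrb 2).length * (bOrb 3).length = 3265920 ∧
    bPt 0 < 276 ∧ bPt 1 < 276 ∧ bPt 2 < 276 ∧ bPt 3 < 276 := by
  decide +kernel

/-- A bound from the images of a point. -/
theorem orbit_bound {K : Subgroup Ml} (p : Fin 276) (O : List (List ℕ))
    (hK : ∀ w ∈ O, wprod uEl w ∈ K) (hnd : (O.map fun w => actP (uFlat w) p).Nodup) :
    O.length * Nat.card (K ⊓ MulAction.stabilizer Ml p : Subgroup Ml) ≤ Nat.card K := by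
  have hs : Nat.card (MulAction.stabilizer K p) = Nat.card (K ⊓ MulAction.stabilizer Ml p : Subgroup Ml) :=
    Nat.card_congr
      { toFun := fun k => ⟨(k : K), k.1.2, k.2⟩
        invFun := fun k => ⟨⟨k, k.2.1⟩, k.2.2⟩
        left_inv := fun _ => rfl
        right_inv := fun _ => rfl }
  rw [← hs, ← Nat.card_congr (MulAction.orbitProdStabilizerEquivGroup K p), Nat.card_prod]
  refine Nat.mul_le_mul_right _ ?_
  let F : Fin O.length → MulAction.orbit K p := fun j =>
    ⟨(wprod uEl O[(j : ℕ)] : Ml) • p, ⟨⟨_, hK _ (List.getElem_mem _)⟩, rfl⟩⟩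
  have hval : ∀ w, ((((wprod uEl w : Ml) • p : Fin 276)) : ℕ) = actP (uFlat w) p := fun w => by
    rw [← uFlat_eq]
    exact wprod_mg_act (uFlat_lt w) p
  have hF : Function.Injective F := by
    intro i j e
    have e' : ((((wprod uEl O[(i : ℕ)] : Ml) • p : Fin 276)) : ℕ) =
        (((wprod uEl O[(j : ℕ)] : Ml) • p : Fin 276) : ℕ) :=
      congrArg (fun u : MulAction.orbit K p => ((u : Fin 276) : ℕ)) e
    rw [hval, hval] at e'
    exact Fin.ext (by
      refine (List.Nodup.getElem_inj_iff hnd (hi := by simp) (hj := by simp)).1 ?_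
      simpa using e')
  simpa using Nat.card_le_card_of_injective F hF

/-- The image of a representative. -/
noncomputable def repPt (r : ℕ) : ℕ := actP (cReps.getD r ([], [], [], 0)).1 qPt

theorem path_checks : ((List.range 275).all fun i => Nat.blt (cPaths.getD i (0, [])).1 3 &&
    Nat.beq (actP (uFlat (cPaths.getD i (0, [])).2) (repPt (cPaths.getD i (0, [])).1)) i) = true ∧
    (((List.range 3).all fun r => ltW 7 (cReps.getD r ([], [], [], 0)).1) = true) := by
  decide +kernel

/-- An element of a representative followed by a path. -/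
noncomputable def pathEl (i : ℕ) : Ml :=
  wprod uEl (cPaths.getD i (0, [])).2 * wprod mg (cReps.getD (cPaths.getD i (0, [])).1 ([], [], [], 0)).1

theorem pathEl_spec {i : Fin 276} (hi : i ≠ inf) : (pathEl i : Equiv.Perm (Fin 276)) qP = i := by
  have hlt : (i : ℕ) < 275 := by
    rcases Nat.lt_or_ge (i : ℕ) 275 with h | h
    · exact h
    · exact absurd (Fin.ext (by have := i.2; show (i : ℕ) = 275; omega)) hi
  obtain ⟨hp, hr⟩ := path_checks
  have h := List.all_eq_true.1 hp i (List.mem_range.2 hlt)
  rw [Bool.and_eq_true, Nat.blt_eq] at h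
  have h8 : ∀ x ∈ (cReps.getD (cPaths.getD i (0, [])).1 ([], [], [], 0)).1, x < 8 := fun x hx =>
    Nat.lt_succ_of_lt (ltW_spec (List.all_eq_true.1 hr _ (List.mem_range.2 h.1)) x hx)
  refine Fin.ext ?_
  rw [pathEl, Subgroup.coe_mul, Equiv.Perm.mul_apply, ← uFlat_eq, wprod_mg_act (uFlat_lt _),
    wprod_mg_act h8]
  exact Nat.eq_of_beq_eq_true h.2

/-- **The stabilizer is generated by the tabled words.** -/
theorem stab_eq : Subgroup.closure (Set.range uEl) = MulAction.stabilizer Ml qP := by
  set K := Subgroup.closure (Set.range uEl) with hK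
  have hle : K ≤ MulAction.stabilizer Ml qP := (Subgroup.closure_le _).2 (by
    rintro _ ⟨j, rfl⟩; exact uEl_fix j)
  have hmem : ∀ w, wprod uEl w ∈ K := fun w =>
    wprod_mem fun x _ => Subgroup.subset_closure ⟨x, rfl⟩
  obtain ⟨o0, o1, o2, o3, hprod, l0, l1, l2, l3⟩ := chain_checks
  obtain ⟨-, n0⟩ := uChainOK_nodup o0
  obtain ⟨f1, n1⟩ := uChainOK_nodup o1
  obtain ⟨f2, n2⟩ := uChainOK_nodup o2
  obtain ⟨f3, n3⟩ := uChainOK_nodup o3
  have fixes : ∀ w (b : ℕ) (hb : b < 276), actP (uFlat w) b = b →
      wprod uEl w ∈ MulAction.stabilizer Ml (⟨b, hb⟩ : Fin 276) := fun w b hb h => by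
    refine Fin.ext ?_
    show ((((wprod uEl w : Ml) : Equiv.Perm (Fin 276)) ⟨b, hb⟩ : Fin 276) : ℕ) = b
    rw [← uFlat_eq, wprod_mg_act (uFlat_lt w)]; exact h
  let S := fun (b : ℕ) (hb : b < 276) => MulAction.stabilizer Ml (⟨b, hb⟩ : Fin 276)
  have b0 := orbit_bound (K := K) ⟨_, l0⟩ _ (fun w _ => hmem w) n0
  have b1 := orbit_bound (K := K ⊓ S _ l0) ⟨_, l1⟩ _
    (fun w hw => ⟨hmem w, fixes w _ l0 (f1 w hw _ (by simp))⟩) n1
  have b2 := orbit_bound (K := K ⊓ S _ l0 ⊓ S _ l1) ⟨_, l2⟩ _
    (fun w hw => ⟨⟨hmem w, fixes w _ l0 (f2 w hw _ (by simp))⟩, fixes w _ l1 (f2 w hw _ (by simp))⟩) n2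
  have b3 := orbit_bound (K := K ⊓ S _ l0 ⊓ S _ l1 ⊓ S _ l2) ⟨_, l3⟩ _
    (fun w hw => ⟨⟨⟨hmem w, fixes w _ l0 (f3 w hw _ (by simp))⟩, fixes w _ l1 (f3 w hw _ (by simp))⟩,
      fixes w _ l2 (f3 w hw _ (by simp))⟩) n3
  have hge : 3265920 ≤ Nat.card K := by
    rw [← hprod]
    refine le_trans ?_ b0
    rw [mul_assoc, mul_assoc]
    refine Nat.mul_le_mul_left _ (le_trans ?_ b1)
    refine Nat.mul_le_mul_left _ (le_trans ?_ b2)
    refine Nat.mul_le_mul_left _ (le_trans ?_ b3)
    exact Nat.le_mul_of_pos_right _ Nat.card_pos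
  have horb : 275 * Nat.card (MulAction.stabilizer Ml qP) ≤ 898128000 := by
    rw [← card_Ml, ← Nat.card_congr (MulAction.orbitProdStabilizerEquivGroup Ml qP), Nat.card_prod]
    refine Nat.mul_le_mul_right _ ?_
    let F : Fin 275 → MulAction.orbit Ml qP := fun i =>
      ⟨(pathEl i.castSucc : Ml) • qP, ⟨_, rfl⟩⟩
    have hne : ∀ i : Fin 275, i.castSucc ≠ inf := fun i e => by
      have := congrArg Fin.val e
      rw [Fin.val_castSucc] at this
      change (i : ℕ) = 275 at this
      omega
    have hF : Function.Injective F := fun i j e => Fin.castSucc_injective _ (by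
      have e' : (pathEl i.castSucc : Ml) • qP = (pathEl j.castSucc : Ml) • qP := congrArg Subtype.val e
      exact (pathEl_spec (hne i)).symm.trans (e'.trans (pathEl_spec (hne j))))
    simpa using Nat.card_le_card_of_injective F hF
  exact Subgroup.eq_of_le_of_card_ge hle (by omega)

/-- The group of the first seven letters has order 40320. -/
theorem card_c7 : Nat.card (Subgroup.closure (gp '' Set.Iio 7)) = 40320 := by
  let H : Subgroup Ml := Subgroup.closure (mg '' Set.Iio 7)
  have e1 : H.map Ml.subtype = Subgroup.closure (gp '' Set.Iio 7) := by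
    rw [MonoidHom.map_closure, ← Set.image_comp]
    exact congrArg Subgroup.closure (Set.image_congr fun x hx => mg_val (Nat.lt_succ_of_lt hx))
  have e2 : H.map (McLInv.M8.subtype.comp restr) = McLInv.C0 := by
    rw [MonoidHom.map_closure, ← Set.image_comp]
    exact congrArg Subgroup.closure (Set.image_congr fun x hx => restr_mg (Nat.lt_succ_of_lt hx))
  rw [← e1, ← Nat.card_congr (H.equivMapOfInjective _ Ml.subtype_injective).toEquiv,
    Nat.card_congr (H.equivMapOfInjective (McLInv.M8.subtype.comp restr)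
      (Subtype.val_injective.comp restr_injective)).toEquiv, e2, McLInv.c0_cover.2.1]

/-- The points of the orbit. -/
noncomputable def orbMask : ℕ :=
  cOrbit.foldr (fun L M => Nat.lor (Nat.shiftLeft 1 (actP L 275)) M) 0

theorem orbit_checks : (cOrbit.all fun L => inC L &&
      cLetters.all fun k => orbMask.testBit (actP (k :: L) 275)) = true ∧
    ((List.range 276).countP fun i => orbMask.testBit i) = 36 ∧ cOrbit.length = 36 ∧
    orbMask.testBit 275 = true ∧ ((List.range 7).all fun k => cLetters.any (Nat.beq k)) = true := by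
  decide +kernel

theorem orbMask_spec {i : ℕ} : orbMask.testBit i = true ↔ ∃ L ∈ cOrbit, actP L 275 = i := by
  have key : ∀ P : List (List ℕ),
      (P.foldr (fun L M => Nat.lor (Nat.shiftLeft 1 (actP L 275)) M) 0).testBit i = true ↔
        ∃ L ∈ P, actP L 275 = i := by
    intro P
    induction P with
    | nil => simp
    | cons w P ih =>
      rw [List.foldr_cons]
      change ((1 <<< actP w 275) ||| _).testBit i = true ↔ _
      rw [Nat.testBit_or, Nat.one_shiftLeft, Nat.testBit_two_pow, Bool.or_eq_true, decide_eq_true_iff, ih]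
      simp
  exact key cOrbit

/-- The centralizer of the first involution has order divisible by 1451520. -/
theorem dvd_card_cm : 1451520 ∣ Nat.card Cm := by
  obtain ⟨hall, hcount, -, h275, h7⟩ := orbit_checks
  simp only [List.all_eq_true, Bool.and_eq_true] at hall
  have hlt : ∀ {L : List ℕ}, (∀ x ∈ L, x ∈ cLetters) → ∀ x ∈ L, x < 11 := fun h x hx =>
    lt_trans (lt_of_mem_cLetters (h x hx)) (by norm_num)
  have hclosed : ∀ g : Cm, orbMask.testBit (((g : Equiv.Perm (Fin 276)) inf : Fin 276) : ℕ) = true := by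
    suffices H : ∀ g : Cm, ∀ i : Fin 276, orbMask.testBit (i : ℕ) = true →
        orbMask.testBit (((g : Equiv.Perm (Fin 276)) i : Fin 276) : ℕ) = true from fun g => H g inf h275
    intro g
    have hg : g ∈ Subgroup.closure (cg '' cSet) := closure_cg ▸ Subgroup.mem_top g
    induction hg using Subgroup.closure_induction_left with
    | one => exact fun i hi => hi
    | mul_left a ha y _ ih =>
      intro i hi
      obtain ⟨k, hk, rfl⟩ := ha
      obtain ⟨L, hL, hLi⟩ := orbMask_spec.1 (ih i hi)
      rw [Subgroup.coe_mul, Equiv.Perm.mul_apply, cg_val hk]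
      have h := (hall L hL).2 k hk
      show orbMask.testBit ((mapP k _ : Fin 276) : ℕ) = true
      rw [mapP_val (lt_trans (lt_of_mem_cLetters hk) (by norm_num)), ← hLi]
      exact h
    | inv_mul_cancel a ha y _ ih =>
      intro i hi
      obtain ⟨k, hk, rfl⟩ := ha
      obtain ⟨L, hL, hLi⟩ := orbMask_spec.1 (ih i hi)
      rw [inv_eq_of_mul_eq_one_right (cg_sq k), Subgroup.coe_mul, Equiv.Perm.mul_apply, cg_val hk]
      have h := (hall L hL).2 k hk
      show orbMask.testBit ((mapP k _ : Fin 276) : ℕ) = true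
      rw [mapP_val (lt_trans (lt_of_mem_cLetters hk) (by norm_num)), ← hLi]
      exact h
  have horb : Nat.card (MulAction.orbit Cm inf) = 36 := by
    have e : MulAction.orbit Cm inf = {i : Fin 276 | orbMask.testBit (i : ℕ) = true} := by
      refine Set.Subset.antisymm (fun i hi => ?_) fun i hi => ?_
      · obtain ⟨g, rfl⟩ := hi
        exact hclosed g
      · obtain ⟨L, hL, hLi⟩ := orbMask_spec.1 hi
        refine ⟨el L, Fin.ext ?_⟩
        show (((el L : Cm) : Equiv.Perm (Fin 276)) inf : ℕ) = _
        rw [el_val (inC_spec (hall L hL).1), wprod_gp_val _ (hlt (inC_spec (hall L hL).1))]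
        exact hLi
    rw [e, ← hcount, Nat.card_eq_fintype_card, List.countP_eq_length_filter,
      ← List.toFinset_card_of_nodup (List.nodup_range.filter _)]
    refine (Fintype.card_ofFinset _ _).trans (Finset.card_bij (fun i _ => (i : ℕ)) ?_ ?_ ?_)
    · intro i hi
      simp only [Finset.mem_filter, Finset.mem_univ, true_and, Set.mem_setOf_eq] at hi
      simpa using And.intro i.2 hi
    · exact fun i _ j _ h => Fin.ext h
    · intro n hn
      simp only [List.mem_toFinset, List.mem_filter, List.mem_range] at hn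
      exact ⟨⟨n, hn.1⟩, by simpa using hn.2, rfl⟩
  have h7le : Subgroup.closure (gp '' Set.Iio 7) ≤
      (MulAction.stabilizer Cm inf).map Cm.subtype := by
    rw [Subgroup.closure_le]
    rintro _ ⟨k, hk, rfl⟩
    obtain ⟨y, hy, hky⟩ := List.any_eq_true.1 (List.all_eq_true.1 h7 k (List.mem_range.2 hk))
    have hk' : k ∈ cLetters := Nat.eq_of_beq_eq_true hky ▸ hy
    refine ⟨cg k, ?_, cg_val hk'⟩
    show (cg k : Equiv.Perm (Fin 276)) inf = inf
    rw [cg_val hk', gp_inf (Nat.lt_succ_of_lt hk)]
  have hd := Subgroup.card_dvd_of_le h7le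
  rw [card_c7, ← Nat.card_congr ((MulAction.stabilizer Cm inf).equivMapOfInjective _ Cm.subtype_injective).toEquiv] at hd
  rw [← Nat.card_congr (MulAction.orbitProdStabilizerEquivGroup Cm inf), Nat.card_prod, horb,
    show (1451520 : ℕ) = 36 * 40320 by norm_num]
  exact Nat.mul_dvd_mul_left 36 hd

end CfsgLib.Recog.Co3Inv
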