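import Cfsg.Agent.Lib.Recog.Co3Inv.Spec
import Cfsg.Agent.Lib.Recog.Co3Inv.ExtendModel

/-!
The amalgam: the double cover and the group of the eight letters generate a copy of the model on 276
points.  The points are cosets of the group generated by the eight letters and the letter `8`; that
the action of the letter `8` is the one in the model comes out of its word in the centralizer, so
the central twist does not occur.
-/

set_option autoImplicit false
set_option maxRecDepth 100000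
set_option Elab.async false

namespace CfsgLib.Recog.Co3Inv

open CfsgLib.InvChar.Coset
open CfsgLib.Recog.McLInv (ltW ltW_spec wprod_cons' wprod_congr wprod_mem)

/-- The letters of an element of the group of the first seven, with the letter `8` if the flag is set. -/
noncomputable def withTau (L : List ℕ) (b : ℕ) : List ℕ := L ++ bif Nat.beq b 0 then [] else tauW

/-- The word of the permutation induced by the letter `8`. -/
noncomputable def sigW (z : Bool) : List ℕ := bif z then [8] ++ McLInv.tW else [8]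

/-- The twist. -/
noncomputable def zWord (z : Bool) : List ℕ := bif z then McLInv.tW ++ McLInv.aW else []

/-- The checks for the letter `8`. -/
noncomputable def sigOK (z : Bool) : Bool :=
  ((List.range 7).all fun k => ltW 7 (tauConjW.getD k []) &&
    eqE (tauW ++ [k] ++ tauW) (tauConjW.getD k []) &&
    eqP (sigW z ++ [k] ++ sigW z) (tauConjW.getD k [])) &&
  (let d := tauSeven.getD (bif z then 1 else 0) []
   ltW 7 d && eqE (tau2W ++ zWord z ++ tauW) d && eqP (sigW z ++ [7] ++ sigW z) ([7] ++ d)) &&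
  eqP (sigW z ++ sigW z) [] && Nat.beq (actP (sigW z) 275) 275 &&
  Nat.beq (actP (sigW z) qPt) (actP [8] qPt)

theorem sig_checks : sigOK false = true ∧ sigOK true = true := by decide +kernel

/-- The permutation induced by the letter `8`. -/
noncomputable def sig (z : Bool) : Equiv.Perm (Fin 276) := wprod gp (sigW z)

/-- The checks for the letter `9` across the tabled words. -/
noncomputable def moveOK : Bool :=
  (uA.all fun p => ltW 7 p.1 && ltW 7 p.2 && eqE ([9] ++ p.1 ++ [9]) p.2 &&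
    eqP ([9] ++ p.1) (p.2 ++ [9])) &&
  (uB.all fun p => ltW 7 p.1 && ltW 7 p.2 && eqE (cc2W ++ p.1 ++ cc2W) p.2 &&
    eqP ([9, 7] ++ p.1 ++ [7]) ([7] ++ p.2 ++ [7, 9])) &&
  (uWords.all fun L => (uA.any fun p => McLInv.eqM L p.1 || McLInv.eqM L p.1.reverse) ||
    uB.any fun p => McLInv.eqM L ([7] ++ p.1 ++ [7]) || McLInv.eqM L ([7] ++ p.1 ++ [7]).reverse)

theorem move_checks : moveOK = true := by decide +kernel

/-- The checks for the representatives. -/
noncomputable def repOK : Bool :=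
  (Nat.beq (repPt 0) qPt && Nat.beq (actP [9] qPt) 275 && Nat.beq (actP [9] 275) qPt &&
    Nat.beq (actP McLInv.tW qPt) qPt) &&
  ((List.range 2).all fun r =>
    let e := cReps.getD (r + 1) ([], [], [], 0)
    ltW 7 e.1 && ltW 7 e.2.1 && ltW 7 e.2.2.1 &&
      eqE ([9] ++ e.1 ++ [9]) (e.2.1 ++ [9] ++ withTau e.2.2.1 e.2.2.2) &&
      Nat.beq (actP ([9] ++ e.1) qPt) (actP e.2.1 qPt)) &&
  (ltW 7 tauRule.1 && ltW 7 tauRule.2.1 &&
    eqE (tauW ++ [9]) (tauRule.1 ++ [9] ++ withTau tauRule.2.1 tauRule.2.2) &&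
    Nat.beq (actP [8] qPt) (actP tauRule.1 qPt)) &&
  eqE (tauW ++ tauW) [] && eqE ([9] ++ [9]) [] && eqE (cc2W ++ cc2W) [] &&
  ((List.range 7).all fun k => cLetters.any (Nat.beq k)) && cLetters.any (Nat.beq 9) &&
  (McLInv.tW.all fun x => Nat.blt x 7) && eqP [8] tauW

theorem rep_checks : repOK = true := by decide +kernel

namespace Amb

variable {G : Type*} [Group G]

/-- The double cover, the extra involution and the group of the eight letters. -/
structure Glue (A : Amb G) (O : A.Outer) where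
  /-- the embedding of the group of the eight letters -/
  ι : Ml →* G
  ι_inj : Function.Injective ι
  ι_seven : ι (mg 7) = O.w
  ι_low : ∀ k < 7, ι (mg k) = A.φ (el [k])

namespace Glue

variable {A : Amb G} {O : A.Outer} (E : Glue A O)

/-- The letter `8` in the group. -/
noncomputable def τ (_E : Glue A O) : G := A.φ (el tauW)

/-- The letter `9` in the group. -/
noncomputable def c (_E : Glue A O) : G := A.φ (el [9])

theorem φ_mul (L M : List ℕ) : A.φ (el L) * A.φ (el M) = A.φ (el (L ++ M)) := by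
  rw [← map_mul, ← el_append]

theorem τ_sq : E.τ * E.τ = 1 := by
  have h := rep_checks
  simp only [repOK, Bool.and_eq_true] at h
  rw [τ, φ_mul, eqE_sound h.1.1.1.1.1.1.2, el_nil, map_one]

theorem c_sq : E.c * E.c = 1 := by
  have h := rep_checks
  simp only [repOK, Bool.and_eq_true] at h
  rw [c, φ_mul, eqE_sound h.1.1.1.1.1.2, el_nil, map_one]

theorem ι_word {L : List ℕ} (hL : ∀ x ∈ L, x < 7) : E.ι (wprod mg L) = A.φ (el L) := by
  rw [map_wprod E.ι mg (fun x => A.φ (cg x)) L fun x hx => by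
    rw [E.ι_low x (hL x hx), el_singleton]]
  exact (map_wprod A.φ cg (fun x => A.φ (cg x)) L fun x _ => rfl).symm

theorem w_inv : O.w⁻¹ = O.w := inv_eq_of_mul_eq_one_right O.w_sq

/-- The twist and the rule moving the letter `8` across the letter `7`. -/
theorem exists_twist : ∃ z : Bool, O.w * E.τ * O.w = A.φ (el (tau2W ++ zWord z)) := by
  rcases O.act_tau with h | h
  · exact ⟨false, by rw [τ, h, zWord, cond_false, List.append_nil]⟩
  · exact ⟨true, by rw [τ, h, zWord, cond_true, List.append_assoc]⟩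

/-- Conjugation by the letter `8` on the group of the eight letters. -/
theorem exists_conj : ∃ z : Bool, ∀ x : Ml, ∃ y : Ml,
    (y : Equiv.Perm (Fin 276)) = sig z * x * sig z ∧ E.τ * E.ι x * E.τ = E.ι y := by
  obtain ⟨z, hz⟩ := E.exists_twist
  refine ⟨z, fun x => ?_⟩
  have hs : sigOK z = true := by cases z; exacts [sig_checks.1, sig_checks.2]
  simp only [sigOK, Bool.and_eq_true, List.all_eq_true, List.mem_range] at hs
  obtain ⟨⟨⟨⟨hlow, ⟨hdlt, hdC⟩, hdP⟩, hsq⟩, -⟩, -⟩ := hs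
  set d := tauSeven.getD (bif z then 1 else 0) [] with hd
  have hsq' : sig z * sig z = 1 := by
    rw [sig, ← wprod_append, eqP_sound hsq]; rfl
  have hx : x ∈ Subgroup.closure (mg '' Set.Iio 8) := closure_mg ▸ Subgroup.mem_top x
  induction hx using Subgroup.closure_induction with
  | mem a ha =>
    obtain ⟨k, hk, rfl⟩ := ha
    rcases Nat.lt_succ_iff_lt_or_eq.1 (show k < 8 from hk) with h7 | rfl
    · obtain ⟨⟨hlt, hC⟩, hP⟩ := hlow k h7
      have h8 : ∀ x ∈ tauConjW.getD k [], x < 8 := fun x hx => Nat.lt_succ_of_lt (ltW_spec hlt x hx)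
      refine ⟨wprod mg (tauConjW.getD k []), ?_, ?_⟩
      · rw [wprod_mg_val h8, ← eqP_sound hP, wprod_append, wprod_append, mg_val (Nat.lt_succ_of_lt h7)]
        simp [sig, wprod]
      · rw [E.ι_word (ltW_spec hlt), E.ι_low k h7, τ, φ_mul, φ_mul, eqE_sound hC]
    · have h8 : ∀ x ∈ [7] ++ d, x < 8 := by
        intro x hx
        rcases List.mem_append.1 hx with h | h
        · simp only [List.mem_singleton] at h; omega
        · exact Nat.lt_succ_of_lt (ltW_spec hdlt x h)
      refine ⟨wprod mg ([7] ++ d), ?_, ?_⟩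
      · rw [wprod_mg_val h8, ← eqP_sound hdP, wprod_append, wprod_append, mg_val (by norm_num)]
        simp [sig, wprod]
      · rw [wprod_append, map_mul, E.ι_word (ltW_spec hdlt), ← eqE_sound hdC, el_append, map_mul, ← hz,
          show wprod mg [7] = mg 7 by simp [wprod], E.ι_seven]
        show E.τ * O.w * E.τ = O.w * (O.w * E.τ * O.w * E.τ)
        rw [← mul_assoc O.w (O.w * E.τ * O.w), ← mul_assoc O.w (O.w * E.τ), ← mul_assoc O.w O.w,
          O.w_sq, one_mul]
  | one => exact ⟨1, by simp [hsq'], by simp [E.τ_sq]⟩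
  | mul a b _ _ ha hb =>
    obtain ⟨a', ha1, ha2⟩ := ha
    obtain ⟨b', hb1, hb2⟩ := hb
    refine ⟨a' * b', ?_, ?_⟩
    · rw [Subgroup.coe_mul, ha1, hb1, Subgroup.coe_mul]
      calc sig z * a * sig z * (sig z * b * sig z) = sig z * a * (sig z * sig z) * b * sig z := by group
        _ = _ := by rw [hsq']; group
    · rw [map_mul E.ι a' b', ← ha2, ← hb2, map_mul]
      calc E.τ * (E.ι a * E.ι b) * E.τ = E.τ * E.ι a * (E.τ * E.τ) * E.ι b * E.τ := by
            rw [E.τ_sq]; group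
        _ = _ := by group
  | inv a _ ha =>
    obtain ⟨a', ha1, ha2⟩ := ha
    refine ⟨a'⁻¹, ?_, ?_⟩
    · rw [Subgroup.coe_inv, ha1, Subgroup.coe_inv, mul_inv_rev, mul_inv_rev,
        inv_eq_of_mul_eq_one_right hsq', mul_assoc]
    · rw [map_inv E.ι a', ← ha2, map_inv, mul_inv_rev, mul_inv_rev, inv_eq_of_mul_eq_one_right E.τ_sq,
        mul_assoc]

/-- The group of the eight letters and the letter `8`. -/
def M : Subgroup G where
  carrier := {g | ∃ x, g = E.ι x ∨ g = E.ι x * E.τ}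
  one_mem' := ⟨1, Or.inl (map_one _).symm⟩
  mul_mem' := by
    obtain ⟨z, hz⟩ := E.exists_conj
    have hswap : ∀ y, ∃ y', E.τ * E.ι y = E.ι y' * E.τ := fun y => by
      obtain ⟨y', -, hy'⟩ := hz y
      exact ⟨y', by rw [← hy', mul_assoc, E.τ_sq, mul_one]⟩
    rintro g g' ⟨x, rfl | rfl⟩ ⟨y, rfl | rfl⟩
    · exact ⟨x * y, Or.inl (map_mul _ _ _).symm⟩
    · exact ⟨x * y, Or.inr (by rw [map_mul, mul_assoc])⟩
    · obtain ⟨y', hy'⟩ := hswap y
      exact ⟨x * y', Or.inr (by rw [map_mul, mul_assoc, hy', ← mul_assoc])⟩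
    · obtain ⟨y', hy'⟩ := hswap y
      refine ⟨x * y', Or.inl ?_⟩
      rw [map_mul, mul_assoc, ← mul_assoc E.τ, hy', mul_assoc, E.τ_sq, mul_one]
  inv_mem' := by
    obtain ⟨z, hz⟩ := E.exists_conj
    rintro g ⟨x, rfl | rfl⟩
    · exact ⟨x⁻¹, Or.inl (map_inv _ _).symm⟩
    · obtain ⟨y', -, hy'⟩ := hz x⁻¹
      refine ⟨y', Or.inr ?_⟩
      rw [mul_inv_rev, inv_eq_of_mul_eq_one_right E.τ_sq, ← map_inv, ← hy', mul_assoc, E.τ_sq, mul_one]

theorem ι_mem (x : Ml) : E.ι x ∈ E.M := ⟨x, Or.inl rfl⟩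

theorem τ_mem : E.τ ∈ E.M := ⟨1, Or.inr (by rw [map_one, one_mul])⟩

theorem withTau_mem {L : List ℕ} (hL : ltW 7 L = true) (b : ℕ) : A.φ (el (withTau L b)) ∈ E.M := by
  rw [withTau, el_append, map_mul, ← E.ι_word (ltW_spec hL)]
  refine mul_mem (E.ι_mem _) ?_
  cases Nat.beq b 0
  · exact E.τ_mem
  · rw [cond_true, el_nil, map_one]; exact one_mem _

/-- The elements of the tabled words move across the letter `9`. -/
theorem move_uEl (j : ℕ) : ∃ y : Ml, E.c * E.ι (uEl j) = E.ι y * E.c ∧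
    (y : Equiv.Perm (Fin 276)) * gp 9 = gp 9 * (uEl j : Equiv.Perm (Fin 276)) := by
  have hm := move_checks
  simp only [moveOK, Bool.and_eq_true, List.all_eq_true] at hm
  obtain ⟨⟨hA, hB⟩, hcov⟩ := hm
  have hinv : ∀ u y : Ml, E.c * E.ι u = E.ι y * E.c →
      (y : Equiv.Perm (Fin 276)) * gp 9 = gp 9 * (u : Equiv.Perm (Fin 276)) →
      E.c * E.ι u⁻¹ = E.ι y⁻¹ * E.c ∧
        ((y⁻¹ : Ml) : Equiv.Perm (Fin 276)) * gp 9 = gp 9 * ((u⁻¹ : Ml) : Equiv.Perm (Fin 276)) := by
    intro u y h1 h2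
    refine ⟨?_, ?_⟩
    · rw [map_inv, map_inv, eq_inv_mul_iff_mul_eq, ← mul_assoc, ← h1, mul_inv_cancel_right]
    · rw [Subgroup.coe_inv, Subgroup.coe_inv, inv_mul_eq_iff_eq_mul, ← mul_assoc, h2,
        mul_inv_cancel_right]
  have hrev : ∀ L : List ℕ, wprod mg L.reverse = (wprod mg L)⁻¹ := fun L =>
    wprod_reverse mg (fun x => by
      by_cases hx : x < 8
      · exact Subtype.ext (by rw [Subgroup.coe_mul, mg_val hx, gp_sq]; rfl)
      · simp [mg, hx]) L
  have heq : ∀ {L L' : List ℕ}, McLInv.eqM L L' = true → wprod mg L = wprod mg L' := by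
    intro L L' h
    have h' := McLInv.eqM_sound h
    simp only [McLInv.eqM, Bool.and_eq_true] at h
    refine restr_injective (Subtype.ext ?_)
    rw [show ((restr (wprod mg L) : McLInv.M8) : Equiv.Perm (Fin 275)) = wprod McLInv.gm L from
        map_wprod (McLInv.M8.subtype.comp restr) mg McLInv.gm L fun x hx => restr_mg (ltW_spec h.1.1 x hx),
      show ((restr (wprod mg L') : McLInv.M8) : Equiv.Perm (Fin 275)) = wprod McLInv.gm L' from
        map_wprod (McLInv.M8.subtype.comp restr) mg McLInv.gm L' fun x hx => restr_mg (ltW_spec h.1.2 x hx)]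
    exact h'
  rcases Nat.lt_or_ge j uWords.length with hj | hj
  swap
  · have h1 : uEl j = 1 := by rw [uEl, List.getD_eq_default _ _ hj]; rfl
    exact ⟨1, by simp [h1], by simp [h1]⟩
  have hu : uEl j = wprod mg uWords[j] := by rw [uEl, List.getD_eq_getElem _ _ hj]
  have h := hcov _ (List.getElem_mem hj)
  simp only [Bool.or_eq_true, List.any_eq_true] at h
  rcases h with ⟨p, hp, h⟩ | ⟨p, hp, h⟩
  · obtain ⟨⟨⟨l1, l2⟩, hC⟩, hP⟩ := hA p hp
    have base : E.c * E.ι (wprod mg p.1) = E.ι (wprod mg p.2) * E.c ∧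
        ((wprod mg p.2 : Ml) : Equiv.Perm (Fin 276)) * gp 9 =
          gp 9 * ((wprod mg p.1 : Ml) : Equiv.Perm (Fin 276)) := by
      refine ⟨?_, ?_⟩
      · rw [E.ι_word (ltW_spec l1), E.ι_word (ltW_spec l2), ← eqE_sound hC, el_append, el_append, map_mul,
          map_mul]
        show _ = E.c * A.φ (el p.1) * E.c * E.c
        rw [mul_assoc, E.c_sq, mul_one]
      · rw [wprod_mg_val (fun x hx => Nat.lt_succ_of_lt (ltW_spec l1 x hx)),
          wprod_mg_val (fun x hx => Nat.lt_succ_of_lt (ltW_spec l2 x hx))]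
        have e := eqP_sound hP
        rw [wprod_append, wprod_append] at e
        simpa [wprod] using e.symm
    rcases h with h | h
    · exact ⟨_, by rw [hu, heq h]; exact base⟩
    · exact ⟨_, by rw [hu, heq h, hrev]; exact hinv _ _ base.1 base.2⟩
  · obtain ⟨⟨⟨l1, l2⟩, hC⟩, hP⟩ := hB p hp
    have h8 : ∀ {L : List ℕ}, ltW 7 L = true → ∀ x ∈ [7] ++ L ++ [7], x < 8 := by
      intro L hL x hx
      simp only [List.mem_append, List.mem_singleton] at hx
      rcases hx with (hx | hx) | hx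
      · omega
      · exact Nat.lt_succ_of_lt (ltW_spec hL x hx)
      · omega
    have hι : ∀ {L : List ℕ}, ltW 7 L = true →
        E.ι (wprod mg ([7] ++ L ++ [7])) = O.w * A.φ (el L) * O.w := fun hL => by
      rw [wprod_append, wprod_append, map_mul, map_mul, E.ι_word (ltW_spec hL),
        show wprod mg [7] = mg 7 by simp [wprod], E.ι_seven]
    have base : E.c * E.ι (wprod mg ([7] ++ p.1 ++ [7])) = E.ι (wprod mg ([7] ++ p.2 ++ [7])) * E.c ∧
        ((wprod mg ([7] ++ p.2 ++ [7]) : Ml) : Equiv.Perm (Fin 276)) * gp 9 =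
          gp 9 * ((wprod mg ([7] ++ p.1 ++ [7]) : Ml) : Equiv.Perm (Fin 276)) := by
      refine ⟨?_, ?_⟩
      · have hcw : O.w * A.φ (el cc2W) = E.c * O.w := by
          rw [← O.act_cc, ← mul_assoc, ← mul_assoc, O.w_sq, one_mul]; rfl
        have hwc : O.w * E.c = A.φ (el cc2W) * O.w := by
          rw [← O.act_cc, mul_assoc, O.w_sq, mul_one]; rfl
        rw [hι l1, hι l2, ← eqE_sound hC, el_append, el_append, map_mul, map_mul]
        calc E.c * (O.w * A.φ (el p.1) * O.w) = E.c * O.w * A.φ (el p.1) * (O.w * 1) := by group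
          _ = O.w * A.φ (el cc2W) * A.φ (el p.1) * (O.w * (E.c * E.c)) := by rw [hcw, E.c_sq]
          _ = O.w * A.φ (el cc2W) * A.φ (el p.1) * (O.w * E.c) * E.c := by group
          _ = _ := by rw [hwc]; group
      · rw [wprod_mg_val (h8 l1), wprod_mg_val (h8 l2)]
        have e := eqP_sound hP
        simp only [wprod_append] at e ⊢
        simp only [wprod, List.map_cons, List.map_nil, List.prod_cons, List.prod_nil, mul_one] at e ⊢
        rw [← mul_assoc (gp 9) (gp 7 * _), ← mul_assoc (gp 9) (gp 7)]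
        rw [e]
        group
    rcases h with h | h
    · exact ⟨_, by rw [hu, heq h]; exact base⟩
    · exact ⟨_, by rw [hu, heq h, hrev]; exact hinv _ _ base.1 base.2⟩

/-- The stabilizer of `qP` moves across the letter `9`. -/
theorem move_stab {x : Ml} (hx : x ∈ MulAction.stabilizer Ml qP) :
    ∃ y : Ml, E.c * E.ι x = E.ι y * E.c ∧
      (y : Equiv.Perm (Fin 276)) * gp 9 = gp 9 * (x : Equiv.Perm (Fin 276)) := by
  rw [← stab_eq] at hx
  induction hx using Subgroup.closure_induction with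
  | mem a ha => obtain ⟨j, rfl⟩ := ha; exact E.move_uEl j
  | one => exact ⟨1, by simp⟩
  | mul a b _ _ ha hb =>
    obtain ⟨a', a1, a2⟩ := ha
    obtain ⟨b', b1, b2⟩ := hb
    refine ⟨a' * b', ?_, ?_⟩
    · rw [map_mul, map_mul, ← mul_assoc, a1, mul_assoc, b1, mul_assoc]
    · rw [Subgroup.coe_mul, Subgroup.coe_mul, mul_assoc, b2, ← mul_assoc, a2, mul_assoc]
  | inv a _ ha =>
    obtain ⟨a', a1, a2⟩ := ha
    refine ⟨a'⁻¹, ?_, ?_⟩
    · rw [map_inv, map_inv, eq_inv_mul_iff_mul_eq, ← mul_assoc, ← a1, mul_inv_cancel_right]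
    · rw [Subgroup.coe_inv, Subgroup.coe_inv, inv_mul_eq_iff_eq_mul, ← mul_assoc, a2, mul_inv_cancel_right]

open Classical in
/-- The coset of a point. -/
noncomputable def pt (i : Fin 276) : G ⧸ E.M :=
  if i = inf then ((1 : G) : G ⧸ E.M) else ((E.ι (pathEl i) * E.c : G) : G ⧸ E.M)

theorem pt_inf : E.pt inf = ((1 : G) : G ⧸ E.M) := if_pos rfl

theorem ml_ne_inf (x : Ml) : (x : Equiv.Perm (Fin 276)) qP ≠ inf := fun h =>
  qP_ne ((x : Equiv.Perm (Fin 276)).injective (h.trans (ml_fix x).symm))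

theorem pt_eq {x : Ml} {i : Fin 276} (h : (x : Equiv.Perm (Fin 276)) qP = i) :
    E.pt i = ((E.ι x * E.c : G) : G ⧸ E.M) := by
  have hne : i ≠ inf := h ▸ ml_ne_inf x
  rw [pt, if_neg hne, QuotientGroup.eq]
  have hs : (pathEl i)⁻¹ * x ∈ MulAction.stabilizer Ml qP := by
    show ((((pathEl i)⁻¹ * x : Ml)) : Equiv.Perm (Fin 276)) qP = qP
    rw [Subgroup.coe_mul, Subgroup.coe_inv, Equiv.Perm.mul_apply, h, Equiv.Perm.inv_eq_iff_eq]
    exact (pathEl_spec hne).symm
  obtain ⟨y, hy, -⟩ := E.move_stab hs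
  rw [mul_inv_rev, inv_eq_of_mul_eq_one_right E.c_sq, ← map_inv, ← mul_assoc, mul_assoc E.c, ← map_mul,
    hy, mul_assoc, E.c_sq, mul_one]
  exact E.ι_mem y

theorem pt_qP : E.pt qP = ((E.c : G) : G ⧸ E.M) := by
  rw [E.pt_eq (x := 1) (i := qP) rfl, map_one, one_mul]

theorem smul_ml (x : Ml) (i : Fin 276) : E.ι x • E.pt i = E.pt ((x : Equiv.Perm (Fin 276)) i) := by
  rcases eq_or_ne i inf with rfl | hi
  · rw [ml_fix, pt_inf, MulAction.Quotient.smul_coe, smul_eq_mul, mul_one, QuotientGroup.eq, mul_one]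
    exact inv_mem (E.ι_mem x)
  · rw [E.pt_eq (x := x * pathEl i) (i := (x : Equiv.Perm (Fin 276)) i)
      (by rw [Subgroup.coe_mul, Equiv.Perm.mul_apply, pathEl_spec hi]),
      E.pt_eq (pathEl_spec hi), MulAction.Quotient.smul_coe, smul_eq_mul, map_mul, mul_assoc]

theorem qP_fix : Nat.beq (actP [9] qPt) 275 = true ∧ Nat.beq (actP [9] 275) qPt = true := by
  have h := rep_checks
  simp only [repOK, Bool.and_eq_true] at h
  exact ⟨h.1.1.1.1.1.1.1.1.1.1.1.2, h.1.1.1.1.1.1.1.1.1.1.2⟩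

theorem gp_nine : gp 9 qP = inf ∧ gp 9 inf = qP := by
  refine ⟨Fin.ext ?_, Fin.ext ?_⟩
  · exact (mapP_val (by norm_num) qP).trans (Nat.eq_of_beq_eq_true qP_fix.1)
  · exact (mapP_val (by norm_num) inf).trans (Nat.eq_of_beq_eq_true qP_fix.2)

theorem smul_c (i : Fin 276) : E.c • E.pt i = E.pt (gp 9 i) := by
  rcases eq_or_ne i inf with rfl | hi
  · rw [gp_nine.2, pt_inf, pt_qP, MulAction.Quotient.smul_coe, smul_eq_mul, mul_one]
  have hrep : ∀ r < 3, ∀ m : Ml, m = wprod mg (cReps.getD r ([], [], [], 0)).1 →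
      E.c • E.pt ((m : Equiv.Perm (Fin 276)) qP) = E.pt (gp 9 ((m : Equiv.Perm (Fin 276)) qP)) := by
    intro r hr m hm
    rcases r with _ | r
    · subst hm
      show E.c • E.pt qP = E.pt (gp 9 qP)
      rw [pt_qP, gp_nine.1, pt_inf, MulAction.Quotient.smul_coe, smul_eq_mul, E.c_sq]
    · have h := rep_checks
      simp only [repOK, Bool.and_eq_true, List.all_eq_true, List.mem_range] at h
      obtain ⟨⟨⟨⟨l1, l2⟩, l3⟩, hC⟩, hP⟩ := h.1.1.1.1.1.1.1.1.2 r (by omega)
      generalize cReps.getD (r + 1) ([], [], [], 0) = e at hm l1 l2 l3 hC hP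
      subst hm
      have h8 : ∀ {L : List ℕ}, ltW 7 L = true → ∀ x ∈ L, x < 8 := fun hL x hx =>
        Nat.lt_succ_of_lt (ltW_spec hL x hx)
      have hpt : gp 9 (((wprod mg e.1 : Ml) : Equiv.Perm (Fin 276)) qP) =
          ((wprod mg e.2.1 : Ml) : Equiv.Perm (Fin 276)) qP := by
        refine Fin.ext ?_
        rw [wprod_mg_act (h8 l2)]
        refine ((mapP_val (by norm_num) _).trans ?_).trans (Nat.eq_of_beq_eq_true hP)
        rw [wprod_mg_act (h8 l1)]
        rfl
      rw [E.pt_eq rfl, hpt, E.pt_eq rfl, MulAction.Quotient.smul_coe, smul_eq_mul, ← mul_assoc,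
        E.ι_word (ltW_spec l1), E.ι_word (ltW_spec l2)]
      show ((A.φ (el [9]) * A.φ (el e.1) * A.φ (el [9]) : G) : G ⧸ E.M) = _
      rw [φ_mul, φ_mul, eqE_sound hC, el_append, el_append, map_mul, map_mul]
      refine QuotientGroup.eq.2 ?_
      show (A.φ (el e.2.1) * E.c * A.φ (el (withTau e.2.2.1 e.2.2.2)))⁻¹ * (A.φ (el e.2.1) * E.c) ∈ E.M
      rw [mul_inv_rev, inv_mul_cancel_right]
      exact inv_mem (E.withTau_mem l3 _)
  have hlt : (i : ℕ) < 275 := by
    rcases Nat.lt_or_ge (i : ℕ) 275 with h | h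
    · exact h
    · exact absurd (Fin.ext (by have := i.2; show (i : ℕ) = 275; omega)) hi
  have hr : (cPaths.getD i (0, [])).1 < 3 := by
    have h := List.all_eq_true.1 path_checks.1 i (List.mem_range.2 hlt)
    rw [Bool.and_eq_true, Nat.blt_eq] at h
    exact h.1
  have hu : ∀ w : List ℕ, ∀ j : Fin 276, j ≠ inf → E.c • E.pt j = E.pt (gp 9 j) →
      E.c • E.pt (((wprod uEl w : Ml) : Equiv.Perm (Fin 276)) j) =
        E.pt (gp 9 (((wprod uEl w : Ml) : Equiv.Perm (Fin 276)) j)) := by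
    intro w
    induction w with
    | nil => exact fun j _ h => h
    | cons a w ih =>
      intro j hj h
      obtain ⟨y, y1, y2⟩ := E.move_uEl a
      have e1 := ih j hj h
      rw [wprod_cons', Subgroup.coe_mul, Equiv.Perm.mul_apply, ← E.smul_ml, smul_smul, y1,
        ← smul_smul, e1, E.smul_ml, ← Equiv.Perm.mul_apply, y2, Equiv.Perm.mul_apply]
  have h0 := hrep _ hr _ rfl
  have := hu (cPaths.getD i (0, [])).2 _ (ml_ne_inf _) h0
  rw [← Equiv.Perm.mul_apply, ← Subgroup.coe_mul, ← pathEl, pathEl_spec hi] at this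
  exact this

theorem exists_sigma : ∃ z : Bool, ∀ i : Fin 276, E.τ • E.pt i = E.pt (sig z i) := by
  obtain ⟨z, hz⟩ := E.exists_conj
  refine ⟨z, fun i => ?_⟩
  have hs : sigOK z = true := by cases z; exacts [sig_checks.1, sig_checks.2]
  simp only [sigOK, Bool.and_eq_true] at hs
  obtain ⟨⟨⟨-, hsq⟩, hinf⟩, hq⟩ := hs
  have hsq' : sig z * sig z = 1 := by rw [sig, ← wprod_append, eqP_sound hsq]; rfl
  have hW : ∀ x ∈ sigW z, x < 11 := by cases z <;> decide
  rcases eq_or_ne i inf with rfl | hi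
  · rw [show sig z inf = inf from Fin.ext ((wprod_gp_val _ hW inf).trans (Nat.eq_of_beq_eq_true hinf)),
      pt_inf, MulAction.Quotient.smul_coe, smul_eq_mul, mul_one, QuotientGroup.eq, mul_one]
    exact inv_mem E.τ_mem
  obtain ⟨y, y1, y2⟩ := hz (pathEl i)
  have h := rep_checks
  simp only [repOK, Bool.and_eq_true] at h
  obtain ⟨⟨⟨l1, l2⟩, hC⟩, hP⟩ := h.1.1.1.1.1.1.1.2
  have hτc : E.τ * E.c = A.φ (el tauRule.1) * E.c * A.φ (el (withTau tauRule.2.1 tauRule.2.2)) := by
    show A.φ (el tauW) * A.φ (el [9]) = _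
    rw [φ_mul, eqE_sound hC, el_append, el_append, map_mul, map_mul]
    rfl
  have hq8 : ((wprod mg tauRule.1 : Ml) : Equiv.Perm (Fin 276)) qP = sig z qP := by
    refine Fin.ext ?_
    rw [wprod_mg_act (fun x hx => Nat.lt_succ_of_lt (ltW_spec l1 x hx))]
    exact ((wprod_gp_val _ hW qP).trans
      ((Nat.eq_of_beq_eq_true hq).trans (Nat.eq_of_beq_eq_true hP))).symm
  have key : E.τ • E.pt qP = E.pt (sig z qP) := by
    rw [pt_qP, MulAction.Quotient.smul_coe, smul_eq_mul, hτc, E.pt_eq hq8, E.ι_word (ltW_spec l1),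
      QuotientGroup.eq, mul_inv_rev, inv_mul_cancel_right]
    exact inv_mem (E.withTau_mem l2 _)
  conv_lhs => rw [← pathEl_spec hi, ← E.smul_ml, smul_smul, show E.τ * E.ι (pathEl i) = E.ι y * E.τ by
    rw [← y2, mul_assoc, E.τ_sq, mul_one], ← smul_smul, key, E.smul_ml, y1, ← Equiv.Perm.mul_apply,
    mul_assoc, hsq', mul_one, Equiv.Perm.mul_apply, pathEl_spec hi]

theorem c_not_mem : E.c ∉ E.M := by
  intro hc
  have hgen : ∀ x : Cm, A.φ x ∈ E.M := by
    intro x
    have hx : x ∈ Subgroup.closure (cg '' cSet) := closure_cg ▸ Subgroup.mem_top x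
    have hle : Subgroup.closure (cg '' cSet) ≤ E.M.comap A.φ := by
      rw [Subgroup.closure_le]
      rintro _ ⟨k, hk, rfl⟩
      show A.φ (cg k) ∈ E.M
      rw [← el_singleton]
      have hk' : k < 7 ∨ k = 9 := by
        have : k ∈ cLetters := hk
        simp only [cLetters, List.mem_cons, List.not_mem_nil, or_false] at this
        omega
      rcases hk' with h | rfl
      · rw [← E.ι_low k h]; exact E.ι_mem _
      · exact hc
    exact hle hx
  let H : Subgroup Cm := E.ι.range.comap A.φ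
  let f : H →* E.ι.range := (A.φ.comp H.subtype).codRestrict E.ι.range fun x => x.2
  have hf : Function.Injective f := fun a b h => Subtype.ext (A.inj (congrArg Subtype.val h))
  haveI : Finite Ml := inferInstance
  have hd := Subgroup.card_dvd_of_injective f hf
  rw [← Nat.card_congr (MonoidHom.ofInjective E.ι_inj).toEquiv, card_Ml] at hd
  have hidx : H.index ∣ 2 := by
    by_cases hτ : el tauW ∈ H
    · have htop : H = ⊤ := by
        refine eq_top_iff.2 fun b _ => ?_
        obtain ⟨x, hx | hx⟩ := hgen b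
        · exact ⟨x, hx.symm⟩
        · obtain ⟨y, hy⟩ := hτ
          exact ⟨x * y, by rw [map_mul, hy]; exact hx.symm⟩
      rw [htop, Subgroup.index_top]; exact one_dvd 2
    · refine dvd_of_eq (Subgroup.index_eq_two_iff.2 ⟨el tauW, fun b => ?_⟩)
      obtain ⟨x, hx | hx⟩ := hgen b
      · refine Or.inr ⟨⟨x, hx.symm⟩, fun h => hτ ?_⟩
        have hb : b ∈ H := ⟨x, hx.symm⟩
        exact (H.mul_mem_cancel_left hb).1 h
      · refine Or.inl ⟨⟨x, ?_⟩, fun h => hτ ?_⟩
        · rw [map_mul, hx, mul_assoc]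
          show E.ι x = E.ι x * (E.τ * E.τ)
          rw [E.τ_sq, mul_one]
        · obtain ⟨y, hy⟩ := h
          refine ⟨x⁻¹ * y, ?_⟩
          rw [map_mul, map_inv, hy, hx, inv_mul_cancel_left]
          rfl
  have hcm : Nat.card Cm ∣ 2 * 898128000 := by
    rw [← H.index_mul_card]
    exact Nat.mul_dvd_mul hidx hd
  exact absurd (dvd_card_cm.trans hcm) (by norm_num)

theorem pt_injective : Function.Injective E.pt := by
  have hqi : E.pt inf ≠ E.pt qP := fun h => by
    rw [pt_inf, pt_qP, QuotientGroup.eq, inv_one, one_mul] at h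
    exact E.c_not_mem h
  have hi : ∀ i, i ≠ inf → E.pt inf ≠ E.pt i := fun i hi h => by
    have e := congrArg (fun u => E.ι (pathEl i)⁻¹ • u) h
    rw [E.smul_ml, E.smul_ml, ml_fix] at e
    refine hqi (e.trans (congrArg E.pt ?_))
    rw [Subgroup.coe_inv, Equiv.Perm.inv_eq_iff_eq]
    exact (pathEl_spec hi).symm
  intro i j h
  by_contra hne
  rcases eq_or_ne i inf with rfl | hi'
  · exact hi j (Ne.symm hne) h
  rcases eq_or_ne j inf with rfl | hj'
  · exact hi i hne h.symm
  have e := congrArg (fun u => E.c • (E.ι (pathEl i)⁻¹ • u)) h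
  rw [E.smul_ml, E.smul_ml, E.smul_c, E.smul_c] at e
  have hq : ((pathEl i)⁻¹ : Ml).1 i = qP := by
    show ((pathEl i : Equiv.Perm (Fin 276))⁻¹) i = qP
    rw [Equiv.Perm.inv_eq_iff_eq]
    exact (pathEl_spec hi').symm
  rw [hq, gp_nine.1] at e
  refine hi _ (fun e' => hne ?_) e
  have := (gp 9).injective (e'.trans gp_nine.1.symm)
  exact ((((pathEl i)⁻¹ : Ml) : Equiv.Perm (Fin 276)).injective (this.trans hq.symm)).symm

/-- The pairs of elements and permutations inducing each other. -/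
def graph : Subgroup (G × Equiv.Perm (Fin 276)) where
  carrier := {p | ∀ i, p.1 • E.pt i = E.pt (p.2 i)}
  one_mem' i := by simp
  mul_mem' {p p'} hp hp' i := by
    show (p.1 * p'.1) • E.pt i = E.pt ((p.2 * p'.2) i)
    rw [mul_smul, hp', hp, Equiv.Perm.mul_apply]
  inv_mem' {p} hp i := by
    show p.1⁻¹ • E.pt i = E.pt (p.2⁻¹ i)
    rw [inv_smul_eq_iff, hp, Equiv.Perm.coe_inv, Equiv.apply_symm_apply]

theorem graph_fun {g : G} {σ σ' : Equiv.Perm (Fin 276)} (h : (g, σ) ∈ E.graph) (h' : (g, σ') ∈ E.graph) :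
    σ = σ' := Equiv.ext fun i => E.pt_injective ((h i).symm.trans (h' i))

theorem graph_cm (x : Cm) : (A.φ x, (x : Equiv.Perm (Fin 276))) ∈ E.graph := by
  have hle : Subgroup.closure (cg '' cSet) ≤ E.graph.comap (A.φ.prod Cm.subtype) := by
    rw [Subgroup.closure_le]
    rintro _ ⟨k, hk, rfl⟩
    show (A.φ (cg k), (cg k : Equiv.Perm (Fin 276))) ∈ E.graph
    rw [cg_val hk, ← el_singleton]
    have hk' : k < 7 ∨ k = 9 := by
      have : k ∈ cLetters := hk
      simp only [cLetters, List.mem_cons, List.not_mem_nil, or_false] at this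
      omega
    intro i
    rcases hk' with h | rfl
    · rw [← E.ι_low k h, E.smul_ml, mg_val (Nat.lt_succ_of_lt h)]
    · exact E.smul_c i
  exact hle (closure_cg ▸ Subgroup.mem_top x)

theorem smul_τ (i : Fin 276) : E.τ • E.pt i = E.pt (gp 8 i) := by
  obtain ⟨z, hz⟩ := E.exists_sigma
  have h := rep_checks
  simp only [repOK, Bool.and_eq_true] at h
  have hlt : ∀ x ∈ tauW, x ∈ cLetters := inC_spec word_checks.2.2.2.2.2.2.1
  have e : sig z = gp 8 := by
    refine (E.graph_fun (g := E.τ) (fun j => hz j) (E.graph_cm (el tauW))).trans ?_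
    rw [el_val hlt, ← eqP_sound h.2]
    simp [wprod]
  rw [hz i, e]

theorem graph_letter {x : ℕ} (hx : x < 10) :
    ∃ g : G, (g, gp x) ∈ E.graph := by
  rcases Nat.lt_or_ge x 8 with h | h
  · exact ⟨E.ι (mg x), fun i => by rw [E.smul_ml, mg_val h]⟩
  · interval_cases x
    · exact ⟨E.τ, E.smul_τ⟩
    · exact ⟨E.c, E.smul_c⟩

/-- The group generated. -/
noncomputable def top : Subgroup G := E.ι.range ⊔ A.φ.range

/-- The pairs in the generated group. -/
noncomputable def grp : Subgroup (G × Equiv.Perm (Fin 276)) := E.graph ⊓ E.top.prod ⊤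

theorem grp_map : G3m ≤ E.grp.map (MonoidHom.snd G (Equiv.Perm (Fin 276))) := by
  rw [G3m, Subgroup.closure_le]
  rintro _ ⟨x, hx, rfl⟩
  rcases Nat.lt_or_ge x 8 with h | h
  · exact ⟨(E.ι (mg x), gp x), ⟨fun i => by rw [E.smul_ml, mg_val h],
      ⟨Subgroup.mem_sup_left ⟨_, rfl⟩, Subgroup.mem_top _⟩⟩, rfl⟩
  · have hx' : x < 10 := hx
    interval_cases x
    · exact ⟨(E.τ, gp 8), ⟨E.smul_τ, ⟨Subgroup.mem_sup_right ⟨_, rfl⟩, Subgroup.mem_top _⟩⟩, rfl⟩
    · exact ⟨(E.c, gp 9), ⟨E.smul_c, ⟨Subgroup.mem_sup_right ⟨_, rfl⟩, Subgroup.mem_top _⟩⟩, rfl⟩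

theorem kernel_trivial {g : G} (hg : (g, (1 : Equiv.Perm (Fin 276))) ∈ E.graph) : g = 1 := by
  have hM : ∀ {g : G}, (g, (1 : Equiv.Perm (Fin 276))) ∈ E.graph → g ∈ E.M := by
    intro g hg
    have h := hg inf
    rw [Equiv.Perm.one_apply, pt_inf, MulAction.Quotient.smul_coe, smul_eq_mul, mul_one, QuotientGroup.eq,
      mul_one] at h
    simpa using inv_mem h
  have hι : ∀ x, (E.ι x, (1 : Equiv.Perm (Fin 276))) ∈ E.graph → x = 1 := fun x hx =>
    Subtype.ext (E.graph_fun (g := E.ι x) (fun i => E.smul_ml x i) hx)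
  obtain ⟨x, rfl | rfl⟩ := hM hg
  · rw [hι x hg, map_one]
  · have ht : A.t = E.ι (wprod mg McLInv.tW) := by
      rw [E.ι_word (by decide), ← A.t_eq]; rfl
    obtain ⟨z, hz⟩ := E.exists_conj
    obtain ⟨y, -, hy⟩ := hz (wprod mg McLInv.tW)
    set u := E.ι x * E.τ with hu
    have hu1 : (A.t * u * A.t⁻¹ * u⁻¹, (1 : Equiv.Perm (Fin 276))) ∈ E.graph := by
      have hgr : (A.t, (tm : Equiv.Perm (Fin 276))) ∈ E.graph := by rw [← A.t_eq]; exact E.graph_cm tm
      have := mul_mem (mul_mem (mul_mem hgr hg) (inv_mem hgr)) (inv_mem hg)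
      simpa [Prod.mul_def] using this
    have hin : ∃ v, u * A.t * u⁻¹ = E.ι v := by
      refine ⟨x * y * x⁻¹, ?_⟩
      rw [ht, hu, mul_inv_rev, inv_eq_of_mul_eq_one_right E.τ_sq, map_mul, map_mul, map_inv, ← hy]
      group
    obtain ⟨v, hv⟩ := hin
    have hv' : A.t * u * A.t⁻¹ * u⁻¹ = E.ι (wprod mg McLInv.tW * v⁻¹) := by
      rw [map_mul, map_inv, ← hv, ← ht]; group
    have hcomm : A.t * u * A.t⁻¹ * u⁻¹ = 1 := by
      rw [hv'] at hu1 ⊢
      rw [hι _ hu1, map_one]
    obtain ⟨k, hk⟩ := A.cent u (by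
      calc u * A.t = (A.t * u * A.t⁻¹ * u⁻¹)⁻¹ * (A.t * u) := by group
        _ = A.t * u := by rw [hcomm, inv_one, one_mul])
    have : (k : Equiv.Perm (Fin 276)) = 1 :=
      E.graph_fun (g := u) (hk ▸ E.graph_cm k) hg
    rw [← hk, show k = 1 from Subtype.ext this, map_one]

end Glue

/-- **Step C.** -/
theorem extend_stmt (A : Amb G) (O : A.Outer) (h : A.EmbedStmt O) : A.ExtendStmt := by
  classical
  obtain ⟨ι, hinj, h7, hlow⟩ := h
  let E : Glue A O := ⟨ι, hinj, h7 _ (mg_val (by norm_num)), fun k hk => hlow k hk _ (mg_val (by omega))⟩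
  have hsur : ∀ σ : G3m, ∃ g : G, (g, (σ : Equiv.Perm (Fin 276))) ∈ E.graph := fun σ => by
    obtain ⟨⟨g, s⟩, hp, rfl⟩ := E.grp_map σ.2
    exact ⟨g, hp.1⟩
  have huniq : ∀ {g g' : G} {σ : Equiv.Perm (Fin 276)}, (g, σ) ∈ E.graph → (g', σ) ∈ E.graph → g = g' := by
    intro g g' σ h h'
    have := mul_mem (inv_mem h') h
    simp only [Prod.inv_mk, Prod.mk_mul_mk, inv_mul_cancel] at this
    exact (inv_mul_eq_one.1 (E.kernel_trivial this)).symm
  let ρ : G3m →* G := MonoidHom.mk' (fun σ => (hsur σ).choose) fun a b =>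
    huniq (hsur (a * b)).choose_spec (by
      have := mul_mem (hsur a).choose_spec (hsur b).choose_spec
      simpa [Prod.mul_def] using this)
  refine ⟨ρ, fun a b hab => ?_, fun x => ?_⟩
  · have ha := (hsur a).choose_spec
    have hb := (hsur b).choose_spec
    rw [show (hsur a).choose = (hsur b).choose from hab] at ha
    exact Subtype.ext (E.graph_fun ha hb)
  · exact huniq (hsur _).choose_spec (E.graph_cm x)

end Amb

end CfsgLib.Recog.Co3Inv
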