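import Cfsg.Agent.Lib.Recog.Co3Inv.ExtendModel

/-!
The letter `8` is outside the group of the eight letters, and the model has at least the order of the
third Conway group.
-/

set_option autoImplicit false
set_option maxRecDepth 100000
set_option Elab.async false

namespace CfsgLib.Recog.Co3Inv

open CfsgLib.InvChar.Coset
open CfsgLib.Recog.McLInv (ltW ltW_spec wprod_mem)

/-- Words fixing the four base points. -/
def fifthW : List (List ℕ) := [[], [2, 6, 3, 6, 1, 7, 3, 7, 6, 3, 1, 2, 6, 2, 3, 7, 4, 2, 7, 3, 0, 5, 2, 4, 7, 6, 1, 0, 5, 2], [2, 6, 3, 6, 3, 2, 1, 5, 7, 3, 7, 6, 3, 7, 5, 1, 3, 7, 4, 2, 7, 3, 2, 4, 5, 7, 6, 5], [3, 7, 3, 1, 7, 2, 3, 6, 3, 1, 1, 7, 3, 5, 3, 5, 0, 1, 7, 2, 7, 3, 1, 7, 2, 6, 4], [2, 0, 5, 3, 6, 7, 6, 3, 5, 0, 2, 0, 4, 5, 4, 6, 3, 0, 6, 2, 7, 1, 7, 2, 3, 7, 0, 4, 5, 3, 6, 0, 2], [3, 1, 2, 1, 2, 7, 3, 5, 2, 6, 2, 3, 7, 2, 3, 4, 7, 4, 3, 7, 2, 1, 7, 4, 7, 2], [1, 3, 0, 6, 3, 5, 7, 6, 3, 6, 0, 2,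 4, 6, 7, 3, 5, 7, 1, 2, 7, 3, 7, 4, 1, 5, 3], [3, 7, 3, 1, 7, 2, 7, 5, 6, 7, 6, 5, 7, 0, 7, 6, 3, 6, 7, 0, 4, 6, 3, 1, 7, 2, 6, 3, 4, 5], [2, 6, 3, 6, 3, 2, 5, 7, 3, 7, 6, 3, 7, 5, 0, 1, 1, 2, 0, 3, 4, 7, 6, 0, 7, 1, 6, 3, 7, 2, 4], [3, 1, 2, 1, 3, 6, 3, 1, 0, 7, 6, 4, 1, 1, 7, 0, 6, 3, 5, 4]]

/-- A word with the letter `8` fixing the four base points. -/
def eightW : List ℕ := [2, 6, 7, 3, 5, 7, 4, 5, 2, 1, 0, 3, 7, 5, 4, 5, 7, 3, 1, 0, 7, 4, 5, 0, 3, 1, 1, 7, 0, 8]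

/-- The checks on the words fixing the four base points. -/
theorem fifth_checks :
    (fifthW.all fun L => ltW 8 L && [0, 69, 33, 133].all fun b => Nat.beq (actP L b) b) = true ∧
    (([0, 69, 33, 133].all fun b => Nat.beq (actP eightW b) b) && ltW 9 eightW) = true ∧
    ((fifthW.map fun L => actP L 2).Nodup ∧ fifthW.length = 10 ∧ actP eightW 2 ∉ fifthW.map fun L => actP L 2) ∧
    (((List.range 4).all fun n => Nat.beq (([0, 69, 33, 133] : List ℕ).getD n 0)
      (([(McLInv.mbase0 : ℕ), McLInv.mbase1, McLInv.mbase2, McLInv.mbase3] : List ℕ).getD n 0)) = true) ∧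
    McLInv.morb0.length * McLInv.morb1.length * McLInv.morb2.length * McLInv.morb3.length = 89812800 := by
  decide +kernel

/-- A bound from the images of a point in the group of the eight letters on 275 points. -/
theorem card_fix4 : Nat.card ↥(McLInv.M8 ⊓ MulAction.stabilizer (Equiv.Perm (Fin 275)) McLInv.mbase0 ⊓
    MulAction.stabilizer (Equiv.Perm (Fin 275)) McLInv.mbase1 ⊓
    MulAction.stabilizer (Equiv.Perm (Fin 275)) McLInv.mbase2 ⊓
    MulAction.stabilizer (Equiv.Perm (Fin 275)) McLInv.mbase3) ≤ 10 := by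
  obtain ⟨o0, o1, o2, o3, -⟩ := McLInv.mchain_checks
  obtain ⟨m0, n0⟩ := McLInv.orbM_spec o0
  obtain ⟨m1, n1⟩ := McLInv.orbM_spec o1
  obtain ⟨m2, n2⟩ := McLInv.orbM_spec o2
  obtain ⟨m3, n3⟩ := McLInv.orbM_spec o3
  let S := fun p : Fin 275 => MulAction.stabilizer (Equiv.Perm (Fin 275)) p
  have fixes : ∀ {L : List ℕ}, (∀ x ∈ L, x < 8) → ∀ q : Fin 275, McLInv.actM L q = q →
      wprod McLInv.gm L ∈ S q := fun hL q hq => Fin.ext ((McLInv.wprod_gm_val _ hL q).trans hq)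
  have b0 := McLInv.orbit_bound (K := McLInv.M8) McLInv.mbase0 McLInv.morb0
    (fun L hL => McLInv.wprod_mem8 (m0 L hL).1) (fun L hL => (m0 L hL).1) n0
  have b1 := McLInv.orbit_bound (K := McLInv.M8 ⊓ S McLInv.mbase0) McLInv.mbase1 McLInv.morb1
    (fun L hL => ⟨McLInv.wprod_mem8 (m1 L hL).1, fixes (m1 L hL).1 _ ((m1 L hL).2 _ (by simp))⟩)
    (fun L hL => (m1 L hL).1) n1
  have b2 := McLInv.orbit_bound (K := McLInv.M8 ⊓ S McLInv.mbase0 ⊓ S McLInv.mbase1) McLInv.mbase2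
    McLInv.morb2
    (fun L hL => ⟨⟨McLInv.wprod_mem8 (m2 L hL).1, fixes (m2 L hL).1 _ ((m2 L hL).2 _ (by simp))⟩,
      fixes (m2 L hL).1 _ ((m2 L hL).2 _ (by simp))⟩)
    (fun L hL => (m2 L hL).1) n2
  have b3 := McLInv.orbit_bound
    (K := McLInv.M8 ⊓ S McLInv.mbase0 ⊓ S McLInv.mbase1 ⊓ S McLInv.mbase2) McLInv.mbase3 McLInv.morb3
    (fun L hL => ⟨⟨⟨McLInv.wprod_mem8 (m3 L hL).1, fixes (m3 L hL).1 _ ((m3 L hL).2 _ (by simp))⟩,
      fixes (m3 L hL).1 _ ((m3 L hL).2 _ (by simp))⟩, fixes (m3 L hL).1 _ ((m3 L hL).2 _ (by simp))⟩)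
    (fun L hL => (m3 L hL).1) n3
  rw [McLInv.card_stab_eq] at b0 b1 b2 b3
  rw [McLInv.M8_eq.2] at b0
  have h : McLInv.morb0.length * McLInv.morb1.length * McLInv.morb2.length * McLInv.morb3.length *
      Nat.card ↥(McLInv.M8 ⊓ S McLInv.mbase0 ⊓ S McLInv.mbase1 ⊓ S McLInv.mbase2 ⊓ S McLInv.mbase3) ≤
      898128000 := by
    refine le_trans ?_ b0
    rw [mul_assoc, mul_assoc, mul_assoc]
    exact Nat.mul_le_mul_left _ (le_trans (Nat.mul_le_mul_left _ (le_trans (Nat.mul_le_mul_left _ b3) b2)) b1)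
  rw [fifth_checks.2.2.2.2] at h
  have h' : Nat.card ↥(McLInv.M8 ⊓ S McLInv.mbase0 ⊓ S McLInv.mbase1 ⊓ S McLInv.mbase2 ⊓ S McLInv.mbase3) ≤ 10 := by
    omega
  exact h'

/-- **The letter `8` is outside the group of the eight letters.** -/
theorem not_mem_Ml : gp 8 ∉ Ml := by
  intro h8
  obtain ⟨hW, hE, ⟨hnd, hlen, hout⟩, hbase, -⟩ := fifth_checks
  simp only [Bool.and_eq_true, List.all_eq_true] at hW hE hbase
  set K := McLInv.M8 ⊓ MulAction.stabilizer (Equiv.Perm (Fin 275)) McLInv.mbase0 ⊓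
    MulAction.stabilizer (Equiv.Perm (Fin 275)) McLInv.mbase1 ⊓
    MulAction.stabilizer (Equiv.Perm (Fin 275)) McLInv.mbase2 ⊓
    MulAction.stabilizer (Equiv.Perm (Fin 275)) McLInv.mbase3 with hKdef
  have mk : ∀ g ∈ Ml, (∀ b ∈ ([0, 69, 33, 133] : List ℕ), ∀ i : Fin 276, (i : ℕ) = b →
      ((g i : Fin 276) : ℕ) = b) → ∃ h ∈ K, ((g (2 : Fin 276) : Fin 276) : ℕ) = (h (2 : Fin 275) : ℕ) := by
    intro g hg hfix
    obtain ⟨h, hh, hgh⟩ := exists_restr g hg
    have key : ∀ b : Fin 275, (b : ℕ) ∈ ([0, 69, 33, 133] : List ℕ) → h b = b := fun b hb => by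
      refine Fin.ext ?_
      have e := hfix _ hb b.castSucc rfl
      rwa [hgh, Fin.val_castSucc] at e
    refine ⟨h, ⟨⟨⟨⟨hh, key _ (by decide)⟩, key _ (by decide)⟩, key _ (by decide)⟩, key _ (by decide)⟩, ?_⟩
    have e := congrArg Fin.val (hgh (2 : Fin 275))
    simpa using e
  have hact : ∀ L, (∀ x ∈ L, x < 11) → ∀ i : Fin 276, ((wprod gp L i : Fin 276) : ℕ) = actP L i :=
    fun L hL i => wprod_gp_val L hL i
  have hlist : ∀ L ∈ fifthW, ∃ h ∈ K, actP L 2 = (h (2 : Fin 275) : ℕ) := by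
    intro L hL
    have l8 := ltW_spec (hW L hL).1
    obtain ⟨h, hh, e⟩ := mk _ (wprod_mem fun x hx => Subgroup.subset_closure ⟨x, l8 x hx, rfl⟩)
      (fun b hb i hi => by
        rw [hact L (fun x hx => lt_trans (l8 x hx) (by norm_num)), hi]
        exact Nat.eq_of_beq_eq_true ((hW L hL).2 b hb))
    exact ⟨h, hh, (hact L (fun x hx => lt_trans (l8 x hx) (by norm_num)) 2).symm.trans e⟩
  have h9 := ltW_spec hE.2
  have h9' : ∀ x ∈ eightW, x < 11 := fun x hx => lt_trans (h9 x hx) (by norm_num)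
  obtain ⟨h, hh, e⟩ := mk (wprod gp eightW) (wprod_mem fun x hx => by
      rcases Nat.lt_succ_iff_lt_or_eq.1 (h9 x hx) with h | rfl
      · exact Subgroup.subset_closure ⟨x, h, rfl⟩
      · exact h8)
    (fun b hb i hi => by rw [hact _ h9', hi]; exact Nat.eq_of_beq_eq_true (hE.1 b hb))
  rw [hact _ h9'] at e
  simp only [show ((2 : Fin 276) : ℕ) = 2 from rfl] at e
  clear mk hact hW hE h9 h9' hbase
  revert e hlist hout hnd
  generalize actP eightW 2 = a8
  generalize hmap : (fun L => actP L 2) = im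
  intro hnd hout hlist e
  have hlist' : ∀ L ∈ fifthW, ∃ k ∈ K, im L = (k (2 : Fin 275) : ℕ) := fun L hL => by
    rw [← hmap]; exact hlist L hL
  choose f hfK hf using hlist'
  let F : Option (Fin fifthW.length) → K := fun o =>
    o.elim ⟨h, hh⟩ fun j => ⟨_, hfK fifthW[(j : ℕ)] (List.getElem_mem _)⟩
  have hF : Function.Injective F := by
    rintro (_ | i) (_ | j) hij
    · rfl
    · refine absurd (List.mem_map.2 ⟨fifthW[(j : ℕ)], List.getElem_mem _, ?_⟩) hout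
      rw [hf _ (List.getElem_mem _), e]
      exact (congrArg (fun u : K => (((u : Equiv.Perm (Fin 275)) 2 : Fin 275) : ℕ)) hij).symm
    · refine absurd (List.mem_map.2 ⟨fifthW[(i : ℕ)], List.getElem_mem _, ?_⟩) hout
      rw [hf _ (List.getElem_mem _), e]
      exact congrArg (fun u : K => (((u : Equiv.Perm (Fin 275)) 2 : Fin 275) : ℕ)) hij
    · refine congrArg some (Fin.ext ?_)
      refine (List.Nodup.getElem_inj_iff hnd (hi := by simp) (hj := by simp)).1 ?_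
      rw [List.getElem_map, List.getElem_map, hf _ (List.getElem_mem _), hf _ (List.getElem_mem _)]
      exact congrArg (fun u : K => (((u : Equiv.Perm (Fin 275)) 2 : Fin 275) : ℕ)) hij
  have hc := Nat.card_le_card_of_injective F hF
  rw [Nat.card_eq_fintype_card, Fintype.card_option, Fintype.card_fin, hlen] at hc
  have h10 : Nat.card K ≤ 10 := card_fix4
  omega

/-- The image of the last point under the letter `9` is `qP`. -/
theorem nine_checks : Nat.beq (actP [9] 275) qPt = true ∧ Nat.beq (actP [8] 275) 275 = true := by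
  decide +kernel

/-- **The model has at least the order of the third Conway group.** -/
theorem card_ge : 495766656000 ≤ Nat.card G3m := by
  have hmem : ∀ x < 10, gp x ∈ G3m := fun x hx => Subgroup.subset_closure ⟨x, hx, rfl⟩
  let H : Subgroup (Equiv.Perm (Fin 276)) := Ml ⊔ Subgroup.zpowers (gp 8)
  have hH : H ≤ G3m := sup_le ml_le (Subgroup.zpowers_le.2 (hmem 8 (by norm_num)))
  have hfix : H ≤ MulAction.stabilizer (Equiv.Perm (Fin 276)) inf := sup_le
    (fun g hg => ml_fix ⟨g, hg⟩) (Subgroup.zpowers_le.2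
      (Fin.ext ((mapP_val (by norm_num) inf).trans (Nat.eq_of_beq_eq_true nine_checks.2))))
  have h2 : 2 * 898128000 ≤ Nat.card H := by
    have hd : (Ml.subgroupOf H).index * Nat.card (Ml.subgroupOf H) = Nat.card H := Subgroup.index_mul_card _
    rw [Nat.card_congr (Subgroup.subgroupOfEquivOfLe (le_sup_left : Ml ≤ H)).toEquiv, card_Ml] at hd
    rw [← hd]
    refine Nat.mul_le_mul_right _ ?_
    have hne : (Ml.subgroupOf H).index ≠ 1 := fun h => not_mem_Ml (by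
      have := Subgroup.index_eq_one.1 h
      exact Subgroup.subgroupOf_eq_top.1 this (Subgroup.mem_sup_right (Subgroup.mem_zpowers _)))
    have h0 : (Ml.subgroupOf H).index ≠ 0 := Subgroup.index_ne_zero_of_finite
    omega
  have hstab : Nat.card H ≤ Nat.card (MulAction.stabilizer G3m inf) :=
    Nat.card_le_card_of_injective (fun g => ⟨⟨g, hH g.2⟩, hfix g.2⟩)
      fun a b h => Subtype.ext (congrArg (fun z : MulAction.stabilizer G3m inf => (z : G3m).1) h)
  have hnine : gp 9 inf = qP :=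
    Fin.ext ((mapP_val (by norm_num) inf).trans (Nat.eq_of_beq_eq_true nine_checks.1))
  have horb : 276 ≤ Nat.card (MulAction.orbit G3m inf) := by
    have : ∀ i : Fin 276, i ∈ MulAction.orbit G3m inf := by
      intro i
      rcases eq_or_ne i inf with rfl | hi
      · exact MulAction.mem_orbit_self _
      · refine ⟨⟨(pathEl i : Equiv.Perm (Fin 276)) * gp 9,
          mul_mem (ml_le (pathEl i).2) (hmem 9 (by norm_num))⟩, ?_⟩
        show ((pathEl i : Equiv.Perm (Fin 276)) * gp 9) inf = i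
        rw [Equiv.Perm.mul_apply, hnine, pathEl_spec hi]
    simpa using Nat.card_le_card_of_injective (fun i : Fin 276 => (⟨i, this i⟩ : MulAction.orbit G3m inf))
      fun a b h => congrArg Subtype.val h
  rw [← Nat.card_congr (MulAction.orbitProdStabilizerEquivGroup G3m inf), Nat.card_prod]
  refine le_trans ?_ (Nat.mul_le_mul horb (h2.trans hstab))
  norm_num

end CfsgLib.Recog.Co3Inv
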