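import Cfsg.Agent.Lib.Recog.Co3Inv.SwapChecks

/-!
The lists used for the exchanging automorphisms are complete: elements of order three in the centralizer of
the second involution and the centralizers of their representatives.
-/

set_option autoImplicit false
set_option maxRecDepth 100000
set_option Elab.async false

namespace CfsgLib.Recog.Co3Inv

open CfsgLib.InvChar.Coset
open CfsgLib.Recog.McLInv (img wprod_cons')

theorem actP_append (L M : List ℕ) (i : ℕ) : actP (L ++ M) i = actP L (actP M i) := by
  induction L with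
  | nil => rfl
  | cons x L ih => exact congrArg (img (codes.getD x 0)) ih

theorem inC_append {L M : List ℕ} (hL : inC L = true) (hM : inC M = true) : inC (L ++ M) = true := by
  simp only [inC, List.all_append, Bool.and_eq_true]; exact ⟨hL, hM⟩

theorem inC_reverse {L : List ℕ} (hL : inC L = true) : inC L.reverse = true := by
  simp only [inC, List.all_reverse]; exact hL

theorem inC_conj {L M : List ℕ} (hL : inC L = true) (hM : inC M = true) :
    inC (L ++ M ++ L.reverse) = true := inC_append (inC_append hL hM) (inC_reverse hL)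

theorem inC_replicate {L : List ℕ} (hL : inC L = true) : ∀ k, inC (List.replicate k L).flatten = true
  | 0 => rfl
  | k + 1 => by rw [List.replicate_succ, List.flatten_cons]; exact inC_append hL (inC_replicate hL k)

theorem el_replicate (L : List ℕ) : ∀ k, el (List.replicate k L).flatten = el L ^ k
  | 0 => by rw [List.replicate_zero, List.flatten_nil, el_nil, pow_zero]
  | k + 1 => by rw [List.replicate_succ, List.flatten_cons, el_append, el_replicate L k, pow_succ']

theorem eq_of_keyP {L L' : List ℕ} (hL : inC L = true) (hL' : inC L' = true) (h : keyP L = keyP L') :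
    el L = el L' := by
  have lt : ∀ {M : List ℕ}, inC M = true → ∀ i, i < 276 → actP M i < 276 := fun hM i hi => by
    rw [← el_apply (inC_spec hM) ⟨i, hi⟩]; exact Fin.isLt _
  have a0 := lt hL 275 (by norm_num)
  have a1 := lt hL 0 (by norm_num)
  have a2 := lt hL 118 (by norm_num)
  have a3 := lt hL 1 (by norm_num)
  have b0 := lt hL' 275 (by norm_num)
  have b1 := lt hL' 0 (by norm_num)
  have b2 := lt hL' 118 (by norm_num)
  have b3 := lt hL' 1 (by norm_num)
  unfold keyP at h
  refine eqK_sound ?_
  simp only [eqK, Bool.and_eq_true, Nat.beq_eq]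
  exact ⟨⟨⟨⟨⟨hL, hL'⟩, by omega⟩, by omega⟩, by omega⟩, by omega⟩

theorem eqK_complete {L L' : List ℕ} (hL : inC L = true) (hL' : inC L' = true) (h : el L = el L') :
    eqK L L' = true := by
  have e : ∀ q : Fin 276, Nat.beq (actP L q) (actP L' q) = true := fun q => by
    rw [← el_apply (inC_spec hL) q, ← el_apply (inC_spec hL') q, h]; exact Nat.beq_refl _
  simp only [eqK, Bool.and_eq_true]
  exact ⟨⟨⟨⟨⟨hL, hL'⟩, e ⟨275, by norm_num⟩⟩, e ⟨0, by norm_num⟩⟩, e ⟨118, by norm_num⟩⟩,
    e ⟨1, by norm_num⟩⟩

theorem commW_sound {L M : List ℕ} (h : commW L M = true) : el L * el M = el M * el L := by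
  rw [← el_append, ← el_append, eqK_sound h]

theorem commA_sound {L : List ℕ} (h : commA L = true) : el L * am = am * el L := commW_sound h

theorem commW_complete {L M : List ℕ} (hL : inC L = true) (hM : inC M = true)
    (h : el L * el M = el M * el L) : commW L M = true :=
  eqK_complete (inC_append hL hM) (inC_append hM hL) (by rw [el_append, el_append, h])

theorem cubeP_complete {L : List ℕ} (hL : inC L = true) (h : el L * el L * el L = 1) : cubeP L = true := by
  rw [← el_append, ← el_append] at h
  have e : ∀ q : Fin 276, Nat.beq (actP L (actP L (actP L q))) q = true := fun q => by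
    rw [← actP_append, ← actP_append,
      ← el_apply (inC_spec (inC_append (inC_append hL hL) hL)) q, h]
    exact Nat.beq_refl _
  simp only [cubeP, Bool.and_eq_true]
  exact ⟨⟨⟨e ⟨275, by norm_num⟩, e ⟨0, by norm_num⟩⟩, e ⟨118, by norm_num⟩⟩, e ⟨1, by norm_num⟩⟩

theorem rW_spec {i : ℕ} (hi : i < 4) : inC (rW i) = true ∧ el (rW i) * am = am * el (rW i) := by
  have h := List.all_eq_true.1 threeList_checks.2.2 i (List.mem_range.2 hi)
  simp only [Bool.and_eq_true] at h
  exact ⟨h.1.1.1.1.1, commA_sound h.1.1.1.1.2⟩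

theorem three_spec {p : ℕ × ℕ × List ℕ} (hp : p ∈ swThree) : p.2.1 < 4 ∧ inC p.2.2 = true ∧
    el p.2.2 * am = am * el p.2.2 ∧ p.1 = keyP (p.2.2 ++ rW p.2.1 ++ p.2.2.reverse) := by
  have h := List.all_eq_true.1 threeList_checks.1 p hp
  simp only [Bool.and_eq_true, Nat.blt_eq] at h
  exact ⟨h.1.1.1, h.1.1.2, commA_sound h.1.2, Nat.eq_of_beq_eq_true h.2⟩

/-- **The elements of order three commuting with the second involution.** -/
theorem three_complete {c : Cm} (hc : c * am = am * c) (h3 : c * c * c = 1) (hne : c ≠ 1) :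
    ∃ i < 4, ∃ h, h * am = am * h ∧ c = h * el (rW i) * h⁻¹ := by
  obtain ⟨A, hA, B, hB, C, hC, D, hD, rfl⟩ := exists_dT hc
  have hin : inC (A ++ B ++ C ++ D) = true :=
    inC_append (inC_append (inC_append (dT_spec (by norm_num) hA).1 (dT_spec (by norm_num) hB).1)
      (dT_spec (by norm_num) hC).1) (dT_spec (by norm_num) hD).1
  have h := List.all_eq_true.1 (List.all_eq_true.1 (List.all_eq_true.1 (List.all_eq_true.1
    three_checks A hA) B hB) C hC) D hD
  rw [force_eq, cubeP_complete hin h3, cond_true, force_eq, Bool.or_eq_true, List.any_eq_true] at h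
  rcases h with h | ⟨p, hp, h⟩
  · exact absurd ((eq_of_keyP hin rfl (Nat.eq_of_beq_eq_true h)).trans el_nil) hne
  · obtain ⟨h1, h2, h3', h4⟩ := three_spec hp
    refine ⟨p.2.1, h1, el p.2.2, h3', ?_⟩
    rw [eq_of_keyP hin (inC_conj h2 (rW_spec h1).1) ((Nat.eq_of_beq_eq_true h).trans h4), el_append,
      el_append, el_reverse]

theorem incKeys_nodup {l : List ℕ} (h : incKeys l = true) : l.Nodup := by
  have key : ∀ (l : List ℕ) (p : ℕ), (List.rec (motive := fun _ => ℕ → Bool) (fun _ => true)
      (fun k _ ih prev => Nat.blt prev (k + 1) && ih (k + 1)) l) p = true →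
      (∀ k ∈ l, p < k + 1) ∧ l.Nodup := by
    intro l
    induction l with
    | nil => intro p _; simp
    | cons k l ih =>
      intro p h
      simp only [Bool.and_eq_true, Nat.blt_eq] at h
      obtain ⟨hall, hnd⟩ := ih _ h.2
      refine ⟨fun m hm => ?_, List.nodup_cons.2 ⟨fun hm => lt_irrefl _ (hall k hm), hnd⟩⟩
      rcases List.mem_cons.1 hm with rfl | hm
      exacts [h.1, h.1.trans (hall m hm)]
  exact (key l 0 h).2

/-- **The centralizers of the representatives.** -/
theorem cW_complete {i : ℕ} (hi : i < 4) {d : Cm} (hd : d * am = am * d)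
    (hd' : d * el (rW i) = el (rW i) * d) : ∃ L ∈ cW i, inC L = true ∧ d = el L := by
  classical
  obtain ⟨hr, -⟩ := rW_spec hi
  have h := List.all_eq_true.1 threeList_checks.2.2 i (List.mem_range.2 hi)
  simp only [Bool.and_eq_true, List.all_eq_true] at h
  obtain ⟨⟨⟨⟨-, hmul⟩, -⟩, hmem⟩, hinc⟩ := h
  let S : Subgroup Cm := Subgroup.centralizer {am} ⊓ Subgroup.centralizer {el (rW i)}
  have hS : ∀ {c : Cm}, c ∈ S ↔ c * am = am * c ∧ c * el (rW i) = el (rW i) * c := fun {c} => by
    simp only [S, Subgroup.mem_inf, Subgroup.mem_centralizer_singleton_iff]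
  -- the conjugates in the list bound the order
  set T := swThree.filter fun p => Nat.beq p.2.1 i with hT
  have hTmem : ∀ {j : ℕ} (hj : j < T.length), T[j] ∈ swThree ∧ T[j].2.1 = i := fun hj => by
    have := List.mem_filter.1 (List.getElem_mem hj)
    exact ⟨this.1, Nat.eq_of_beq_eq_true this.2⟩
  let F : Fin T.length × S → Subgroup.centralizer ({am} : Set Cm) := fun q =>
    ⟨el T[(q.1 : ℕ)].2.2 * (q.2 : Cm), Subgroup.mem_centralizer_singleton_iff.2 (by
      rw [mul_assoc, (hS.1 q.2.2).1, ← mul_assoc, (three_spec (hTmem q.1.2).1).2.2.1, mul_assoc])⟩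
  have hF : Function.Injective F := by
    rintro ⟨a, s⟩ ⟨b, s'⟩ e
    have e' : el T[(a : ℕ)].2.2 * (s : Cm) = el T[(b : ℕ)].2.2 * (s' : Cm) := congrArg Subtype.val e
    have hc : ∀ (j : Fin T.length) (u : S), el T[(j : ℕ)].2.2 * (u : Cm) * el (rW i) *
        (el T[(j : ℕ)].2.2 * (u : Cm))⁻¹ = el (T[(j : ℕ)].2.2 ++ rW i ++ T[(j : ℕ)].2.2.reverse) := by
      intro j u
      rw [mul_assoc (el T[(j : ℕ)].2.2), (hS.1 u.2).2, el_append, el_append, el_reverse]
      group
    have hk : T[(a : ℕ)].1 = T[(b : ℕ)].1 := by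
      obtain ⟨-, i1, -, k1⟩ := three_spec (hTmem a.2).1
      obtain ⟨-, i2, -, k2⟩ := three_spec (hTmem b.2).1
      rw [(hTmem a.2).2] at k1
      rw [(hTmem b.2).2] at k2
      rw [k1, k2]
      exact keyP_congr (inC_conj i1 hr) (inC_conj i2 hr) (by rw [← hc a s, ← hc b s', e'])
    have hnd : (T.map fun p => p.1).Nodup :=
      (incKeys_nodup threeList_checks.2.1).sublist (List.Sublist.map _ List.filter_sublist)
    have hab : a = b := Fin.ext ((List.Nodup.getElem_inj_iff hnd (hi := by simp) (hj := by simp)).1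
      (by simpa using hk))
    subst hab
    rw [Subtype.ext (mul_left_cancel e')]
  have hle := Nat.card_le_card_of_injective F hF
  rw [Nat.card_prod, Nat.card_fin, card_centralizer_am, hT, ← List.countP_eq_length_filter] at hle
  have hmul' := Nat.eq_of_beq_eq_true hmul
  have hcard : Nat.card S ≤ (cW i).length := by
    by_contra hlt
    have := Nat.mul_lt_mul_of_pos_left (not_le.1 hlt)
      (show 0 < swThree.countP fun p => Nat.beq p.2.1 i from Nat.pos_of_ne_zero fun e0 => by
        rw [e0, zero_mul] at hmul'; norm_num at hmul')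
    omega
  -- the list fills it
  let E : Fin (cW i).length → S := fun j => ⟨el (cW i)[(j : ℕ)], hS.2
    ⟨commA_sound (hmem _ (List.getElem_mem j.2)).1.2, commW_sound (hmem _ (List.getElem_mem j.2)).2⟩⟩
  have hE : Function.Injective E := by
    intro a b e
    have hk : keyP (cW i)[(a : ℕ)] = keyP (cW i)[(b : ℕ)] :=
      keyP_congr (hmem _ (List.getElem_mem a.2)).1.1 (hmem _ (List.getElem_mem b.2)).1.1
        (congrArg Subtype.val e)
    exact Fin.ext ((List.Nodup.getElem_inj_iff (incKeys_nodup hinc) (hi := by simp) (hj := by simp)).1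
      (by simpa using hk))
  have hb : Function.Bijective E := hE.bijective_of_nat_card_le (by rw [Nat.card_fin]; exact hcard)
  obtain ⟨j, hj⟩ := hb.2 ⟨d, hS.2 ⟨hd, hd'⟩⟩
  exact ⟨_, List.getElem_mem j.2, (hmem _ (List.getElem_mem j.2)).1.1, (congrArg Subtype.val hj).symm⟩

end CfsgLib.Recog.Co3Inv
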