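import Cfsg.Agent.Lib.Recog.Co3Inv.Spec
import Cfsg.Agent.Lib.Recog.Co3Inv.SwapLists
import Cfsg.Agent.Lib.Perm.SwappedPair

/-!
The first step of the recognition: the first involution is fused with the second and not with the third, and
an involution exchanging the first two acts on their common centralizer as the outer letter does, up to a
central twist.
-/

set_option autoImplicit false
set_option maxRecDepth 100000
set_option Elab.async false

namespace CfsgLib.Recog.Co3Inv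

open CfsgLib.InvChar.Coset
open CfsgLib.Recog.McLInv (wprod_cons' wprod_flatten wprod_congr)

namespace Amb

variable {G : Type*} [Group G] (A : Amb G)

theorem comm_t (c : Cm) : A.φ c * A.t = A.t * A.φ c := by
  rw [← A.t_eq, ← map_mul, tm_comm, map_mul]

theorem t_sq : A.t * A.t = 1 := by rw [← A.t_eq, ← map_mul, tm_sq, map_one]

/-- The conjugates of the first involution that commute with it are of the second or third class. -/
theorem conj_cases {g : G} (hc : g * A.t * g⁻¹ * A.t = A.t * (g * A.t * g⁻¹)) (hne : g * A.t * g⁻¹ ≠ A.t) :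
    (∃ h, g * A.t * g⁻¹ = A.φ (h * am * h⁻¹)) ∨ ∃ h, g * A.t * g⁻¹ = A.φ (h * sm * h⁻¹) := by
  obtain ⟨c, hce⟩ := A.cent _ hc
  have h2 : c * c = 1 := A.inj (by
    rw [map_mul, hce, map_one, show g * A.t * g⁻¹ * (g * A.t * g⁻¹) = g * (A.t * A.t) * g⁻¹ by group,
      A.t_sq, mul_one, mul_inv_cancel])
  rcases invol_cases h2 with h | h | ⟨x, h⟩ | ⟨x, h⟩
  · exfalso
    rw [h, map_one] at hce
    exact tm_ne_one (A.inj (by rw [A.t_eq, map_one]; exact conj_eq_one_iff.1 hce.symm))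
  · exact absurd (by rw [← hce, h, A.t_eq]) hne
  · exact Or.inl ⟨x, by rw [← hce, h]⟩
  · exact Or.inr ⟨x, by rw [← hce, h]⟩

/-- **The first involution is not fused with the third.** -/
theorem not_conj_sm (g : G) : g * A.t * g⁻¹ ≠ A.φ sm := by
  intro hg
  have hu : g⁻¹ * A.t * g * A.t = A.t * (g⁻¹ * A.t * g) := by
    have e := A.comm_t sm
    rw [← hg] at e
    calc g⁻¹ * A.t * g * A.t = g⁻¹ * (A.t * (g * A.t * g⁻¹)) * g := by group
      _ = _ := by rw [← e]; group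
  have hne : g⁻¹ * A.t * g ≠ A.t := fun e => sm_ne_tm (A.inj (by
    rw [← hg, A.t_eq]
    calc g * A.t * g⁻¹ = g * (g⁻¹ * A.t * g) * g⁻¹ := by rw [e]
      _ = A.t := by group))
  obtain ⟨d, h, hd, ⟨y, hy, hyd⟩⟩ : ∃ d h, g⁻¹ * A.t * g⁻¹⁻¹ = A.φ (h * d * h⁻¹) ∧
      ∃ y : Cm, y * y = tm ∧ y * d = d * y := by
    rcases A.conj_cases (g := g⁻¹) (by rw [inv_inv]; exact hu) (by rw [inv_inv]; exact hne) with
      ⟨h, e⟩ | ⟨h, e⟩
    exacts [⟨am, h, e, tm_sq_am⟩, ⟨sm, h, e, tm_sq_sm⟩]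
  rw [inv_inv] at hd
  have hz : A.φ (h * y * h⁻¹) * (g⁻¹ * A.t * g) = g⁻¹ * A.t * g * A.φ (h * y * h⁻¹) := by
    rw [hd, ← map_mul, ← map_mul]
    congr 1
    calc h * y * h⁻¹ * (h * d * h⁻¹) = h * (y * d) * h⁻¹ := by group
      _ = _ := by rw [hyd]; group
  obtain ⟨e, he⟩ := A.cent (g * A.φ (h * y * h⁻¹) * g⁻¹) (by
    calc g * A.φ (h * y * h⁻¹) * g⁻¹ * A.t
        = g * (A.φ (h * y * h⁻¹) * (g⁻¹ * A.t * g)) * g⁻¹ := by group
      _ = _ := by rw [hz]; group)
  refine sm_not_sq e (A.inj ?_)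
  rw [map_mul, he, ← hg, ← A.t_eq, ← hy,
    show g * A.φ (h * y * h⁻¹) * g⁻¹ * (g * A.φ (h * y * h⁻¹) * g⁻¹) =
      g * (A.φ (h * y * h⁻¹) * A.φ (h * y * h⁻¹)) * g⁻¹ by group, ← map_mul]
  congr 3
  rw [show h * y * h⁻¹ * (h * y * h⁻¹) = h * (y * y) * h⁻¹ by group, hy, tm_comm, mul_inv_cancel_right]

/-- An element exchanging the first two involutions. -/
def Swap (g : G) : Prop := g * A.t * g⁻¹ = A.φ am ∧ g * A.φ am * g⁻¹ = A.t

/-- The element sends one element of the centralizer to another. -/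
def Sends (g : G) (X Y : Cm) : Prop := g * A.φ X * g⁻¹ = A.φ Y

variable {A}

theorem Sends.mul {g : G} {X Y X' Y' : Cm} (h : A.Sends g X Y) (h' : A.Sends g X' Y') :
    A.Sends g (X * X') (Y * Y') := by
  unfold Amb.Sends at *
  rw [map_mul, map_mul, ← h, ← h']; group

theorem Sends.one (g : G) : A.Sends g 1 1 := by
  unfold Amb.Sends; rw [map_one, mul_one, mul_inv_cancel]

theorem Sends.unique {g : G} {X Y Y' : Cm} (h : A.Sends g X Y) (h' : A.Sends g X Y') : Y = Y' :=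
  A.inj (h.symm.trans h')

theorem Sends.eq_one {g : G} {X : Cm} (h : A.Sends g X 1) : X = 1 := by
  unfold Amb.Sends at h
  rw [map_one] at h
  exact A.inj ((conj_eq_one_iff.1 h).trans (map_one _).symm)

theorem Sends.wprod {g : G} {f f' : ℕ → Cm} {L : List ℕ} (h : ∀ k ∈ L, A.Sends g (f k) (f' k)) :
    A.Sends g (wprod f L) (wprod f' L) := by
  induction L with
  | nil => exact Sends.one g
  | cons x L ih =>
    rw [wprod_cons', wprod_cons']
    exact (h x (List.mem_cons_self ..)).mul (ih fun k hk => h k (List.mem_cons_of_mem _ hk))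

theorem el_imW (im : List (List ℕ)) (L : List ℕ) :
    el (imW im L) = wprod (fun k => el (im.getD k [])) L := by
  rw [imW, el, wprod_flatten]; rfl

theorem Sends.imW {g : G} {im : List (List ℕ)} {L : List ℕ}
    (h : ∀ k ∈ L, A.Sends g (el (gW k)) (el (im.getD k []))) :
    A.Sends g (el (imW swGen L)) (el (imW im L)) := by
  rw [el_imW, el_imW]; exact Sends.wprod h

theorem Swap.sends_tm {g : G} (hg : A.Swap g) : A.Sends g tm am := by
  unfold Amb.Sends; rw [A.t_eq]; exact hg.1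

theorem Swap.sends_am {g : G} (hg : A.Swap g) : A.Sends g am tm := by
  unfold Amb.Sends; rw [A.t_eq]; exact hg.2

/-- The images stay in the common centralizer. -/
theorem Swap.image {g : G} (hg : A.Swap g) {X : Cm} (hX : X * am = am * X) :
    ∃ Y, Y * am = am * Y ∧ A.Sends g X Y := by
  obtain ⟨Y, hY⟩ := A.cent (g * A.φ X * g⁻¹) (by
    rw [← hg.2, show g * A.φ X * g⁻¹ * (g * A.φ Co3Inv.am * g⁻¹) = g * (A.φ X * A.φ Co3Inv.am) * g⁻¹ by group,
      ← map_mul, hX, map_mul]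
    group)
  refine ⟨Y, A.inj ?_, hY.symm⟩
  rw [map_mul, map_mul, hY, ← hg.1, show g * A.φ X * g⁻¹ * (g * A.t * g⁻¹) = g * (A.φ X * A.t) * g⁻¹ by group,
    A.comm_t]
  group

/-- Adjustment by an element of the common centralizer. -/
theorem Swap.adjust {g : G} (hg : A.Swap g) {c : Cm} (hc : c * Co3Inv.am = Co3Inv.am * c) :
    A.Swap ((A.φ c)⁻¹ * g) ∧ ∀ X Z : Cm, A.Sends g X (c * Z * c⁻¹) → A.Sends ((A.φ c)⁻¹ * g) X Z := by
  refine ⟨⟨?_, ?_⟩, fun X Z h => ?_⟩
  · rw [show (A.φ c)⁻¹ * g * A.t * ((A.φ c)⁻¹ * g)⁻¹ = (A.φ c)⁻¹ * (g * A.t * g⁻¹) * A.φ c by group, hg.1,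
      mul_assoc, ← map_mul, ← hc, map_mul, inv_mul_cancel_left]
  · rw [show (A.φ c)⁻¹ * g * A.φ Co3Inv.am * ((A.φ c)⁻¹ * g)⁻¹ =
      (A.φ c)⁻¹ * (g * A.φ Co3Inv.am * g⁻¹) * A.φ c by group, hg.2, mul_assoc, ← A.comm_t, inv_mul_cancel_left]
  · unfold Amb.Sends at *
    rw [show (A.φ c)⁻¹ * g * A.φ X * ((A.φ c)⁻¹ * g)⁻¹ = (A.φ c)⁻¹ * (g * A.φ X * g⁻¹) * A.φ c by group, h,
      map_mul, map_mul, map_inv]
    group

end Amb

theorem gW_spec {k : ℕ} (hk : k < 6) : inC (gW k) = true ∧ el (gW k) * am = am * el (gW k) := by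
  have h := List.all_eq_true.1 gen_checks.1 k (List.mem_range.2 hk)
  rw [Bool.and_eq_true] at h
  exact ⟨h.1, commA_sound h.2⟩

theorem imW_gen (L : List ℕ) : el (imW swGen L) = wprod (fun k => el (gW k)) L := Amb.el_imW swGen L

theorem imW_two (a b : ℕ) : el (imW swGen [a, b]) = el (gW a) * el (gW b) := by
  rw [imW_gen]; simp [wprod]

theorem imW_three (a b c : ℕ) : el (imW swGen [a, b, c]) = el (gW a) * el (gW b) * el (gW c) := by
  rw [imW_gen]; simp [wprod, mul_assoc]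

theorem gen_rels : el (gW 0) * el (gW 0) * el (gW 0) = 1 ∧ el (gW 1) * el (gW 1) * el (gW 1) = 1 ∧
    el (gW 2) * el (gW 2) = tm ∧ el (gW 3) * el (gW 3) = tm * am ∧ el (gW 4) * el (gW 4) = am ∧
    el (gW 0) * el (gW 1) = el (gW 1) * el (gW 0) ∧ el (gW 2) * el (gW 0) = el (gW 0) * el (gW 2) ∧
    el (gW 3) * el (gW 1) = el (gW 1) * el (gW 3) ∧
    el (gW 5) * el (gW 0) = el (gW 0) * el (gW 0) * el (gW 5) ∧
    el (gW 5) * el (gW 1) = el (gW 1) * el (gW 1) * el (gW 5) ∧ el (gW 0) ≠ 1 ∧ el (gW 1) ≠ 1 := by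
  obtain ⟨-, h0, h1, h2, h3, h4, h5, h6, h7, -, h9, h10, n0, n1, -⟩ := gen_checks
  refine ⟨?_, ?_, ?_, ?_, ?_, ?_, ?_, ?_, ?_, ?_, neK_sound n0, neK_sound n1⟩
  · rw [← imW_three, eqK_sound h0, el_nil]
  · rw [← imW_three, eqK_sound h1, el_nil]
  · rw [← imW_two, eqK_sound h2]; rfl
  · rw [← imW_two, eqK_sound h3, el_append]; rfl
  · rw [← imW_two, eqK_sound h4]; rfl
  · rw [← imW_two, ← imW_two, eqK_sound h5]
  · rw [← imW_two, ← imW_two, eqK_sound h6]
  · rw [← imW_two, ← imW_two, eqK_sound h7]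
  · rw [← imW_two, ← imW_three, eqK_sound h9]
  · rw [← imW_two, ← imW_three, eqK_sound h10]

theorem tm_mul_am_sends {G : Type*} [Group G] {A : Amb G} {g : G} (hg : A.Swap g) :
    A.Sends g (tm * am) (tm * am) := by
  rw [show A.Sends g (tm * am) (tm * am) ↔ A.Sends g (tm * am) (am * tm) by rw [tm_comm am]]
  exact hg.sends_tm.mul hg.sends_am

namespace Amb

variable {G : Type*} [Group G] {A : Amb G}

/-- The first two images. -/
theorem exists_norm_two {g0 : G} (hg0 : A.Swap g0) : ∃ g, A.Swap g ∧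
    A.Sends g (el (gW 0)) (el (rW 2)) ∧ A.Sends g (el (gW 1)) (el (pW 3)) := by
  obtain ⟨r0, r1, r2, r3, r4, r5, r6, r7, -, -, n0, n1⟩ := gen_rels
  obtain ⟨hnone, hcls, hycert, hP, hPj, hthird2, -, -, hr36, hcW3, hthird⟩ := case_checks
  obtain ⟨Y0, hY0a, s0⟩ := hg0.image (gW_spec (show 0 < 6 by norm_num)).2
  obtain ⟨i, hi, h, hh, rfl⟩ := three_complete hY0a
    (Sends.unique ((s0.mul s0).mul s0) (by rw [r0]; exact Sends.one g0))
    (fun e => n0 (by rw [e] at s0; exact s0.eq_one))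
  obtain ⟨hg1, adj1⟩ := hg0.adjust hh
  have t0 := adj1 _ _ s0
  set g1 := (A.φ h)⁻¹ * g0
  obtain ⟨Y2, hY2a, t2⟩ := hg1.image (gW_spec (show 2 < 6 by norm_num)).2
  have hY2sq : Y2 * Y2 = Co3Inv.am := Sends.unique (t2.mul t2) (by rw [r2]; exact hg1.sends_tm)
  have hY2r : Y2 * el (rW i) = el (rW i) * Y2 := Sends.unique (t2.mul t0) (by rw [r6]; exact t0.mul t2)
  obtain rfl : i = 2 := by
    by_contra hne
    obtain ⟨L, hL, hLin, rfl⟩ := cW_complete hi hY2a hY2r
    have h := List.all_eq_true.1 hnone i (List.mem_range.2 hi)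
    rw [Bool.or_eq_true, List.all_eq_true] at h
    rcases h with h | h
    · exact hne (Nat.eq_of_beq_eq_true h)
    · have := h L hL
      rw [eqK_complete (inC_append hLin hLin) named_inv_checks.2.2.2.1 (by rw [el_append, hY2sq]; rfl)]
        at this
      cases this
  obtain ⟨Y1, hY1a, t1⟩ := hg1.image (gW_spec (show 1 < 6 by norm_num)).2
  obtain ⟨L, hL, hLin, rfl⟩ := cW_complete (by norm_num) hY1a
    (Sends.unique (t1.mul t0) (by rw [← r5]; exact t0.mul t1))
  have h := List.all_eq_true.1 hcls L hL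
  rw [cubeP_complete hLin (Sends.unique ((t1.mul t1).mul t1) (by rw [r1]; exact Sends.one g1)), cond_true,
    force_eq, Bool.or_eq_true, List.any_eq_true] at h
  rcases h with h | ⟨⟨key, n, c⟩, hp, h⟩
  · rw [eq_of_keyP hLin rfl (Nat.eq_of_beq_eq_true h), el_nil] at t1
    exact absurd t1.eq_one n1
  have hc := List.all_eq_true.1 hycert _ hp
  simp only [Bool.and_eq_true, Nat.blt_eq] at hc
  obtain ⟨⟨⟨⟨hn, hcin⟩, hca⟩, hcr⟩, hkey⟩ := hc
  have hP' := List.all_eq_true.1 hP n (List.mem_range.2 hn)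
  have hPj' := List.all_eq_true.1 hPj n (List.mem_range.2 hn)
  have hpW : pW n = (swP.getD n (0, [])).2 := rfl
  generalize swP.getD n (0, []) = q at hP' hPj' hpW
  obtain ⟨j, p⟩ := q
  simp only [Bool.and_eq_true, Nat.blt_eq, Bool.or_eq_true] at hP'
  obtain ⟨⟨⟨⟨hj, hpin⟩, hpa⟩, hrel⟩, hnoneP⟩ := hP'
  obtain ⟨hg2, adj2⟩ := hg1.adjust (commA_sound hca)
  have hLeq : el L = el c * el (pW n) * (el c)⁻¹ := by
    rw [eq_of_keyP hLin (inC_conj hcin (hpW ▸ hpin))
      ((Nat.eq_of_beq_eq_true h).trans (Nat.eq_of_beq_eq_true hkey)), el_append, el_append, el_reverse]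
  have u1 := adj2 _ (el (pW n)) (by rw [← hLeq]; exact t1)
  have u0 := adj2 _ (el (rW 2)) (by rw [commW_sound hcr, mul_inv_cancel_right]; exact t0)
  set g2 := (A.φ (el c))⁻¹ * g1
  refine ⟨g2, hg2, u0, ?_⟩
  obtain ⟨Y3, hY3a, u3⟩ := hg2.image (gW_spec (show 3 < 6 by norm_num)).2
  have hY3sq : Y3 * Y3 = Co3Inv.tm * Co3Inv.am :=
    Sends.unique (u3.mul u3) (by rw [r3]; exact tm_mul_am_sends hg2)
  have hY3p : Y3 * el (pW n) = el (pW n) * Y3 := Sends.unique (u3.mul u1) (by rw [r7]; exact u1.mul u3)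
  have hY3r : Y3 * el (rW j) = el (rW j) * Y3 := by
    rcases hrel with e | e <;> rw [eqK_sound e, ← show pW n = p from hpW]
    · exact hY3p
    · rw [el_append, ← mul_assoc, hY3p, mul_assoc, hY3p, ← mul_assoc]
  rcases hnoneP with hj1 | hnone'
  swap
  · obtain ⟨L3, hL3, hL3in, rfl⟩ := cW_complete hj hY3a hY3r
    have := List.all_eq_true.1 hnone' L3 hL3
    rw [eqK_complete (inC_append hL3in hL3in) (inC_append named_inv_checks.2.2.1 named_inv_checks.2.2.2.1)
      (by rw [el_append, hY3sq, el_append]; rfl)] at this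
    cases this
  obtain rfl := Nat.eq_of_beq_eq_true hj1
  simp only [Nat.beq_refl, Bool.not_true, Bool.false_or, Bool.or_eq_true] at hPj'
  rcases hPj' with hn2 | hn3
  · exfalso
    obtain rfl := Nat.eq_of_beq_eq_true hn2
    obtain ⟨Y4, hY4a, u4⟩ := hg2.image (gW_spec (show 4 < 6 by norm_num)).2
    have hY4sq : Y4 * Y4 = Co3Inv.tm := Sends.unique (u4.mul u4) (by rw [r4]; exact hg2.sends_am)
    have hz : A.Sends g2 (el (Co3Inv.imW swGen swThird)) (el (pW 6)) := by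
      rw [← eqK_sound hthird2]
      rw [Amb.el_imW, Amb.el_imW]
      refine Sends.wprod (L := swThird) fun k hk => ?_
      have hk2 : k < 2 := Nat.le_of_ble_eq_true (List.all_eq_true.1 hthird k hk)
      interval_cases k
      exacts [u0, u1]
    have hcomm : el (gW 4) * el (Co3Inv.imW swGen swThird) = el (Co3Inv.imW swGen swThird) * el (gW 4) := by
      have e := eqK_sound gen_checks.2.2.2.2.2.2.2.2.2.1
      rw [imW_gen, imW_gen, wprod_append, wprod_append] at e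
      rw [imW_gen]
      simpa [wprod] using e
    have hY4z : Y4 * el (rW 3) = el (rW 3) * Y4 := by
      rw [eqK_sound hr36]
      exact Sends.unique (u4.mul hz) (by rw [hcomm]; exact hz.mul u4)
    obtain ⟨L4, hL4, hL4in, rfl⟩ := cW_complete (by norm_num) hY4a hY4z
    have := List.all_eq_true.1 hcW3 L4 hL4
    rw [eqK_complete (inC_append hL4in hL4in) named_inv_checks.2.2.1 (by rw [el_append, hY4sq]; rfl)] at this
    cases this
  · obtain rfl := Nat.eq_of_beq_eq_true hn3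
    exact u1

/-- The images of the five generators of the derived group. -/
theorem exists_norm_five {g0 : G} (hg0 : A.Swap g0) : ∃ g, A.Swap g ∧
    ∃ u ∈ swU, ∃ v ∈ swV, ∃ w ∈ swW, ∀ k < 5,
      A.Sends g (el (gW k)) (el ([rW 2, pW 3, u, v, w].getD k [])) := by
  obtain ⟨g, hg, s0, s1⟩ := exists_norm_two hg0
  obtain ⟨-, -, r2, r3, r4, -, r6, r7, -, -, -, -⟩ := gen_rels
  obtain ⟨hUc, hUs, hVc, hVs, hWc, hU, hV, hW, hp2r, hp2p, hrp, -, hp2in, hp2a, -⟩ := cand_checks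
  obtain ⟨Y2, hY2a, s2⟩ := hg.image (gW_spec (show 2 < 6 by norm_num)).2
  have hY2sq : Y2 * Y2 = Co3Inv.am := Sends.unique (s2.mul s2) (by rw [r2]; exact hg.sends_tm)
  obtain ⟨L2, hL2, hL2in, rfl⟩ := cW_complete (show 2 < 4 by norm_num) hY2a
    (Sends.unique (s2.mul s0) (by rw [r6]; exact s0.mul s2))
  have h := List.all_eq_true.1 hUc L2 hL2
  rw [eqK_complete (inC_append hL2in hL2in) named_inv_checks.2.2.2.1 (by rw [el_append, hY2sq]; rfl),
    cond_true, force_eq, List.any_eq_true] at h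
  obtain ⟨⟨key, iu, k⟩, hp, h⟩ := h
  have hs := List.all_eq_true.1 hUs _ hp
  simp only [Bool.and_eq_true, Nat.blt_eq] at hs
  obtain ⟨⟨hiu, -⟩, hkey⟩ := hs
  have humem : swU.getD iu [] ∈ swU := getD_mem _ hiu _
  have hu := List.all_eq_true.1 hU _ humem
  simp only [Bool.and_eq_true] at hu
  generalize swU.getD iu [] = u at hkey humem hu
  obtain ⟨⟨huin, hua⟩, hur⟩ := hu
  set c := el (List.replicate k (pW 2)).flatten with hc
  have hck : c = el (pW 2) ^ k := el_replicate _ _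
  have hca : c * Co3Inv.am = Co3Inv.am * c := hck ▸ (Commute.pow_left (commA_sound hp2a) k).eq
  have hcr : c * el (rW 2) = el (rW 2) * c := hck ▸ (Commute.pow_left (commW_sound hp2r) k).eq
  have hcp : c * el (pW 3) = el (pW 3) * c := hck ▸ (Commute.pow_left (commW_sound hp2p) k).eq
  obtain ⟨hg', adj⟩ := hg.adjust hca
  have e2 : el L2 = c * el u * c⁻¹ := by
    rw [eq_of_keyP hL2in (inC_conj (inC_replicate hp2in k) huin)
      ((Nat.eq_of_beq_eq_true h).trans (Nat.eq_of_beq_eq_true hkey)), el_append, el_append, el_reverse, hc]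
  have t0 := adj _ (el (rW 2)) (by rw [hcr, mul_inv_cancel_right]; exact s0)
  have t1 := adj _ (el (pW 3)) (by rw [hcp, mul_inv_cancel_right]; exact s1)
  have t2 := adj (el (gW 2)) (el u) (by rw [← e2]; exact s2)
  clear s0 s1 s2 h e2
  generalize (A.φ c)⁻¹ * g = g' at hg' t0 t1 t2
  clear adj hca hcr hcp hck hc
  -- the fourth
  obtain ⟨Y3, hY3a, t3⟩ := hg'.image (gW_spec (show 3 < 6 by norm_num)).2
  have hY3sq : Y3 * Y3 = Co3Inv.tm * Co3Inv.am :=
    Sends.unique (t3.mul t3) (by rw [r3]; exact tm_mul_am_sends hg')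
  have hY3p : Y3 * el (pW 3) = el (pW 3) * Y3 := Sends.unique (t3.mul t1) (by rw [r7]; exact t1.mul t3)
  have hY3r : Y3 * el (rW 1) = el (rW 1) * Y3 := by
    have hP' := List.all_eq_true.1 case_checks.2.2.2.1 3 (List.mem_range.2 (by norm_num))
    rw [show swP.getD 3 (0, []) = (1, pW 3) by rw [pW]; decide +kernel] at hP'
    simp only [Bool.and_eq_true, Bool.or_eq_true] at hP'
    rcases hP'.1.2 with e | e <;> rw [eqK_sound e]
    · exact hY3p
    · rw [el_append, ← mul_assoc, hY3p, mul_assoc, hY3p, ← mul_assoc]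
  obtain ⟨L3, hL3, hL3in, rfl⟩ := cW_complete (show 1 < 4 by norm_num) hY3a hY3r
  have h := List.all_eq_true.1 hVc L3 hL3
  rw [eqK_complete (inC_append hL3in hL3in) (inC_append named_inv_checks.2.2.1 named_inv_checks.2.2.2.1)
    (by rw [el_append, hY3sq, el_append]; rfl), cond_true, force_eq, List.any_eq_true] at h
  obtain ⟨⟨key', iv, k'⟩, hp', h⟩ := h
  have hs := List.all_eq_true.1 hVs _ hp'
  simp only [Bool.and_eq_true, Nat.blt_eq] at hs
  obtain ⟨⟨hiv, -⟩, hkey'⟩ := hs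
  have hvmem : swV.getD iv [] ∈ swV := getD_mem _ hiv _
  have hv := List.all_eq_true.1 hV _ hvmem
  simp only [Bool.and_eq_true] at hv
  generalize swV.getD iv [] = v at hkey' hvmem hv
  obtain ⟨hr2in, hr2a⟩ := rW_spec (show 2 < 4 by norm_num)
  set d := el (List.replicate k' (rW 2)).flatten with hd
  have hdk : d = el (rW 2) ^ k' := el_replicate _ _
  have hda : d * Co3Inv.am = Co3Inv.am * d := hdk ▸ (Commute.pow_left hr2a k').eq
  have hdr : d * el (rW 2) = el (rW 2) * d := hdk ▸ (Commute.pow_left (Commute.refl _) k').eq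
  have hdp : d * el (pW 3) = el (pW 3) * d := hdk ▸ (Commute.pow_left (commW_sound hrp) k').eq
  have hdu : d * el u = el u * d := hdk ▸ (Commute.pow_left (commW_sound hur).symm k').eq
  obtain ⟨hg'', adj⟩ := hg'.adjust hda
  have e3 : el L3 = d * el v * d⁻¹ := by
    rw [eq_of_keyP hL3in (inC_conj (inC_replicate hr2in k') hv.1)
      ((Nat.eq_of_beq_eq_true h).trans (Nat.eq_of_beq_eq_true hkey')), el_append, el_append, el_reverse, hd]
  have v0 := adj _ (el (rW 2)) (by rw [hdr, mul_inv_cancel_right]; exact t0)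
  have v1 := adj _ (el (pW 3)) (by rw [hdp, mul_inv_cancel_right]; exact t1)
  have v2 := adj _ (el u) (by rw [hdu, mul_inv_cancel_right]; exact t2)
  have v3 := adj (el (gW 3)) (el v) (by rw [← e3]; exact t3)
  clear t0 t1 t2 t3
  generalize (A.φ d)⁻¹ * g' = g'' at hg'' v0 v1 v2 v3
  -- the fifth
  obtain ⟨Y4, hY4a, v4⟩ := hg''.image (gW_spec (show 4 < 6 by norm_num)).2
  have hY4sq : Y4 * Y4 = Co3Inv.tm := Sends.unique (v4.mul v4) (by rw [r4]; exact hg''.sends_am)
  have hz : A.Sends g'' (el (Co3Inv.imW swGen swThird)) (el (pW 0)) := by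
    rw [← eqK_sound case_checks.2.2.2.2.2.2.1]
    rw [Amb.el_imW, Amb.el_imW]
    refine Sends.wprod (L := swThird) fun k hk => ?_
    have hk2 : k < 2 := Nat.le_of_ble_eq_true (List.all_eq_true.1 case_checks.2.2.2.2.2.2.2.2.2.2 k hk)
    interval_cases k
    exacts [v0, v1]
  have hcomm : el (gW 4) * el (Co3Inv.imW swGen swThird) = el (Co3Inv.imW swGen swThird) * el (gW 4) := by
    have e := eqK_sound gen_checks.2.2.2.2.2.2.2.2.2.1
    rw [imW_gen, imW_gen, wprod_append, wprod_append] at e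
    rw [imW_gen]
    simpa [wprod] using e
  obtain ⟨L4, hL4, hL4in, rfl⟩ := cW_complete (show 0 < 4 by norm_num) hY4a (by
    rw [eqK_sound case_checks.2.2.2.2.2.2.2.1]
    exact Sends.unique (v4.mul hz) (by rw [hcomm]; exact hz.mul v4))
  have h := List.all_eq_true.1 hWc L4 hL4
  rw [eqK_complete (inC_append hL4in hL4in) named_inv_checks.2.2.1 (by rw [el_append, hY4sq]; rfl),
    cond_true, force_eq, List.any_eq_true] at h
  obtain ⟨w, hw, h⟩ := h
  rw [eq_of_keyP hL4in (List.all_eq_true.1 hW w hw) (Nat.eq_of_beq_eq_true h)] at v4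
  refine ⟨g'', hg'', u, humem, v, hvmem, w, hw, fun k hk => ?_⟩
  interval_cases k
  exacts [v0, v1, v2, v3, v4]

theorem inC_imW {im : List (List ℕ)} {L : List ℕ} (h : ∀ k ∈ L, inC (im.getD k []) = true) :
    inC (Co3Inv.imW im L) = true := by
  induction L with
  | nil => rfl
  | cons x L ih =>
    rw [Co3Inv.imW, List.flatMap_cons]
    exact inC_append (h x (List.mem_cons_self ..)) (ih fun k hk => h k (List.mem_cons_of_mem _ hk))

/-- An exchanging element can be adjusted to act as one of four candidates. -/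
theorem exists_candidate {g0 : G} (hg0 : A.Swap g0) : ∃ g, A.Swap g ∧ ∃ e < 4, ∀ k < 6,
    A.Sends g (el (gW k)) (el (tgW e k)) := by
  obtain ⟨g, hg, u, hu, v, hv, w, hw, h5⟩ := exists_norm_five hg0
  obtain ⟨-, -, -, -, -, -, -, -, r9, r10, -, -⟩ := gen_rels
  obtain ⟨-, -, -, -, -, hU, hV, hW, -, -, -, -, -, -, hinvin, hinva, hir, hip, -, -, hCPc, hCP⟩ := cand_checks
  have s0 := h5 0 (by norm_num)
  have s1 := h5 1 (by norm_num)
  obtain ⟨Y5, hY5a, s5⟩ := hg.image (gW_spec (show 5 < 6 by norm_num)).2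
  have e0 : Y5 * el (rW 2) = el (rW 2) * el (rW 2) * Y5 :=
    Sends.unique (s5.mul s0) (by rw [r9]; exact (s0.mul s0).mul s5)
  have e1 : Y5 * el (pW 3) = el (pW 3) * el (pW 3) * Y5 :=
    Sends.unique (s5.mul s1) (by rw [r10]; exact (s1.mul s1).mul s5)
  have i0 : el swInv * el (rW 2) = el (rW 2) * el (rW 2) * el swInv := by
    rw [← el_append, eqK_sound hir, el_append, el_append]
  have i1 : el swInv * el (pW 3) = el (pW 3) * el (pW 3) * el swInv := by
    rw [← el_append, eqK_sound hip, el_append, el_append]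
  have comb : ∀ X : Cm, ∀ X2 : Cm, Y5 * X = X2 * Y5 → el swInv * X = X2 * el swInv →
      (el swInv)⁻¹ * Y5 * X = X * ((el swInv)⁻¹ * Y5) := fun X X2 e e' => by
    rw [mul_assoc, e, ← mul_assoc, show X2 = el swInv * X * (el swInv)⁻¹ from eq_mul_inv_of_mul_eq e'.symm]
    group
  have hfa : (el swInv)⁻¹ * Y5 * Co3Inv.am = Co3Inv.am * ((el swInv)⁻¹ * Y5) :=
    comb _ _ hY5a (commA_sound hinva)
  obtain ⟨L, hL, hLin, hLe⟩ := cW_complete (show 2 < 4 by norm_num) hfa (comb _ _ e0 i0)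
  have hp3 : inC (pW 3) = true := by decide +kernel
  have h := List.all_eq_true.1 hCPc L hL
  rw [commW_complete hLin hp3 (by rw [← hLe]; exact comb _ _ e1 i1), cond_true, force_eq,
    List.any_eq_true] at h
  obtain ⟨c, hc, h⟩ := h
  have hY5 : Y5 = el (swInv ++ c) := by
    rw [el_append, ← eq_of_keyP hLin (List.all_eq_true.1 hCP c hc) (Nat.eq_of_beq_eq_true h), ← hLe]
    group
  rw [hY5] at s5
  set im := [rW 2, pW 3, u, v, w, swInv ++ c] with him
  have h6 : ∀ k < 6, A.Sends g (el (gW k)) (el (im.getD k [])) := by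
    intro k hk
    rcases Nat.lt_succ_iff_lt_or_eq.1 hk with hk | rfl
    · have := h5 k hk
      interval_cases k <;> exact this
    · exact s5
  have him_in : ∀ k < 6, inC (im.getD k []) = true := by
    have hu' := List.all_eq_true.1 hU u hu
    have hv' := List.all_eq_true.1 hV v hv
    simp only [Bool.and_eq_true] at hu' hv'
    intro k hk
    interval_cases k
    exacts [(rW_spec (show 2 < 4 by norm_num)).1, hp3, hu'.1.1, hv'.1, List.all_eq_true.1 hW w hw,
      inC_append hinvin (List.all_eq_true.1 hCP c hc)]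
  obtain ⟨-, -, -, -, -, -, -, -, -, -, -, -, -, -, hT, hA, hR5, hR6, -, hTV, hR5', hR6'⟩ := gen_checks
  have hlt : ∀ {L : List ℕ}, (L.all fun k => Nat.blt k 6) = true → ∀ k ∈ L, k < 6 := fun h k hk =>
    Nat.le_of_ble_eq_true (List.all_eq_true.1 h k hk)
  have htr : ∀ {L : List ℕ} {X Z : Cm} {M : List ℕ}, (∀ k ∈ L, k < 6) → inC M = true →
      el (Co3Inv.imW swGen L) = X → A.Sends g X Z → el M = Z → eqK (Co3Inv.imW im L) M = true := by
    intro L X Z M hL hM e hs eM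
    refine eqK_complete (inC_imW fun k hk => him_in k (hL k hk)) hM ?_
    rw [eM]
    exact Sends.unique (Sends.imW fun k hk => h6 k (hL k hk)) (e ▸ hs)
  have h56 : ∀ L : List ℕ, (∀ k ∈ L, k < 5) → Co3Inv.imW [rW 2, pW 3, u, v, w] L = Co3Inv.imW im L :=
    fun L hL => List.flatMap_congr fun k hk => by
      have := hL k hk
      interval_cases k <;> rfl
  obtain ⟨hsearch, h5lt⟩ := search_checks
  rw [Bool.and_eq_true] at h5lt
  simp only [List.all_eq_true] at hR5 hR6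
  have hTV0 : swTV.getD 0 [] ∈ swTV := getD_mem _ (by decide) _
  have hTV1 : swTV.getD 1 [] ∈ swTV := getD_mem _ (by decide) _
  have hlt5 : ∀ {L : List ℕ}, (L.all fun k => Nat.blt k 5) = true → ∀ k ∈ L, k < 5 := fun h k hk =>
    Nat.le_of_ble_eq_true (List.all_eq_true.1 h k hk)
  simp only [searchOK, List.all_eq_true] at hsearch
  have hs := hsearch u hu v hv w hw
  have c1 : eqK (Co3Inv.imW [rW 2, pW 3, u, v, w] (swTV.getD 0 [])) McLInv.aW = true := by
    rw [h56 _ (hlt5 (List.all_eq_true.1 h5lt.2 _ hTV0))]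
    exact htr (hlt (List.all_eq_true.1 hTV _ hTV0)) named_inv_checks.2.2.2.1 (eqK_sound hT) hg.sends_tm rfl
  have c2 : eqK (Co3Inv.imW [rW 2, pW 3, u, v, w] (swTV.getD 1 [])) McLInv.tW = true := by
    rw [h56 _ (hlt5 (List.all_eq_true.1 h5lt.2 _ hTV1))]
    exact htr (hlt (List.all_eq_true.1 hTV _ hTV1)) named_inv_checks.2.2.1 (eqK_sound hA) hg.sends_am rfl
  have c3 : (swRel5.all fun L => eqK (Co3Inv.imW [rW 2, pW 3, u, v, w] L) []) = true :=
    List.all_eq_true.2 fun L hL => by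
      rw [h56 _ (hlt5 (List.all_eq_true.1 h5lt.1 _ hL))]
      exact htr (hlt (List.all_eq_true.1 hR5' _ hL)) rfl ((eqK_sound (hR5 L hL)).trans el_nil)
        (Sends.one g) el_nil
  rw [c1, c2, c3, Bool.and_self, Bool.and_self, cond_true, List.all_eq_true] at hs
  have hs := hs c hc
  have c4 : (swRel6.all fun L => eqK (Co3Inv.imW im L) []) = true := List.all_eq_true.2 fun L hL =>
    htr (hlt (List.all_eq_true.1 hR6' _ hL)) rfl ((eqK_sound (hR6 L hL)).trans el_nil) (Sends.one g) el_nil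
  rw [← him, c4, cond_true, List.any_eq_true] at hs
  obtain ⟨s, hsm, hs⟩ := hs
  rw [List.all_eq_true] at hs
  have hsol := List.all_eq_true.1 sol_checks.1 s hsm
  simp only [Bool.and_eq_true, Nat.blt_eq, List.all_eq_true] at hsol
  obtain ⟨⟨⟨he, hdin⟩, hda⟩, hsk⟩ := hsol
  obtain ⟨hg', adj⟩ := hg.adjust (commA_sound hda)
  refine ⟨_, hg', s.2.1, he, fun k hk => adj _ _ ?_⟩
  have := h6 k hk
  rwa [← eqK_sound (hs k (List.mem_range.2 hk)), eqK_sound (hsk k (List.mem_range.2 hk)), el_append,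
    el_append, el_reverse] at this

/-- **The outer involution.** -/
theorem exists_outer {g0 : G} (hg0 : A.Swap g0) : Nonempty A.Outer := by
  obtain ⟨g, hg, e, he, hgen⟩ := exists_candidate hg0
  obtain ⟨-, htgt, hnamelt, hnameD, hname9, hnameTau, himgD, htau0, htau1⟩ := sol_checks
  simp only [List.all_eq_true, List.mem_range, Bool.and_eq_true] at htgt himgD
  have hT : ∀ {L : List ℕ}, (∀ k ∈ L, k < 6) →
      A.Sends g (el (Co3Inv.imW swGen L)) (el (Co3Inv.imW (swTgt.getD e []) L)) := fun hL =>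
    Sends.imW fun k hk => hgen k (hL k hk)
  -- the square
  obtain ⟨c, hc⟩ := A.cent (g * g) (by
    calc g * g * A.t = g * (g * A.t * g⁻¹) * g⁻¹ * (g * g) := by group
      _ = A.t * (g * g) := by rw [hg.1, hg.2])
  have hca : c * Co3Inv.am = Co3Inv.am * c := A.inj (by
    rw [map_mul, map_mul, hc]
    calc g * g * A.φ Co3Inv.am = g * (g * A.φ Co3Inv.am * g⁻¹) * g⁻¹ * (g * g) := by group
      _ = A.φ Co3Inv.am * (g * g) := by rw [hg.2, hg.1])
  have hsq : ∀ k < 6, c * el (gW k) = el (sqW e k) * c := fun k hk => A.inj (by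
    obtain ⟨⟨-, hlt'⟩, heq⟩ := htgt e he k hk
    have h1 : g * A.φ (el (gW k)) * g⁻¹ = A.φ (el (tgW e k)) := hgen k hk
    have h2 : g * A.φ (el (tgW e k)) * g⁻¹ = A.φ (el (sqW e k)) := by
      rw [eqK_sound heq]
      exact hT fun i hi => Nat.le_of_ble_eq_true (hlt' i hi)
    rw [map_mul, map_mul, hc, ← h2, ← h1]
    group)
  obtain ⟨hr0, hall⟩ := square_checks
  have hall := List.all_eq_true.1 hall e (List.mem_range.2 he)
  simp only [Bool.and_eq_true, List.all_eq_true] at hall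
  obtain ⟨⟨q0, q1⟩, hcase⟩ := hall
  obtain ⟨L, hL, hLin, rfl⟩ := cW_complete (show 0 < 4 by norm_num) hca (by
    rw [eqK_sound hr0, hsq 0 (by norm_num), eqK_sound q0])
  have h := hcase L hL
  rw [commW_complete hLin (gW_spec (by norm_num)).1 (by rw [hsq 1 (by norm_num), eqK_sound q1]),
    Bool.not_true, Bool.false_or, Bool.or_eq_true] at h
  rcases h with h | h
  swap
  · obtain ⟨k, hk, h⟩ := List.any_eq_true.1 h
    exact absurd (by rw [el_append, el_append]; exact hsq k (List.mem_range.1 hk)) (neK_sound h)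
  simp only [Bool.and_eq_true, Bool.or_eq_true, Nat.blt_eq] at h
  obtain ⟨he2, hV⟩ := h
  -- the square is trivial or the product of the two
  have hne : A.φ Co3Inv.am ≠ A.t := fun e' => am_ne_tm (A.inj (e'.trans A.t_eq.symm))
  have hfix : g * A.φ (el L) * g⁻¹ = A.φ (el L) := by rw [hc]; group
  have hgo : g * g = 1 ∨ g * g = A.t * A.φ Co3Inv.am := by
    rcases hV with ((h | h) | h) | h
    · exact Or.inl (by rw [← hc, eqK_sound h, el_nil, map_one])
    · rw [eqK_sound h] at hfix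
      have hf : g * A.t * g⁻¹ = A.t := by
        rw [← A.t_eq]; exact hfix
      exact absurd (hg.1.symm.trans hf) hne
    · rw [eqK_sound h] at hfix
      exact absurd (hg.2.symm.trans hfix).symm hne
    · refine Or.inr ?_
      rw [← hc, eqK_sound h, el_append, map_mul, ← A.t_eq]
      rfl
  obtain ⟨w, hw2, hwc⟩ : ∃ w : G, w * w = 1 ∧ ∀ X : Cm, w * A.φ X * w = g * A.φ X * g⁻¹ := by
    rcases hgo with h | h
    · exact ⟨g, h, fun X => by rw [inv_eq_of_mul_eq_one_right h]⟩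
    · have h1 : g * A.t * (g * A.t) = 1 := by
        calc g * A.t * (g * A.t) = g * A.t * g⁻¹ * (g * g) * A.t := by group
          _ = A.φ Co3Inv.am * (A.t * A.φ Co3Inv.am) * A.t := by rw [hg.1, h]
          _ = 1 := by
            rw [← A.comm_t Co3Inv.am, ← mul_assoc, ← map_mul, am_sq, map_one, one_mul, A.t_sq]
      refine ⟨g * A.t, h1, fun X => ?_⟩
      calc g * A.t * A.φ X * (g * A.t) = g * A.t * A.φ X * (g * A.t)⁻¹ := by
            rw [inv_eq_of_mul_eq_one_right h1]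
        _ = g * (A.t * A.φ X) * A.t⁻¹ * g⁻¹ := by group
        _ = _ := by rw [← A.comm_t]; group
  have hname : ∀ {i : ℕ}, i < 5 → ∀ k ∈ swName.getD i [], k < 6 := fun hi k hk => by
    have hm : swName.getD _ [] ∈ swName := getD_mem _ (lt_of_lt_of_eq hi (by decide : 5 = swName.length)) _
    exact Nat.le_of_ble_eq_true (List.all_eq_true.1 (List.all_eq_true.1 hnamelt _ hm) k hk)
  have act : ∀ {i : ℕ}, i < 5 → ∀ {X : Cm}, el (Co3Inv.imW swGen (swName.getD i [])) = X →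
      w * A.φ X * w = A.φ (el (Co3Inv.imW (swTgt.getD e []) (swName.getD i []))) := fun hi X hX => by
    rw [hwc, ← hX]; exact hT (hname hi)
  refine ⟨⟨w, hw2, ?_, fun k hk => ?_, ?_, ?_⟩⟩
  · rw [← A.t_eq, hwc, A.t_eq]; exact hg.1
  · rw [act (i := k) (by omega) (eqK_sound (List.all_eq_true.1 hnameD k (List.mem_range.2 hk))),
      eqK_sound ((himgD e he2).1 k hk)]
  · rw [act (i := 3) (by norm_num) (eqK_sound hname9), eqK_sound (himgD e he2).2]
  · rw [act (i := 4) (by norm_num) (eqK_sound hnameTau)]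
    interval_cases e
    · exact Or.inl (by rw [eqK_sound htau0])
    · exact Or.inr (by rw [eqK_sound htau1])

/-- A fused pair gives an exchanging element. -/
theorem exists_swap {g : G} (hc : g * A.t * g⁻¹ * A.t = A.t * (g * A.t * g⁻¹))
    (hne : g * A.t * g⁻¹ ≠ A.t) : ∃ g' : G, A.Swap g' := by
  have cls : ∀ x : G, x * A.t * x⁻¹ * A.t = A.t * (x * A.t * x⁻¹) → x * A.t * x⁻¹ ≠ A.t →
      ∃ h, x * A.t * x⁻¹ = A.φ h * A.φ Co3Inv.am * (A.φ h)⁻¹ := fun x hx hx' => by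
    rcases A.conj_cases hx hx' with ⟨h, e⟩ | ⟨h, e⟩
    · exact ⟨h, by rw [e, map_mul, map_mul, map_inv]⟩
    · refine absurd ?_ (A.not_conj_sm ((A.φ h)⁻¹ * x))
      rw [show (A.φ h)⁻¹ * x * A.t * ((A.φ h)⁻¹ * x)⁻¹ = (A.φ h)⁻¹ * (x * A.t * x⁻¹) * A.φ h by group, e,
        map_mul, map_mul, map_inv]
      group
  obtain ⟨h, hh⟩ := cls g hc hne
  set g1 := (A.φ h)⁻¹ * g with hg1
  have e1 : g1 * A.t * g1⁻¹ = A.φ Co3Inv.am := by
    rw [hg1, show (A.φ h)⁻¹ * g * A.t * ((A.φ h)⁻¹ * g)⁻¹ = (A.φ h)⁻¹ * (g * A.t * g⁻¹) * A.φ h by group, hh]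
    group
  have hu : g1⁻¹ * A.t * g1⁻¹⁻¹ * A.t = A.t * (g1⁻¹ * A.t * g1⁻¹⁻¹) := by
    calc g1⁻¹ * A.t * g1⁻¹⁻¹ * A.t = g1⁻¹ * (A.t * (g1 * A.t * g1⁻¹)) * g1 := by group
      _ = _ := by rw [e1, ← A.comm_t, ← e1]; group
  have hune : g1⁻¹ * A.t * g1⁻¹⁻¹ ≠ A.t := fun e' => am_ne_tm (A.inj (by
    rw [← e1, A.t_eq]
    conv_rhs => rw [show A.t = g1 * (g1⁻¹ * A.t * g1⁻¹⁻¹) * g1⁻¹ by group]
    rw [e']))
  obtain ⟨k, hk⟩ := cls _ hu hune
  refine ⟨g1 * A.φ k, ?_, ?_⟩
  · rw [show g1 * A.φ k * A.t * (g1 * A.φ k)⁻¹ = g1 * (A.φ k * A.t * (A.φ k)⁻¹) * g1⁻¹ by group, A.comm_t,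
      mul_inv_cancel_right, e1]
  · rw [show g1 * A.φ k * A.φ Co3Inv.am * (g1 * A.φ k)⁻¹ =
      g1 * (A.φ k * A.φ Co3Inv.am * (A.φ k)⁻¹) * g1⁻¹ by group, ← hk]
    group

end Amb

/-- **Step A1.** -/
theorem local_stmt {G : Type*} [Group G] [Finite G] (hO : Cfsg.oddCore G = ⊥)
    (hZ : Subgroup.center G = ⊥) (A : Amb G) : A.LocalStmt := by
  refine ⟨?_, A.not_conj_sm⟩
  have ht : orderOf A.t = 2 := orderOf_eq_prime (by rw [pow_two, A.t_sq]) fun e =>
    tm_ne_one (A.inj (by rw [A.t_eq, e, map_one]))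
  have hiso : ¬ Cfsg.IsIsolatedInvolution A.t := fun hi => by
    have h := CfsgLib.Perm.SwappedPair.sup_oddCore_eq_top hi
    rw [hO, sup_bot_eq] at h
    have hc : A.t ∈ Subgroup.center G := Subgroup.mem_center_iff.2 fun x =>
      Subgroup.mem_centralizer_singleton_iff.1 (by rw [h]; exact Subgroup.mem_top x)
    rw [hZ, Subgroup.mem_bot] at hc
    rw [hc, orderOf_one] at ht
    exact absurd ht (by norm_num)
  obtain ⟨g, hc, hne⟩ : ∃ g : G, Commute A.t (g * A.t * g⁻¹) ∧ g * A.t * g⁻¹ ≠ A.t := by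
    by_contra hno
    push Not at hno
    exact hiso ⟨ht, hno⟩
  obtain ⟨g0, hg0⟩ := Amb.exists_swap hc.eq.symm hne
  exact Amb.exists_outer hg0

end CfsgLib.Recog.Co3Inv
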