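import Cfsg.Agent.Lib.Recog.McLInv.Perms
import Cfsg.Agent.Lib.Recog.Co3Inv.Data
import Cfsg.Prelude.Def_SporadicB
import Cfsg.Prelude.Def_Spor_Conway
import Mathlib.LinearAlgebra.SymplecticGroup

/-!
The model on 276 points: the letters, the centralizer `Cm` of the first involution, the stabilizer
letters and the whole group `G3m`.
-/

set_option autoImplicit false
set_option maxRecDepth 100000
set_option Elab.async false

namespace CfsgLib.Recog.Co3Inv

open CfsgLib.InvChar.Coset
open CfsgLib.Recog.McLInv (img ltW ltW_spec wprod_cons')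

/-- The map of a letter. -/
def mapP (x : ℕ) (i : Fin 276) : Fin 276 :=
  if h : x < 11 then ⟨img (codes.getD x 0) i % 276, Nat.mod_lt _ (by norm_num)⟩ else i

/-- A letter is an involution on the points. -/
def codeOK (c : ℕ) : Bool :=
  (List.range 276).all fun i => Nat.blt (img c i) 276 && Nat.beq (img c (img c i)) i

theorem codes_ok : codes.length = 11 ∧ codes.all codeOK = true := by decide +kernel

theorem code_spec {x : ℕ} (hx : x < 11) {i : ℕ} (hi : i < 276) :
    img (codes.getD x 0) i < 276 ∧ img (codes.getD x 0) (img (codes.getD x 0) i) = i := by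
  obtain ⟨hl, h⟩ := codes_ok
  have hm : codes.getD x 0 ∈ codes := by
    rw [List.getD_eq_getElem _ _ (hl.symm ▸ hx)]; exact List.getElem_mem _
  have h' := List.all_eq_true.1 (List.all_eq_true.1 h _ hm) i (List.mem_range.2 hi)
  rw [Bool.and_eq_true, Nat.blt_eq] at h'
  exact ⟨h'.1, Nat.eq_of_beq_eq_true h'.2⟩

theorem mapP_val {x : ℕ} (hx : x < 11) (i : Fin 276) :
    ((mapP x i : Fin 276) : ℕ) = img (codes.getD x 0) i := by
  simp only [mapP, dif_pos hx]
  exact Nat.mod_eq_of_lt (code_spec hx i.2).1

theorem mapP_involutive (x : ℕ) : Function.Involutive (mapP x) := by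
  intro i
  by_cases hx : x < 11
  · exact Fin.ext (by rw [mapP_val hx, mapP_val hx, (code_spec hx i.2).2])
  · simp [mapP, hx]

/-- The permutation of a letter. -/
def gp (x : ℕ) : Equiv.Perm (Fin 276) := (mapP_involutive x).toPerm _

theorem gp_sq (x : ℕ) : gp x * gp x = 1 := Equiv.ext fun i => mapP_involutive x i

/-- A word applied to a point. -/
noncomputable def actP (L : List ℕ) (i : ℕ) : ℕ :=
  List.rec (motive := fun _ => ℕ) i (fun x _ r => img (codes.getD x 0) r) L

theorem wprod_gp_val : ∀ (L : List ℕ), (∀ x ∈ L, x < 11) → ∀ i : Fin 276,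
    ((wprod gp L i : Fin 276) : ℕ) = actP L i
  | [], _, _ => rfl
  | x :: L, h, i => by
    have ih := wprod_gp_val L (fun y hy => h y (List.mem_cons_of_mem _ hy)) i
    rw [wprod_cons', Equiv.Perm.mul_apply]
    show ((mapP x (wprod gp L i) : Fin 276) : ℕ) = img (codes.getD x 0) (actP L i)
    rw [mapP_val (h x (List.mem_cons_self ..)), ih]

/-- Two words act alike on all points. -/
noncomputable def eqP (L L' : List ℕ) : Bool :=
  ltW 11 L && ltW 11 L' && (List.range 276).all fun i => Nat.beq (actP L i) (actP L' i)

theorem eqP_sound {L L' : List ℕ} (h : eqP L L' = true) : wprod gp L = wprod gp L' := by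
  simp only [eqP, Bool.and_eq_true, List.all_eq_true, List.mem_range] at h
  refine Equiv.ext fun i => Fin.ext ?_
  rw [wprod_gp_val L (ltW_spec h.1.1), wprod_gp_val L' (ltW_spec h.1.2)]
  exact Nat.eq_of_beq_eq_true (h.2 i i.2)

/-- Two words differ somewhere. -/
noncomputable def neP (L L' : List ℕ) : Bool :=
  ltW 11 L && ltW 11 L' && (List.range 276).any fun i => !Nat.beq (actP L i) (actP L' i)

theorem neP_sound {L L' : List ℕ} (h : neP L L' = true) : wprod gp L ≠ wprod gp L' := by
  simp only [neP, Bool.and_eq_true, List.any_eq_true, List.mem_range, Bool.not_eq_true'] at h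
  obtain ⟨⟨h1, h2⟩, i, hi, hne⟩ := h
  intro e
  have := congrArg (fun σ : Equiv.Perm (Fin 276) => ((σ ⟨i, hi⟩ : Fin 276) : ℕ)) e
  simp only [wprod_gp_val L (ltW_spec h1), wprod_gp_val L' (ltW_spec h2)] at this
  rw [this, Nat.beq_refl] at hne
  cases hne

/-- The last point. -/
def inf : Fin 276 := ⟨275, by norm_num⟩

/-- The eight letters of the graph fix the last point and act as on the 275 points. -/
theorem letter_checks : ((List.range 8).all fun x => Nat.beq (img (codes.getD x 0) 275) 275 &&
    (List.range 275).all fun i =>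
      Nat.beq (img (codes.getD x 0) i) (img (McLInv.codes.getD x 0) i)) = true := by
  decide +kernel

theorem gp_inf {x : ℕ} (hx : x < 8) : gp x inf = inf := by
  have h := List.all_eq_true.1 letter_checks x (List.mem_range.2 hx)
  rw [Bool.and_eq_true] at h
  exact Fin.ext ((mapP_val (by omega) inf).trans (Nat.eq_of_beq_eq_true h.1))

theorem gp_castSucc {x : ℕ} (hx : x < 8) (i : Fin 275) :
    gp x i.castSucc = (McLInv.gm x i).castSucc := by
  have h := List.all_eq_true.1 letter_checks x (List.mem_range.2 hx)
  rw [Bool.and_eq_true, List.all_eq_true] at h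
  refine Fin.ext ((mapP_val (by omega) _).trans ?_)
  rw [Fin.val_castSucc]
  exact (Nat.eq_of_beq_eq_true (h.2 i (List.mem_range.2 i.2))).trans (McLInv.mapL_val hx i).symm

/-- The letters generating the centralizer of the first involution. -/
def cSet : Set ℕ := {x | x ∈ cLetters}

/-- The centralizer of the first involution in the model. -/
def Cm : Subgroup (Equiv.Perm (Fin 276)) := Subgroup.closure (gp '' cSet)

/-- The letters of the graph on 275 points. -/
def Ml : Subgroup (Equiv.Perm (Fin 276)) := Subgroup.closure (gp '' Set.Iio 8)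

/-- The whole model. -/
def G3m : Subgroup (Equiv.Perm (Fin 276)) := Subgroup.closure (gp '' Set.Iio 10)

theorem gp_mem_cm {x : ℕ} (hx : x ∈ cLetters) : gp x ∈ Cm := Subgroup.subset_closure ⟨x, hx, rfl⟩

theorem lt_of_mem_cLetters {x : ℕ} (hx : x ∈ cLetters) : x < 10 :=
  Nat.le_of_ble_eq_true (List.all_eq_true.1 (show cLetters.all (fun y => Nat.blt y 10) = true by decide) x hx)

theorem cm_le : Cm ≤ G3m := Subgroup.closure_mono (Set.image_mono fun _ hx => lt_of_mem_cLetters hx)

theorem ml_le : Ml ≤ G3m :=
  Subgroup.closure_mono (Set.image_mono fun x hx => lt_trans (show x < 8 from hx) (by norm_num))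

/-- A letter as an element of the centralizer. -/
def cg (x : ℕ) : Cm := if h : x ∈ cLetters then ⟨gp x, gp_mem_cm h⟩ else 1

theorem cg_val {x : ℕ} (hx : x ∈ cLetters) : (cg x : Equiv.Perm (Fin 276)) = gp x := by simp [cg, hx]

theorem cg_sq (x : ℕ) : cg x * cg x = 1 := by
  by_cases hx : x ∈ cLetters
  · exact Subtype.ext (by rw [Subgroup.coe_mul, cg_val hx, gp_sq]; rfl)
  · simp [cg, hx]

/-- The letters of a word generate the centralizer. -/
noncomputable def inC (L : List ℕ) : Bool := L.all fun x => cLetters.any (Nat.beq x)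

theorem inC_spec {L : List ℕ} (h : inC L = true) : ∀ x ∈ L, x ∈ cLetters := fun x hx => by
  obtain ⟨y, hy, hxy⟩ := List.any_eq_true.1 (List.all_eq_true.1 h x hx)
  exact Nat.eq_of_beq_eq_true hxy ▸ hy

/-- A word as an element of the centralizer. -/
noncomputable def el (L : List ℕ) : Cm := wprod cg L

theorem el_append (L M : List ℕ) : el (L ++ M) = el L * el M := wprod_append _ _ _

theorem el_nil : el [] = 1 := rfl

theorem el_singleton (x : ℕ) : el [x] = cg x := by simp [el, wprod]

theorem el_reverse (L : List ℕ) : el L.reverse = (el L)⁻¹ := wprod_reverse cg cg_sq L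

theorem el_val {L : List ℕ} (h : ∀ x ∈ L, x ∈ cLetters) :
    (el L : Equiv.Perm (Fin 276)) = wprod gp L :=
  map_wprod Cm.subtype cg gp L fun x hx => cg_val (h x hx)

theorem closure_cg : Subgroup.closure (cg '' cSet) = ⊤ := by
  refine Subgroup.map_injective Cm.subtype_injective ?_
  rw [MonoidHom.map_closure, ← MonoidHom.range_eq_map, Subgroup.range_subtype, ← Set.image_comp]
  show _ = Subgroup.closure (gp '' cSet)
  exact congrArg Subgroup.closure (Set.image_congr fun x hx => cg_val hx)

/-- Two words give the same element. -/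
noncomputable def eqE (L L' : List ℕ) : Bool := inC L && inC L' && eqP L L'

theorem eqE_sound {L L' : List ℕ} (h : eqE L L' = true) : el L = el L' := by
  simp only [eqE, Bool.and_eq_true] at h
  exact Subtype.ext (by rw [el_val (inC_spec h.1.1), el_val (inC_spec h.1.2), eqP_sound h.2])

/-- Two words give different elements. -/
noncomputable def neE (L L' : List ℕ) : Bool := inC L && inC L' && neP L L'

theorem neE_sound {L L' : List ℕ} (h : neE L L' = true) : el L ≠ el L' := by
  simp only [neE, Bool.and_eq_true] at h
  intro e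
  refine neP_sound h.2 ?_
  rw [← el_val (inC_spec h.1.1), ← el_val (inC_spec h.1.2), e]

/-- The first involution. -/
noncomputable def tm : Cm := el McLInv.tW

/-- The second involution. -/
noncomputable def am : Cm := el McLInv.aW

/-- The representative of the other class. -/
noncomputable def sm : Cm := el s0W

/-- The named words are the letters, and the conjugates under the letter `7` are as tabled. -/
theorem word_checks : eqP [8] tauW = true ∧ eqP [10] s0W = true ∧ eqP [7, 9, 7] cc2W = true ∧
    eqP [7, 8, 7] tau2W = true ∧ Nat.beq (actP [8] 275) 275 = true ∧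
    Nat.beq (actP [9] 275) 275 = false ∧ inC tauW = true ∧ inC s0W = true ∧ inC cc2W = true ∧
    inC tau2W = true := by
  decide +kernel

end CfsgLib.Recog.Co3Inv
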