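import Cfsg.Agent.Lib.Recog.Co3Inv.OfficialChecks

/-!
The model on 276 points is the stabilizer of a vector of sum of squares 48 in the automorphism group of the
lattice: the letters are given by maps of the lattice, and the points by the pairs of vectors of sum of squares
32 adding up to the fixed vector.
-/

set_option autoImplicit false
set_option maxRecDepth 100000
set_option Elab.async false

namespace CfsgLib.Recog.Co3Inv

open Cfsg CfsgLib.Golay CfsgLib.Golay.Co3Out
open scoped Pointwise

theorem fast_all {k : ℕ} (hk : k < 10) : fastOK (offM.getD k []) (transOf (offM.getD k [])) = true := by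
  interval_cases k
  exacts [fast0, fast1, fast2, fast3, fast4, fast5, fast6, fast7, fast8, fast9]

theorem offP_spec (i : Fin 276) :
    (offP.getD i []).length = 24 ∧ inLat (funL (offP.getD i [])) = true := by
  have h := offP_shape
  rw [Bool.and_eq_true, List.all_eq_true] at h
  have hl := Nat.eq_of_beq_eq_true h.1
  have hm : offP.getD i [] ∈ offP := by
    rw [List.getD_eq_getElem _ _ (hl.symm ▸ i.2)]; exact List.getElem_mem _
  have h' := h.2 _ hm
  rw [Bool.and_eq_true] at h'
  exact ⟨Nat.eq_of_beq_eq_true h'.1, inLat_of_inLatL h'.2⟩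

/-- The representative of a pair. -/
def repV (i : Fin 276) : leechLattice := ⟨funL (offP.getD i []), inLat_mem (offP_spec i).2⟩

/-- The element of a letter. -/
noncomputable def offElt (k : ℕ) (hk : k < 10) : Co0 :=
  matCo0 (listMat (offM.getD k [])) (matOK_of_fast (fast_all hk))

theorem funL_fiveL : funL fiveL = (fiveV : GolayPt → ℤ) :=
  funext (show ∀ p : GolayPt, funL fiveL p = (fiveV : GolayPt → ℤ) p by decide +kernel)

theorem funL_compL {w : List ℤ} (hw : w.length = 24) :
    funL (compL w) = (fiveV : GolayPt → ℤ) - funL w := by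
  funext p
  rw [Pi.sub_apply, ← funL_fiveL]
  have h5 : fiveL.length = 24 := rfl
  simp only [funL, compL]
  rw [List.getD_eq_getElem _ _ (by rw [List.length_zipWith, h5, hw]; exact idx_lt p), List.getElem_zipWith,
    List.getD_eq_getElem _ _ (h5.symm ▸ idx_lt p), List.getD_eq_getElem _ _ (hw.symm ▸ idx_lt p)]

theorem offElt_smul {k : ℕ} (hk : k < 10) {w : List ℤ} (hw : w.length = 24)
    (hm : funL w ∈ leechLattice) :
    ((offElt k hk • (⟨funL w, hm⟩ : leechLattice) : leechLattice) : GolayPt → ℤ) =
      funL (appL (offM.getD k []) w) := by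
  have h := fast_all hk
  simp only [fastOK, Bool.and_eq_true] at h
  have hs := shapeL_spec h.1.1.1.1.1.1
  rw [offElt, matCo0_smul]
  funext p
  show dotInt (listMat (offM.getD k []) p) (funL w) / 8 = _
  simp only [funL, appL]
  rw [List.getD_eq_getElem ((offM.getD k []).map fun r => dotL r w / 8) _
      (by rw [List.length_map, hs.1]; exact idx_lt p), List.getElem_map,
    ← List.getD_eq_getElem (offM.getD k []) ([] : List ℤ) (hs.1.symm ▸ idx_lt p)]
  exact congrArg (· / 8) (dotL_eq_dotInt (hs.2 _ (idx_lt p)) hw).symm

theorem letter_spec {k : ℕ} (hk : k < 10) :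
    offElt k hk • fiveV = fiveV ∧ ∀ i : Fin 276, offElt k hk • repV i = repV (gp k i) ∨
      offElt k hk • repV i = fiveV - repV (gp k i) := by
  have h := List.all_eq_true.1 letters_ok k (List.mem_range.2 hk)
  simp only [letterOK, Bool.and_eq_true, decide_eq_true_iff, List.all_eq_true, List.mem_range,
    Bool.or_eq_true] at h
  obtain ⟨h1, h2⟩ := h
  constructor
  · have e : fiveV = ⟨funL fiveL, by rw [funL_fiveL]; exact fiveV.2⟩ := Subtype.ext funL_fiveL.symm
    refine Subtype.ext ?_
    calc ((offElt k hk • fiveV : leechLattice) : GolayPt → ℤ) = funL (appL (offM.getD k []) fiveL) := by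
          conv_lhs => rw [e]
          exact offElt_smul hk rfl _
      _ = _ := by rw [h1, funL_fiveL]
  · intro i
    have hj : McLInv.img (codes.getD k 0) i = ((gp k i : Fin 276) : ℕ) :=
      (mapP_val (by omega) i).symm
    have hl := offElt_smul hk (offP_spec i).1 (inLat_mem (offP_spec i).2)
    rcases h2 i i.2 with e | e <;> rw [hj] at e
    · exact Or.inl (Subtype.ext (hl.trans (congrArg funL e)))
    · refine Or.inr (Subtype.ext (hl.trans ((congrArg funL e).trans ?_)))
      rw [funL_compL (offP_spec _).1]
      rfl

/-- The element of a letter in the stabilizer. -/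
noncomputable def offG (k : ℕ) : G3 :=
  if hk : k < 10 then ⟨offElt k hk, MulAction.mem_stabilizer_iff.2 (letter_spec hk).1⟩ else 1

/-- A pair of vectors. -/
noncomputable def pairV (i : Fin 276) : Finset leechLattice :=
  open scoped Classical in {repV i, fiveV - repV i}

theorem mem_pairV {i : Fin 276} {v : leechLattice} : v ∈ pairV i ↔ v = repV i ∨ v = fiveV - repV i := by
  classical
  simp [pairV]

theorem funL_inj {v w : List ℤ} (hv : v.length = 24) (hw : w.length = 24) (h : funL v = funL w) :
    v = w := by
  refine List.ext_getElem (hv.trans hw.symm) fun n h1 h2 => ?_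
  have := congrFun h (pt n)
  simp only [funL, idx_pt (hv ▸ h1)] at this
  rwa [List.getD_eq_getElem _ _ h1, List.getD_eq_getElem _ _ h2] at this

theorem pairV_injective : Function.Injective pairV := by
  intro i j h
  by_contra hne
  wlog hlt : (j : ℕ) < (i : ℕ) generalizing i j
  · exact this h.symm (Ne.symm hne) (by have := Fin.val_ne_of_ne hne; omega)
  have hm : repV i ∈ pairV j := h ▸ mem_pairV.2 (Or.inl rfl)
  have hc := pairs_ok
  simp only [pairsOK, List.all_eq_true, List.mem_range, Bool.and_eq_true, Bool.not_eq_true'] at hc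
  obtain ⟨ha, hb⟩ := hc i i.2 j hlt
  have h := offP_shape
  rw [Bool.and_eq_true] at h
  have hl := Nat.eq_of_beq_eq_true h.1
  have ea : ∀ (f : List ℤ → ℕ) (n : Fin 276), (offP.map f).getD n 0 = f (offP.getD n []) := fun f n => by
    rw [List.getD_eq_getElem _ _ (by rw [List.length_map, hl]; exact n.2), List.getElem_map,
      List.getD_eq_getElem _ _ (hl.symm ▸ n.2)]
  rw [ea, ea] at ha hb
  rcases mem_pairV.1 hm with e | e
  · have := funL_inj (offP_spec i).1 (offP_spec j).1 (congrArg Subtype.val e)
    rw [this, Nat.beq_refl] at ha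
    cases ha
  · have hlen : (compL (offP.getD j [])).length = 24 := by
      rw [compL, List.length_zipWith, (offP_spec j).1]; rfl
    have := funL_inj (offP_spec i).1 hlen
      ((congrArg Subtype.val e).trans ((funL_compL (offP_spec j).1).symm.trans rfl))
    rw [this, Nat.beq_refl] at hb
    cases hb

theorem offG_pair {k : ℕ} (hk : k < 10) (i : Fin 276) : offG k • pairV i = pairV (gp k i) := by
  classical
  obtain ⟨h5, hP⟩ := letter_spec hk
  have hg : ∀ v : leechLattice, offG k • v = offElt k hk • v := fun v => by
    rw [offG, dif_pos hk]; rfl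
  have hs : offElt k hk • (fiveV - repV i) = fiveV - offElt k hk • repV i := by
    conv_rhs => rw [← h5]
    exact map_sub (co0Hom (offElt k hk)) fiveV (repV i)
  simp only [pairV, Finset.smul_finset_insert, Finset.smul_finset_singleton, hg, hs]
  rcases hP i with e | e <;> rw [e]
  rw [sub_sub_cancel, Finset.pair_comm]

/-- The elements of the stabilizer permuting the pairs. -/
noncomputable def pairStab : Subgroup G3 :=
  open scoped Classical in MulAction.stabilizer G3 (Set.range pairV)

theorem offG_mem {k : ℕ} (hk : k < 10) : offG k ∈ pairStab := by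
  classical
  refine MulAction.mem_stabilizer_iff.2 (Set.ext fun s => ?_)
  simp only [Set.mem_smul_set, Set.mem_range, exists_exists_eq_and, offG_pair hk]
  exact ⟨fun ⟨i, hi⟩ => ⟨gp k i, hi⟩, fun ⟨i, hi⟩ => ⟨gp k i, by
    rw [show gp k (gp k i) = i from Equiv.Perm.mul_apply (gp k) (gp k) i ▸ by rw [gp_sq]; rfl, hi]⟩⟩

theorem exists_pair_image (g : pairStab) (i : Fin 276) :
    ∃ j, pairV j = (open scoped Classical in (g : G3) • pairV i) := by
  classical
  have h : (g : G3) • pairV i ∈ (g : G3) • Set.range pairV := Set.smul_mem_smul_set ⟨i, rfl⟩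
  rw [MulAction.mem_stabilizer_iff.1 g.2] at h
  exact h

/-- The point to which a point is mapped. -/
noncomputable def pairMap (g : pairStab) (i : Fin 276) : Fin 276 := (exists_pair_image g i).choose

theorem pairMap_spec (g : pairStab) (i : Fin 276) :
    pairV (pairMap g i) = (open scoped Classical in (g : G3) • pairV i) :=
  (exists_pair_image g i).choose_spec

theorem pairMap_mul (g h : pairStab) (i : Fin 276) : pairMap (g * h) i = pairMap g (pairMap h i) := by
  classical
  refine pairV_injective ?_
  rw [pairMap_spec, pairMap_spec, pairMap_spec, Subgroup.coe_mul, mul_smul]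

theorem pairMap_one (i : Fin 276) : pairMap 1 i = i := by
  classical
  exact pairV_injective (by rw [pairMap_spec, Subgroup.coe_one, one_smul])

/-- The action on the 276 points. -/
noncomputable def pairHom : pairStab →* Equiv.Perm (Fin 276) where
  toFun g :=
    { toFun := pairMap g
      invFun := pairMap g⁻¹
      left_inv := fun i => by rw [← pairMap_mul, inv_mul_cancel, pairMap_one]
      right_inv := fun i => by rw [← pairMap_mul, mul_inv_cancel, pairMap_one] }
  map_one' := Equiv.ext pairMap_one
  map_mul' g h := Equiv.ext (pairMap_mul g h)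

theorem pairHom_offG {k : ℕ} (hk : k < 10) : pairHom ⟨offG k, offG_mem hk⟩ = gp k :=
  Equiv.ext fun i => pairV_injective ((pairMap_spec _ i).trans (offG_pair hk i))

/-- The subgroup of the stabilizer generated by the maps of the letters. -/
noncomputable def offSub : Subgroup pairStab :=
  Subgroup.closure {g | ∃ k, ∃ hk : k < 10, g = ⟨offG k, offG_mem hk⟩}

theorem map_offSub : offSub.map pairHom = G3m := by
  rw [offSub, MonoidHom.map_closure]
  refine congrArg Subgroup.closure (Set.ext fun σ => ⟨?_, ?_⟩)
  · rintro ⟨g, ⟨k, hk, rfl⟩, rfl⟩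
    exact ⟨k, hk, (pairHom_offG hk).symm⟩
  · rintro ⟨k, hk, rfl⟩
    exact ⟨_, ⟨k, hk, rfl⟩, pairHom_offG hk⟩

/-- The stabilizer as a group of permutations of the lattice. -/
theorem g3_map_eq : (G3 : Subgroup Co0).map Co0.subtype = Cfsg.Spor.Co3 := by
  have hv : Cfsg.Spor.leechV = -fiveV :=
    Subtype.ext (funext (show ∀ p : GolayPt, (Cfsg.Spor.leechV : GolayPt → ℤ) p =
      ((-fiveV : leechLattice) : GolayPt → ℤ) p by decide +kernel))
  have hneg : ∀ g : Co0, (g : Equiv.Perm leechLattice) Cfsg.Spor.leechV = -((g : Co0) • fiveV) :=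
    fun g => by rw [hv]; exact map_neg (co0Hom g) fiveV
  refine Subgroup.ext fun σ => ⟨?_, ?_⟩
  · rintro ⟨g, hg, rfl⟩
    refine ⟨g.2, MulAction.mem_stabilizer_iff.2 ?_⟩
    show (g : Equiv.Perm leechLattice) Cfsg.Spor.leechV = _
    rw [hneg, MulAction.mem_stabilizer_iff.1 hg, hv]
  · rintro ⟨h0, hs⟩
    refine ⟨⟨σ, h0⟩, MulAction.mem_stabilizer_iff.2 (neg_injective ?_), rfl⟩
    rw [← hneg ⟨σ, h0⟩, ← hv]
    exact MulAction.mem_stabilizer_iff.1 hs

/-- The stabilizer is the third Conway group. -/
theorem g3_equiv : Nonempty (G3 ≃* Cfsg.Spor.Co3) :=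
  ⟨((G3 : Subgroup Co0).equivMapOfInjective Co0.subtype Co0.subtype_injective).trans
    (MulEquiv.subgroupCongr g3_map_eq)⟩

/-- The model is the third Conway group, given its order from below. -/
theorem model_of_card (hcard : 495766656000 ≤ Nat.card G3m) : ModelStmt := by
  have : Finite G3 := Nat.finite_of_card_ne_zero (by rw [card_G3]; norm_num)
  let H : Subgroup G3 := offSub.map pairStab.subtype
  have h1 : Nat.card (offSub.map pairHom) ≤ Nat.card offSub :=
    Nat.card_le_card_of_surjective _ (pairHom.subgroupMap_surjective offSub)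
  have h2 : Nat.card H = Nat.card offSub := Subgroup.card_map_of_injective pairStab.subtype_injective
  have h3 : Nat.card H ≤ Nat.card G3 := Nat.card_le_card_of_injective _ Subtype.val_injective
  rw [map_offSub] at h1
  rw [card_G3] at h3
  have hH : H = ⊤ := Subgroup.eq_top_of_card_eq H (by rw [card_G3]; omega)
  let f : offSub →* G3m := (MulEquiv.subgroupCongr map_offSub).toMonoidHom.comp
    (pairHom.subgroupMap offSub)
  have hf : Function.Surjective f :=
    (MulEquiv.subgroupCongr map_offSub).surjective.comp (pairHom.subgroupMap_surjective offSub)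
  have hbij : Function.Bijective f := by
    rw [Nat.bijective_iff_surjective_and_card]
    exact ⟨hf, by omega⟩
  obtain ⟨e⟩ := g3_equiv
  exact ⟨(MulEquiv.ofBijective f hbij).symm.trans
    ((offSub.equivMapOfInjective pairStab.subtype pairStab.subtype_injective).trans
      ((MulEquiv.subgroupCongr hH).trans (Subgroup.topEquiv.trans e)))⟩

end CfsgLib.Recog.Co3Inv
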