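import Mathlib.Data.Int.Notation

/-!
The ten letters as eight times orthogonal maps of the lattice fixing the vector of sum of squares 48, and a
representative of each of the 276 pairs of vectors of sum of squares 32 adding up to it.
-/

set_option autoImplicit false
set_option maxRecDepth 100000

namespace CfsgLib.Recog.Co3Inv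

/-- The map of the letter `0`. -/
def offM0 : List (List ℤ) := [
  [6,0,-2,0,0,-2,0,-2,0,-2,0,0,2,0,0,0,0,0,0,0,0,0,-2,2],
  [0,2,0,-2,2,0,-2,0,2,0,2,2,0,-2,-2,-2,2,-2,2,2,2,2,0,0],
  [-2,0,-2,0,0,6,0,-2,0,-2,0,0,2,0,0,0,0,0,0,0,0,0,-2,2],
  [0,-2,0,2,2,0,-2,0,2,0,2,2,0,-2,2,2,-2,2,-2,2,2,-2,0,0],
  [0,2,0,2,2,0,-2,0,-2,0,-2,-2,0,2,2,2,-2,-2,2,2,2,2,0,0],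
  [-2,0,6,0,0,-2,0,-2,0,-2,0,0,2,0,0,0,0,0,0,0,0,0,-2,2],
  [0,-2,0,-2,-2,0,2,0,-2,0,2,2,0,2,-2,2,-2,2,2,2,2,2,0,0],
  [-2,0,-2,0,0,-2,0,6,0,-2,0,0,2,0,0,0,0,0,0,0,0,0,-2,2],
  [0,2,0,2,-2,0,-2,0,2,0,2,-2,0,2,-2,2,2,2,-2,2,-2,2,0,0],
  [-2,0,-2,0,0,-2,0,-2,0,6,0,0,2,0,0,0,0,0,0,0,0,0,-2,2],
  [0,2,0,2,-2,0,2,0,2,0,2,2,0,-2,2,2,-2,-2,2,-2,-2,2,0,0],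
  [0,2,0,2,-2,0,2,0,-2,0,2,2,0,2,2,-2,2,-2,-2,2,2,-2,0,0],
  [2,0,2,0,0,2,0,2,0,2,0,0,6,0,0,0,0,0,0,0,0,0,2,-2],
  [0,-2,0,-2,2,0,2,0,2,0,-2,2,0,2,2,2,2,-2,-2,2,-2,2,0,0],
  [0,-2,0,2,2,0,-2,0,-2,0,2,2,0,2,2,-2,2,2,2,-2,-2,2,0,0],
  [0,-2,0,2,2,0,2,0,2,0,2,-2,0,2,-2,2,2,-2,2,-2,2,-2,0,0],
  [0,2,0,-2,-2,0,-2,0,2,0,-2,2,0,2,2,2,2,2,2,-2,2,-2,0,0],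
  [0,-2,0,2,-2,0,2,0,2,0,-2,-2,0,-2,2,-2,2,2,2,2,2,2,0,0],
  [0,2,0,-2,2,0,2,0,-2,0,2,-2,0,-2,2,2,2,2,2,2,-2,-2,0,0],
  [0,2,0,2,2,0,2,0,2,0,-2,2,0,2,-2,-2,-2,2,2,2,-2,-2,0,0],
  [0,2,0,2,2,0,2,0,-2,0,-2,2,0,-2,-2,2,2,2,-2,-2,2,2,0,0],
  [0,2,0,-2,2,0,2,0,2,0,2,-2,0,2,2,-2,-2,2,-2,-2,2,2,0,0],
  [-2,0,-2,0,0,-2,0,-2,0,-2,0,0,2,0,0,0,0,0,0,0,0,0,6,2],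
  [2,0,2,0,0,2,0,2,0,2,0,0,-2,0,0,0,0,0,0,0,0,0,2,6]]

/-- The map of the letter `1`. -/
def offM1 : List (List ℤ) := [
  [6,0,-2,0,-2,-2,-2,0,0,0,2,-2,0,0,0,0,0,0,0,0,0,0,0,2],
  [0,2,0,-2,0,0,0,-2,2,2,0,0,-2,-2,2,2,-2,2,2,2,2,2,-2,0],
  [-2,0,-2,0,6,-2,-2,0,0,0,2,-2,0,0,0,0,0,0,0,0,0,0,0,2],
  [0,-2,0,2,0,0,0,2,-2,2,0,0,2,2,2,-2,-2,2,-2,2,2,2,-2,0],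
  [-2,0,6,0,-2,-2,-2,0,0,0,2,-2,0,0,0,0,0,0,0,0,0,0,0,2],
  [-2,0,-2,0,-2,6,-2,0,0,0,2,-2,0,0,0,0,0,0,0,0,0,0,0,2],
  [-2,0,-2,0,-2,-2,6,0,0,0,2,-2,0,0,0,0,0,0,0,0,0,0,0,2],
  [0,-2,0,2,0,0,0,2,2,-2,0,0,2,-2,-2,2,-2,-2,2,2,2,2,2,0],
  [0,2,0,-2,0,0,0,2,2,-2,0,0,2,-2,2,-2,2,2,-2,2,2,-2,2,0],
  [0,2,0,2,0,0,0,-2,-2,2,0,0,2,-2,2,-2,2,-2,2,2,-2,2,2,0],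
  [2,0,2,0,2,2,2,0,0,0,6,2,0,0,0,0,0,0,0,0,0,0,0,-2],
  [-2,0,-2,0,-2,-2,-2,0,0,0,2,6,0,0,0,0,0,0,0,0,0,0,0,2],
  [0,-2,0,2,0,0,0,2,2,2,0,0,2,-2,2,2,2,2,2,-2,-2,-2,-2,0],
  [0,-2,0,2,0,0,0,-2,-2,-2,0,0,-2,2,2,2,2,2,2,2,2,-2,2,0],
  [0,2,0,2,0,0,0,-2,2,2,0,0,2,2,2,2,-2,-2,-2,-2,2,-2,2,0],
  [0,2,0,-2,0,0,0,2,-2,-2,0,0,2,2,2,2,-2,2,2,-2,-2,2,2,0],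
  [0,-2,0,-2,0,0,0,-2,2,2,0,0,2,2,-2,-2,2,2,2,-2,2,2,2,0],
  [0,2,0,2,0,0,0,-2,2,-2,0,0,2,2,-2,2,2,2,-2,2,-2,2,-2,0],
  [0,2,0,-2,0,0,0,2,-2,2,0,0,2,2,-2,2,2,-2,2,2,2,-2,-2,0],
  [0,2,0,2,0,0,0,2,2,2,0,0,-2,2,-2,-2,-2,2,2,2,-2,-2,2,0],
  [0,2,0,2,0,0,0,2,2,-2,0,0,-2,2,2,-2,2,-2,2,-2,2,2,-2,0],
  [0,2,0,2,0,0,0,2,-2,2,0,0,-2,-2,-2,2,2,2,-2,-2,2,2,2,0],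
  [0,-2,0,-2,0,0,0,2,2,2,0,0,-2,2,2,2,2,-2,-2,2,-2,2,2,0],
  [2,0,2,0,2,2,2,0,0,0,-2,2,0,0,0,0,0,0,0,0,0,0,0,6]]

/-- The map of the letter `2`. -/
def offM2 : List (List ℤ) := [
  [6,0,0,-2,0,0,0,0,2,0,0,0,0,0,-2,-2,0,0,-2,0,-2,0,0,2],
  [0,2,2,0,-2,-2,2,2,0,2,-2,2,2,-2,0,0,-2,2,0,2,0,-2,2,0],
  [0,2,2,0,2,2,-2,2,0,-2,2,2,2,-2,0,0,2,-2,0,-2,0,-2,2,0],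
  [-2,0,0,-2,0,0,0,0,2,0,0,0,0,0,-2,-2,0,0,-2,0,6,0,0,2],
  [0,-2,2,0,2,2,2,-2,0,2,2,-2,2,-2,0,0,-2,2,0,-2,0,2,2,0],
  [0,-2,2,0,2,2,2,-2,0,-2,-2,2,-2,2,0,0,2,2,0,2,0,-2,2,0],
  [0,2,-2,0,2,2,2,2,0,2,2,2,-2,2,0,0,-2,2,0,-2,0,-2,-2,0],
  [0,2,2,0,-2,-2,2,2,0,-2,2,-2,-2,2,0,0,2,2,0,-2,0,2,2,0],
  [2,0,0,2,0,0,0,0,6,0,0,0,0,0,2,2,0,0,2,0,2,0,0,-2],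
  [0,2,-2,0,2,-2,2,-2,0,2,2,-2,2,2,0,0,2,-2,0,2,0,-2,2,0],
  [0,-2,2,0,2,-2,2,2,0,2,2,2,-2,-2,0,0,2,-2,0,2,0,2,-2,0],
  [0,2,2,0,-2,2,2,-2,0,-2,2,2,2,2,0,0,-2,-2,0,2,0,2,-2,0],
  [0,2,2,0,2,-2,-2,-2,0,2,-2,2,2,2,0,0,2,2,0,-2,0,2,-2,0],
  [0,-2,-2,0,-2,2,2,2,0,2,-2,2,2,2,0,0,2,-2,0,-2,0,2,2,0],
  [-2,0,0,-2,0,0,0,0,2,0,0,0,0,0,6,-2,0,0,-2,0,-2,0,0,2],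
  [-2,0,0,-2,0,0,0,0,2,0,0,0,0,0,-2,6,0,0,-2,0,-2,0,0,2],
  [0,-2,2,0,-2,2,-2,2,0,2,2,-2,2,2,0,0,2,2,0,2,0,-2,-2,0],
  [0,2,-2,0,2,2,2,2,0,-2,-2,-2,2,-2,0,0,2,2,0,2,0,2,-2,0],
  [-2,0,0,-2,0,0,0,0,2,0,0,0,0,0,-2,-2,0,0,6,0,-2,0,0,2],
  [0,2,-2,0,-2,2,-2,-2,0,2,2,2,-2,-2,0,0,2,2,0,2,0,2,2,0],
  [-2,0,0,6,0,0,0,0,2,0,0,0,0,0,-2,-2,0,0,-2,0,-2,0,0,2],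
  [0,-2,-2,0,2,-2,-2,2,0,-2,2,2,2,2,0,0,-2,2,0,2,0,2,2,0],
  [0,2,2,0,2,2,-2,2,0,2,-2,-2,-2,2,0,0,-2,-2,0,2,0,2,2,0],
  [2,0,0,2,0,0,0,0,-2,0,0,0,0,0,2,2,0,0,2,0,2,0,0,6]]

/-- The map of the letter `3`. -/
def offM3 : List (List ℤ) := [
  [6,0,0,0,0,-2,0,-2,0,0,0,-2,0,0,-2,0,0,0,2,-2,0,0,0,2],
  [0,2,2,-2,-2,0,2,0,2,2,2,0,2,2,0,2,-2,2,0,0,-2,-2,-2,0],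
  [0,2,2,2,2,0,-2,0,2,-2,2,0,2,2,0,-2,-2,-2,0,0,-2,2,2,0],
  [0,-2,2,2,2,0,-2,0,2,2,2,0,-2,-2,0,2,-2,2,0,0,2,-2,2,0],
  [0,-2,2,2,2,0,2,0,-2,2,-2,0,2,2,0,-2,-2,2,0,0,2,2,-2,0],
  [-2,0,0,0,0,-2,0,6,0,0,0,-2,0,0,-2,0,0,0,2,-2,0,0,0,2],
  [0,2,-2,-2,2,0,2,0,-2,2,2,0,2,-2,0,2,-2,-2,0,0,2,2,2,0],
  [-2,0,0,0,0,6,0,-2,0,0,0,-2,0,0,-2,0,0,0,2,-2,0,0,0,2],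
  [0,2,2,2,-2,0,-2,0,2,2,-2,0,2,-2,0,2,2,-2,0,0,2,2,-2,0],
  [0,2,-2,2,2,0,2,0,2,2,2,0,-2,-2,0,-2,2,2,0,0,-2,2,-2,0],
  [0,2,2,2,-2,0,2,0,-2,2,2,0,-2,2,0,-2,2,-2,0,0,2,-2,2,0],
  [-2,0,0,0,0,-2,0,-2,0,0,0,6,0,0,-2,0,0,0,2,-2,0,0,0,2],
  [0,2,2,-2,2,0,2,0,2,-2,-2,0,2,-2,0,-2,2,2,0,0,2,-2,2,0],
  [0,2,2,-2,2,0,-2,0,-2,-2,2,0,-2,2,0,2,2,2,0,0,2,2,-2,0],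
  [-2,0,0,0,0,-2,0,-2,0,0,0,-2,0,0,6,0,0,0,2,-2,0,0,0,2],
  [0,2,-2,2,-2,0,2,0,2,-2,-2,0,-2,2,0,2,-2,2,0,0,2,2,2,0],
  [0,-2,-2,-2,-2,0,-2,0,2,2,2,0,2,2,0,-2,2,2,0,0,2,2,2,0],
  [0,2,-2,2,2,0,-2,0,-2,2,-2,0,2,2,0,2,2,2,0,0,-2,-2,2,0],
  [2,0,0,0,0,2,0,2,0,0,0,2,0,0,2,0,0,0,6,2,0,0,0,-2],
  [-2,0,0,0,0,-2,0,-2,0,0,0,-2,0,0,-2,0,0,0,2,6,0,0,0,2],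
  [0,-2,-2,2,2,0,2,0,2,-2,2,0,2,2,0,2,2,-2,0,0,2,-2,-2,0],
  [0,-2,2,-2,2,0,2,0,2,2,-2,0,-2,2,0,2,2,-2,0,0,-2,2,2,0],
  [0,-2,2,2,-2,0,2,0,-2,-2,2,0,2,-2,0,2,2,2,0,0,-2,2,2,0],
  [2,0,0,0,0,2,0,2,0,0,0,2,0,0,2,0,0,0,-2,2,0,0,0,6]]

/-- The map of the letter `4`. -/
def offM4 : List (List ℤ) := [
  [6,0,0,0,0,0,0,2,0,-2,0,0,0,0,-2,-2,0,-2,0,0,0,-2,0,2],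
  [0,2,2,2,2,-2,2,0,-2,0,2,2,-2,2,0,0,-2,0,-2,2,-2,0,2,0],
  [0,2,2,-2,2,2,-2,0,2,0,2,2,2,-2,0,0,2,0,-2,-2,-2,0,2,0],
  [0,2,-2,2,2,2,-2,0,2,0,2,-2,2,2,0,0,-2,0,-2,2,2,0,-2,0],
  [0,2,2,2,2,-2,-2,0,-2,0,-2,2,2,2,0,0,2,0,2,-2,2,0,-2,0],
  [0,-2,2,2,-2,2,-2,0,2,0,-2,2,2,2,0,0,-2,0,2,2,-2,0,2,0],
  [0,2,-2,-2,-2,-2,2,0,2,0,2,2,2,2,0,0,-2,0,2,-2,2,0,2,0],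
  [2,0,0,0,0,0,0,6,0,2,0,0,0,0,2,2,0,2,0,0,0,2,0,-2],
  [0,-2,2,2,-2,2,2,0,2,0,2,2,-2,2,0,0,2,0,-2,-2,2,0,-2,0],
  [-2,0,0,0,0,0,0,2,0,6,0,0,0,0,-2,-2,0,-2,0,0,0,-2,0,2],
  [0,2,2,2,-2,-2,2,0,2,0,2,-2,2,-2,0,0,2,0,2,2,-2,0,-2,0],
  [0,2,2,-2,2,2,2,0,2,0,-2,2,-2,-2,0,0,-2,0,2,2,2,0,-2,0],
  [0,-2,2,2,2,2,2,0,-2,0,2,-2,2,-2,0,0,-2,0,2,-2,2,0,2,0],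
  [0,2,-2,2,2,2,2,0,2,0,-2,-2,-2,2,0,0,2,0,2,-2,-2,0,2,0],
  [-2,0,0,0,0,0,0,2,0,-2,0,0,0,0,6,-2,0,-2,0,0,0,-2,0,2],
  [-2,0,0,0,0,0,0,2,0,-2,0,0,0,0,-2,6,0,-2,0,0,0,-2,0,2],
  [0,-2,2,-2,2,-2,-2,0,2,0,2,-2,-2,2,0,0,2,0,2,2,2,0,2,0],
  [-2,0,0,0,0,0,0,2,0,-2,0,0,0,0,-2,-2,0,-2,0,0,0,6,0,2],
  [0,-2,-2,-2,2,2,2,0,-2,0,2,2,2,2,0,0,2,0,2,2,-2,0,-2,0],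
  [0,2,-2,2,-2,2,-2,0,-2,0,2,2,-2,-2,0,0,2,0,2,2,2,0,2,0],
  [0,-2,-2,2,2,-2,2,0,2,0,-2,2,2,-2,0,0,2,0,-2,2,2,0,2,0],
  [-2,0,0,0,0,0,0,2,0,-2,0,0,0,0,-2,-2,0,6,0,0,0,-2,0,2],
  [0,2,2,-2,-2,2,2,0,-2,0,-2,-2,2,2,0,0,2,0,-2,2,2,0,2,0],
  [2,0,0,0,0,0,0,-2,0,2,0,0,0,0,2,2,0,2,0,0,0,2,0,6]]

/-- The map of the letter `5`. -/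
def offM5 : List (List ℤ) := [
  [6,-2,-2,0,0,0,0,0,-2,0,0,-2,2,0,0,0,0,0,-2,0,0,0,0,2],
  [-2,-2,6,0,0,0,0,0,-2,0,0,-2,2,0,0,0,0,0,-2,0,0,0,0,2],
  [-2,6,-2,0,0,0,0,0,-2,0,0,-2,2,0,0,0,0,0,-2,0,0,0,0,2],
  [0,0,0,2,-2,-2,-2,2,0,2,2,0,0,2,2,-2,-2,2,0,2,2,2,-2,0],
  [0,0,0,-2,2,2,2,-2,0,2,-2,0,0,-2,2,2,-2,2,0,2,2,2,-2,0],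
  [0,0,0,-2,2,2,-2,2,0,2,2,0,0,-2,-2,-2,2,-2,0,2,2,2,2,0],
  [0,0,0,-2,2,-2,2,2,0,-2,2,0,0,2,2,2,-2,-2,0,2,2,-2,2,0],
  [0,0,0,2,-2,2,2,2,0,-2,2,0,0,-2,-2,2,2,2,0,2,2,-2,-2,0],
  [-2,-2,-2,0,0,0,0,0,6,0,0,-2,2,0,0,0,0,0,-2,0,0,0,0,2],
  [0,0,0,2,2,2,-2,-2,0,2,2,0,0,2,2,2,2,-2,0,2,-2,-2,-2,0],
  [0,0,0,2,-2,2,2,2,0,2,2,0,0,-2,2,2,-2,-2,0,-2,-2,2,2,0],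
  [-2,-2,-2,0,0,0,0,0,-2,0,0,6,2,0,0,0,0,0,-2,0,0,0,0,2],
  [2,2,2,0,0,0,0,0,2,0,0,2,6,0,0,0,0,0,2,0,0,0,0,-2],
  [0,0,0,2,-2,-2,2,-2,0,2,-2,0,0,2,-2,2,2,-2,0,2,2,2,2,0],
  [0,0,0,2,2,-2,2,-2,0,2,2,0,0,-2,2,-2,2,2,0,-2,2,-2,2,0],
  [0,0,0,-2,2,-2,2,2,0,2,2,0,0,2,-2,2,2,2,0,-2,-2,2,-2,0],
  [0,0,0,-2,-2,2,-2,2,0,2,-2,0,0,2,2,2,2,2,0,-2,2,-2,2,0],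
  [0,0,0,2,2,-2,-2,2,0,-2,-2,0,0,-2,2,2,2,2,0,2,-2,2,2,0],
  [-2,-2,-2,0,0,0,0,0,-2,0,0,-2,2,0,0,0,0,0,6,0,0,0,0,2],
  [0,0,0,2,2,2,2,2,0,2,-2,0,0,2,-2,-2,-2,2,0,2,-2,-2,2,0],
  [0,0,0,2,2,2,2,2,0,-2,-2,0,0,2,2,-2,2,-2,0,-2,2,2,-2,0],
  [0,0,0,2,2,2,-2,-2,0,-2,2,0,0,2,-2,2,-2,2,0,-2,2,2,2,0],
  [0,0,0,-2,-2,2,2,-2,0,-2,2,0,0,2,2,-2,2,2,0,2,-2,2,2,0],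
  [2,2,2,0,0,0,0,0,2,0,0,2,-2,0,0,0,0,0,2,0,0,0,0,6]]

/-- The map of the letter `6`. -/
def offM6 : List (List ℤ) := [
  [6,0,0,0,-2,0,0,-2,0,-2,-2,0,0,2,0,0,0,0,0,-2,0,0,0,2],
  [0,2,-2,-2,0,-2,-2,0,2,0,0,2,2,0,2,2,2,2,2,0,2,-2,-2,0],
  [0,-2,2,2,0,-2,2,0,-2,0,0,2,-2,0,2,2,2,-2,2,0,2,2,-2,0],
  [0,-2,2,2,0,2,-2,0,2,0,0,2,-2,0,2,2,-2,2,-2,0,2,-2,2,0],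
  [-2,0,0,0,-2,0,0,-2,0,-2,6,0,0,2,0,0,0,0,0,-2,0,0,0,2],
  [0,-2,-2,2,0,2,-2,0,2,0,0,-2,2,0,2,2,2,-2,2,0,-2,2,2,0],
  [0,-2,2,-2,0,-2,2,0,2,0,0,2,2,0,2,-2,-2,2,2,0,-2,2,2,0],
  [-2,0,0,0,-2,0,0,6,0,-2,-2,0,0,2,0,0,0,0,0,-2,0,0,0,2],
  [0,2,-2,2,0,2,2,0,2,0,0,2,-2,0,2,-2,2,2,-2,0,-2,2,-2,0],
  [-2,0,0,0,-2,0,0,-2,0,6,-2,0,0,2,0,0,0,0,0,-2,0,0,0,2],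
  [-2,0,0,0,6,0,0,-2,0,-2,-2,0,0,2,0,0,0,0,0,-2,0,0,0,2],
  [0,2,2,2,0,-2,2,0,2,0,0,2,2,0,-2,2,2,-2,-2,0,-2,-2,2,0],
  [0,2,-2,-2,0,2,2,0,-2,0,0,2,2,0,2,2,-2,-2,-2,0,2,2,2,0],
  [2,0,0,0,2,0,0,2,0,2,2,0,0,6,0,0,0,0,0,2,0,0,0,-2],
  [0,2,2,2,0,2,2,0,2,0,0,-2,2,0,2,-2,-2,-2,2,0,2,-2,-2,0],
  [0,2,2,2,0,2,-2,0,-2,0,0,2,2,0,-2,2,-2,2,2,0,-2,2,-2,0],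
  [0,2,2,-2,0,2,-2,0,2,0,0,2,-2,0,-2,-2,2,-2,2,0,2,2,2,0],
  [0,2,-2,2,0,-2,2,0,2,0,0,-2,-2,0,-2,2,-2,2,2,0,2,2,2,0],
  [0,2,2,-2,0,2,2,0,-2,0,0,-2,-2,0,2,2,2,2,2,0,-2,-2,2,0],
  [-2,0,0,0,-2,0,0,-2,0,-2,-2,0,0,2,0,0,0,0,0,6,0,0,0,2],
  [0,2,2,2,0,-2,-2,0,-2,0,0,-2,2,0,2,-2,2,2,-2,0,2,2,2,0],
  [0,-2,2,-2,0,2,2,0,2,0,0,-2,2,0,-2,2,2,2,-2,0,2,2,-2,0],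
  [0,-2,-2,2,0,2,2,0,-2,0,0,2,2,0,-2,-2,2,2,2,0,2,-2,2,0],
  [2,0,0,0,2,0,0,2,0,2,2,0,0,-2,0,0,0,0,0,2,0,0,0,6]]

/-- The map of the letter `7`. -/
def offM7 : List (List ℤ) := [
  [6,0,0,0,0,-2,0,0,0,0,-2,0,0,-2,2,-2,0,0,0,0,0,0,-2,2],
  [0,2,-2,2,-2,0,-2,2,2,2,0,2,2,0,0,0,-2,-2,2,2,2,-2,0,0],
  [0,-2,2,2,2,0,2,2,2,2,0,-2,-2,0,0,0,2,-2,2,-2,2,-2,0,0],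
  [0,2,2,2,2,0,-2,-2,2,-2,0,2,-2,0,0,0,-2,2,2,-2,2,2,0,0],
  [0,-2,2,2,2,0,-2,-2,-2,2,0,2,2,0,0,0,2,-2,-2,2,2,2,0,0],
  [-2,0,0,0,0,-2,0,0,0,0,-2,0,0,-2,2,6,0,0,0,0,0,0,-2,2],
  [0,-2,2,-2,-2,0,2,2,-2,2,0,2,-2,0,0,0,-2,2,2,2,2,2,0,0],
  [0,2,2,-2,-2,0,2,2,2,-2,0,2,2,0,0,0,2,-2,-2,-2,2,2,0,0],
  [0,2,2,2,-2,0,-2,2,2,2,0,-2,-2,0,0,0,2,2,-2,2,-2,2,0,0],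
  [0,2,2,-2,2,0,2,-2,2,2,0,-2,2,0,0,0,-2,-2,2,2,-2,2,0,0],
  [-2,0,0,0,0,-2,0,0,0,0,6,0,0,-2,2,-2,0,0,0,0,0,0,-2,2],
  [0,2,-2,2,2,0,2,2,-2,-2,0,2,-2,0,0,0,2,-2,2,2,-2,2,0,0],
  [0,2,-2,-2,2,0,-2,2,-2,2,0,-2,2,0,0,0,2,2,2,-2,2,2,0,0],
  [-2,0,0,0,0,-2,0,0,0,0,-2,0,0,6,2,-2,0,0,0,0,0,0,-2,2],
  [2,0,0,0,0,2,0,0,0,0,2,0,0,2,6,2,0,0,0,0,0,0,2,-2],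
  [-2,0,0,0,0,6,0,0,0,0,-2,0,0,-2,2,-2,0,0,0,0,0,0,-2,2],
  [0,-2,2,-2,2,0,-2,2,2,-2,0,2,2,0,0,0,2,2,2,2,-2,-2,0,0],
  [0,-2,-2,2,-2,0,2,-2,2,-2,0,-2,2,0,0,0,2,2,2,2,2,2,0,0],
  [0,2,2,2,-2,0,2,-2,-2,2,0,2,2,0,0,0,2,2,2,-2,-2,-2,0,0],
  [0,2,-2,-2,2,0,2,-2,2,2,0,2,-2,0,0,0,2,2,-2,2,2,-2,0,0],
  [0,2,2,2,2,0,2,2,-2,-2,0,-2,2,0,0,0,-2,2,-2,2,2,-2,0,0],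
  [0,-2,-2,2,2,0,2,2,2,2,0,2,2,0,0,0,-2,2,-2,-2,-2,2,0,0],
  [-2,0,0,0,0,-2,0,0,0,0,-2,0,0,-2,2,-2,0,0,0,0,0,0,6,2],
  [2,0,0,0,0,2,0,0,0,0,2,0,0,2,-2,2,0,0,0,0,0,0,2,6]]

/-- The map of the letter `8`. -/
def offM8 : List (List ℤ) := [
  [-6,0,2,0,2,0,0,0,2,0,2,0,0,2,0,2,0,0,2,0,0,0,0,0],
  [0,2,0,-2,0,2,-2,2,0,-2,0,-2,-2,0,2,0,2,-2,0,-2,-2,2,2,2],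
  [2,0,-6,0,2,0,0,0,2,0,2,0,0,2,0,2,0,0,2,0,0,0,0,0],
  [0,-2,0,2,0,-2,-2,2,0,2,0,2,-2,0,-2,0,-2,-2,0,2,-2,2,2,2],
  [2,0,2,0,-6,0,0,0,2,0,2,0,0,2,0,2,0,0,2,0,0,0,0,0],
  [0,2,0,-2,0,2,-2,2,0,2,0,-2,-2,0,-2,0,-2,2,0,2,2,-2,-2,2],
  [0,-2,0,-2,0,-2,2,2,0,-2,0,-2,2,0,-2,0,-2,2,0,-2,2,2,2,2],
  [0,2,0,2,0,2,2,2,0,-2,0,2,2,0,-2,0,-2,-2,0,-2,-2,-2,-2,2],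
  [2,0,2,0,2,0,0,0,-6,0,2,0,0,2,0,2,0,0,2,0,0,0,0,0],
  [0,-2,0,2,0,2,-2,-2,0,2,0,-2,2,0,-2,0,2,2,0,-2,-2,2,-2,2],
  [2,0,2,0,2,0,0,0,2,0,2,0,0,2,0,2,0,0,-6,0,0,0,0,0],
  [0,-2,0,2,0,-2,-2,2,0,-2,0,2,-2,0,2,0,2,2,0,-2,2,-2,-2,2],
  [0,-2,0,-2,0,-2,2,2,0,2,0,-2,2,0,2,0,2,-2,0,2,-2,-2,-2,2],
  [2,0,2,0,2,0,0,0,2,0,2,0,0,-6,0,2,0,0,2,0,0,0,0,0],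
  [0,2,0,-2,0,-2,-2,-2,0,-2,0,2,2,0,2,0,-2,2,0,2,-2,2,-2,2],
  [2,0,2,0,2,0,0,0,2,0,2,0,0,2,0,-6,0,0,2,0,0,0,0,0],
  [0,2,0,-2,0,-2,-2,-2,0,2,0,2,2,0,-2,0,2,-2,0,-2,2,-2,2,2],
  [0,-2,0,-2,0,2,2,-2,0,2,0,2,-2,0,2,0,-2,2,0,-2,-2,-2,2,2],
  [2,0,2,0,2,0,0,0,2,0,-6,0,0,2,0,2,0,0,2,0,0,0,0,0],
  [0,-2,0,2,0,2,-2,-2,0,-2,0,-2,2,0,2,0,-2,-2,0,2,2,-2,2,2],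
  [0,-2,0,-2,0,2,2,-2,0,-2,0,2,-2,0,-2,0,2,-2,0,2,2,2,-2,2],
  [0,2,0,2,0,-2,2,-2,0,2,0,-2,-2,0,2,0,-2,-2,0,-2,2,2,-2,2],
  [0,2,0,2,0,-2,2,-2,0,-2,0,-2,-2,0,-2,0,2,2,0,2,-2,-2,2,2],
  [0,2,0,2,0,2,2,2,0,2,0,2,2,0,2,0,2,2,0,2,2,2,2,2]]

/-- The map of the letter `9`. -/
def offM9 : List (List ℤ) := [
  [4,0,-2,0,0,0,-2,-2,2,0,0,0,0,0,0,0,2,2,0,-2,2,4,0,0],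
  [0,4,-2,0,0,0,-2,-2,-2,0,0,0,0,0,0,0,-2,-2,0,-2,-2,0,0,4],
  [-2,-2,0,2,2,-2,0,0,0,2,-2,2,2,-2,-2,-2,0,0,2,0,0,2,-2,2],
  [0,0,2,4,0,0,-2,2,2,0,0,0,0,0,0,0,-2,-2,0,-2,2,0,4,0],
  [0,0,2,0,4,0,-2,-2,2,0,4,0,0,0,0,0,-2,2,0,2,-2,0,0,0],
  [0,0,-2,0,0,4,-2,2,-2,4,0,0,0,0,0,0,-2,2,0,2,2,0,0,0],
  [-2,-2,0,-2,-2,-2,0,0,0,2,2,2,-2,-2,2,2,0,0,-2,0,0,2,2,2],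
  [-2,-2,0,2,-2,2,0,0,0,-2,2,-2,2,2,2,-2,0,0,-2,0,0,2,-2,2],
  [2,-2,0,2,2,-2,0,0,0,2,-2,-2,-2,2,2,2,0,0,-2,0,0,-2,-2,2],
  [0,0,2,0,0,4,2,-2,2,4,0,0,0,0,0,0,2,-2,0,-2,-2,0,0,0],
  [0,0,-2,0,4,0,2,2,-2,0,4,0,0,0,0,0,2,-2,0,-2,2,0,0,0],
  [0,0,2,0,0,0,2,-2,-2,0,0,4,0,4,0,0,-2,2,0,-2,2,0,0,0],
  [0,0,2,0,0,0,-2,2,-2,0,0,0,4,0,0,4,2,2,0,-2,-2,0,0,0],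
  [0,0,-2,0,0,0,-2,2,2,0,0,4,0,4,0,0,2,-2,0,2,-2,0,0,0],
  [0,0,-2,0,0,0,2,2,2,0,0,0,0,0,4,0,-2,2,4,-2,-2,0,0,0],
  [0,0,-2,0,0,0,2,-2,2,0,0,0,4,0,0,4,-2,-2,0,2,2,0,0,0],
  [2,-2,0,-2,-2,-2,0,0,0,2,2,-2,2,2,-2,-2,0,0,2,0,0,-2,2,2],
  [2,-2,0,-2,2,2,0,0,0,-2,-2,2,2,-2,2,-2,0,0,-2,0,0,-2,2,2],
  [0,0,2,0,0,0,-2,-2,-2,0,0,0,0,0,4,0,2,-2,4,2,2,0,0,0],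
  [-2,-2,0,-2,2,2,0,0,0,-2,-2,-2,-2,2,-2,2,0,0,2,0,0,2,2,2],
  [2,-2,0,2,-2,2,0,0,0,-2,2,2,-2,-2,-2,2,0,0,2,0,0,-2,-2,2],
  [4,0,2,0,0,0,2,2,-2,0,0,0,0,0,0,0,-2,-2,0,2,-2,4,0,0],
  [0,0,-2,4,0,0,2,-2,-2,0,0,0,0,0,0,0,2,2,0,2,-2,0,4,0],
  [0,4,2,0,0,0,2,2,2,0,0,0,0,0,0,0,2,2,0,2,2,0,0,4]]

/-- The maps of the letters. -/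
def offM : List (List (List ℤ)) := [offM0, offM1, offM2, offM3, offM4, offM5, offM6, offM7, offM8, offM9]

/-- Some representatives. -/
def offP0 : List (List ℤ) := [
  [0,4,0,0,0,0,0,0,0,0,0,0,0,0,0,0,0,0,0,0,0,0,0,4],
  [1,-1,1,-1,1,1,-1,1,1,1,1,1,1,1,1,1,-1,-1,1,-1,1,1,-1,3],
  [2,0,0,2,0,0,0,0,0,0,0,0,0,2,2,0,2,0,0,2,0,2,0,2],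
  [1,-1,-1,1,1,1,1,1,-1,1,1,1,1,-1,-1,-1,1,1,1,1,1,-1,1,3],
  [2,0,2,0,0,0,2,0,2,0,0,0,0,0,0,2,0,2,0,0,0,0,2,2],
  [1,-1,1,-1,1,1,1,-1,1,1,-1,1,1,1,-1,-1,1,1,1,-1,1,1,1,3],
  [1,-1,1,-1,1,-1,1,1,1,1,1,1,1,-1,1,-1,-1,1,1,1,-1,1,1,3],
  [1,-1,1,1,-1,-1,-1,1,1,1,1,1,1,-1,-1,1,1,1,1,-1,1,1,1,3],
  [1,-1,1,-1,1,1,-1,1,1,-1,1,1,1,1,-1,1,1,1,1,1,-1,-1,1,3],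
  [1,-1,1,1,-1,1,1,1,1,-1,1,1,1,1,1,-1,-1,1,1,-1,1,-1,1,3],
  [1,-1,-1,-1,1,1,1,1,1,-1,1,1,-1,-1,1,1,1,1,1,-1,1,1,1,3],
  [1,-1,1,-1,1,-1,1,1,-1,1,1,1,1,1,1,1,1,1,-1,-1,1,-1,1,3],
  [2,0,0,0,2,0,0,0,2,0,2,0,2,0,0,0,0,0,0,0,2,0,2,2],
  [2,0,2,0,2,0,0,2,0,0,0,0,0,0,0,0,0,2,2,0,2,0,0,2],
  [2,0,0,0,0,0,2,2,0,0,2,0,2,0,0,2,0,0,2,0,0,0,0,2],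
  [2,0,0,0,0,2,0,0,0,0,0,2,2,0,0,2,0,2,0,0,2,0,0,2],
  [1,-1,-1,-1,1,1,1,1,1,1,-1,-1,1,1,1,1,-1,1,1,1,1,-1,1,3],
  [1,-1,1,1,1,1,1,-1,-1,1,1,-1,1,-1,1,1,-1,1,1,-1,1,1,1,3],
  [2,0,0,0,2,0,0,0,0,2,0,2,0,0,0,2,0,0,2,0,0,0,2,2],
  [2,0,2,0,0,2,0,2,0,2,0,0,2,0,0,0,0,0,0,0,0,0,2,2],
  [2,0,0,0,0,2,0,0,2,2,2,0,0,0,0,0,0,2,2,0,0,0,0,2],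
  [1,-1,1,1,1,1,1,1,1,1,-1,1,1,-1,1,1,1,1,1,-1,-1,-1,-1,3],
  [1,-1,1,-1,-1,1,1,-1,1,1,1,1,1,-1,1,1,1,-1,1,1,1,-1,1,3],
  [1,-1,1,1,1,1,-1,1,1,1,1,1,-1,-1,1,1,-1,1,-1,1,1,-1,1,3],
  [1,-1,1,1,1,1,1,1,1,1,1,-1,-1,1,-1,1,1,-1,1,-1,1,-1,1,3],
  [2,0,2,0,2,2,2,0,0,0,2,2,0,0,0,0,0,0,0,0,0,0,0,2],
  [2,0,0,0,0,0,2,2,2,2,0,2,0,0,0,0,0,0,0,0,2,0,0,2],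
  [1,-1,1,-1,1,1,1,1,1,1,1,-1,1,-1,-1,1,1,1,-1,1,1,1,-1,3],
  [1,-1,1,1,1,-1,1,-1,1,1,1,1,1,1,-1,1,-1,1,1,1,1,-1,-1,3],
  [1,-1,1,1,1,1,1,1,1,-1,-1,1,1,-1,-1,1,-1,-1,1,1,1,1,1,3],
  [1,-1,1,-1,-1,1,1,1,-1,1,1,1,-1,1,-1,1,-1,1,1,1,1,1,1,3],
  [1,-1,-1,1,1,1,1,1,1,1,1,1,1,1,-1,1,-1,1,-1,-1,-1,1,1,3],
  [2,0,0,2,0,2,2,0,0,2,0,0,0,0,0,2,0,0,0,2,0,0,0,2],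
  [2,0,0,0,0,0,0,0,0,0,0,0,2,0,2,0,2,2,2,0,0,0,2,2],
  [1,-1,1,1,1,-1,1,1,1,-1,1,1,-1,1,-1,-1,1,1,-1,1,1,1,1,3],
  [2,0,0,0,0,0,2,0,0,0,2,0,0,0,2,0,0,2,0,2,2,0,0,2],
  [2,0,0,0,0,0,0,2,0,0,0,0,0,0,0,2,2,0,0,2,2,0,2,2],
  [2,0,0,2,2,0,0,0,0,0,2,0,0,0,0,2,2,2,0,0,0,0,0,2],
  [2,0,0,2,2,0,2,2,0,0,0,0,0,0,2,0,0,0,0,0,0,0,2,2],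
  [1,-1,1,1,1,-1,1,1,-1,1,-1,-1,1,1,-1,1,1,1,1,1,-1,1,1,3],
  [2,0,0,2,0,0,2,0,0,0,0,2,0,0,0,0,0,2,2,0,0,2,0,2],
  [2,0,0,0,0,0,2,0,0,0,0,2,2,2,0,0,0,0,0,2,0,0,2,2],
  [1,-1,-1,1,-1,1,1,-1,1,-1,1,-1,1,1,-1,1,1,1,1,1,1,1,1,3],
  [2,0,0,2,0,2,0,0,2,0,0,2,0,0,0,0,2,0,0,0,0,0,2,2],
  [1,-1,1,1,1,1,1,-1,1,1,1,-1,1,1,1,-1,1,1,-1,1,-1,-1,1,3],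
  [1,-1,1,1,-1,1,1,1,1,1,-1,-1,-1,-1,1,-1,1,1,1,1,1,1,1,3],
  [2,0,2,0,0,0,0,0,0,2,0,2,0,0,0,0,2,2,0,2,0,0,0,2],
  [1,-1,-1,1,-1,-1,1,1,1,1,1,1,-1,1,1,1,1,1,1,1,-1,-1,1,3],
  [1,-1,1,1,-1,1,1,1,-1,-1,1,1,1,-1,1,1,1,1,-1,1,-1,1,1,3],
  [2,0,2,2,0,0,0,0,0,0,2,0,0,0,0,0,0,0,2,2,0,0,2,2],
  [2,0,0,2,0,0,0,2,2,0,0,0,2,0,0,0,0,2,0,2,0,0,0,2],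
  [2,0,2,2,0,0,2,0,0,0,0,0,2,0,0,0,2,0,0,0,2,0,0,2],
  [2,0,0,0,2,0,2,0,2,0,0,0,0,0,0,0,2,0,2,2,0,0,0,2],
  [2,0,0,0,0,2,2,2,0,0,0,0,0,2,0,0,2,2,0,0,0,0,0,2],
  [2,0,0,0,0,0,2,0,0,2,2,0,0,0,0,0,2,0,0,0,0,2,2,2],
  [2,0,0,0,2,2,0,0,0,0,0,0,0,0,0,0,0,2,0,2,0,2,2,2],
  [2,0,0,2,0,0,0,0,0,2,0,0,0,2,0,0,0,2,0,0,2,0,2,2],
  [1,-1,-1,1,1,-1,1,-1,1,1,-1,1,1,-1,1,1,1,1,-1,1,1,1,1,3],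
  [1,-1,1,1,1,1,1,-1,-1,-1,-1,1,-1,1,1,1,1,1,1,1,1,-1,1,3],
  [1,-1,-1,1,1,-1,-1,1,-1,-1,1,1,1,1,1,1,-1,1,1,1,1,1,1,3],
  [2,0,0,0,0,0,0,0,0,0,2,2,0,2,0,0,2,0,2,0,2,0,0,2],
  [1,-1,1,-1,1,1,1,1,-1,-1,1,-1,1,1,1,-1,1,-1,1,1,1,1,1,3],
  [1,-1,-1,1,1,-1,1,1,1,1,1,-1,1,1,1,-1,1,1,1,-1,1,1,-1,3],
  [2,0,0,0,2,0,0,2,0,0,0,2,2,0,0,0,2,0,0,0,0,2,0,2],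
  [1,-1,1,1,1,-1,-1,1,1,1,-1,1,1,1,1,-1,1,-1,1,1,1,-1,1,3],
  [1,-1,1,1,1,1,-1,-1,1,-1,1,1,1,-1,1,-1,1,1,1,1,1,1,-1,3],
  [1,-1,1,1,1,1,-1,1,-1,1,1,1,-1,1,1,-1,1,1,1,-1,-1,1,1,3],
  [1,-1,-1,-1,-1,1,-1,1,1,1,1,1,1,1,1,-1,1,1,-1,1,1,1,1,3],
  [1,-1,-1,1,1,1,-1,1,1,1,1,-1,1,-1,1,1,1,-1,1,1,-1,1,1,3]]

/-- Some representatives. -/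
def offP1 : List (List ℤ) := [
  [2,0,0,2,0,0,0,0,0,2,2,2,2,0,2,0,0,0,0,0,0,0,0,2],
  [2,0,0,0,0,2,0,2,0,0,0,2,0,0,2,0,0,0,2,2,0,0,0,2],
  [1,-1,1,1,-1,1,-1,1,-1,1,1,-1,1,1,1,1,1,1,1,1,1,-1,-1,3],
  [1,-1,-1,-1,1,1,1,-1,-1,1,1,1,1,1,1,1,1,1,1,1,-1,1,-1,3],
  [1,-1,-1,1,-1,1,1,1,-1,1,-1,1,1,1,1,1,1,-1,1,-1,1,1,1,3],
  [2,0,0,0,0,0,0,0,0,2,0,0,2,0,0,0,0,0,2,2,2,2,0,2],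
  [2,0,0,2,2,2,0,0,0,0,0,0,2,2,0,0,0,0,2,0,0,0,0,2],
  [2,0,0,0,2,2,0,0,0,2,0,0,0,0,2,0,2,0,0,0,2,0,0,2],
  [2,0,0,2,0,2,0,2,0,0,2,0,0,0,0,0,0,0,0,0,2,2,0,2],
  [2,0,0,0,2,0,0,2,0,2,2,0,0,2,0,0,0,0,0,2,0,0,0,2],
  [1,-1,-1,1,1,1,1,1,1,-1,1,1,1,1,1,1,1,-1,-1,1,1,-1,-1,3],
  [1,-1,1,1,1,-1,1,1,-1,1,1,1,-1,-1,1,1,1,-1,1,1,1,1,-1,3],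
  [1,-1,1,1,-1,1,1,1,1,1,1,1,1,1,-1,-1,1,-1,1,1,-1,1,-1,3],
  [1,-1,1,1,1,1,1,1,-1,1,-1,1,1,1,1,-1,-1,1,-1,1,1,1,-1,3],
  [1,-1,-1,1,1,1,-1,1,1,1,-1,1,-1,1,-1,1,1,1,1,1,1,1,-1,3],
  [1,-1,1,1,1,1,-1,-1,-1,1,1,1,1,1,-1,1,1,-1,-1,1,1,1,1,3],
  [1,-1,-1,1,1,1,1,-1,1,1,1,1,-1,1,1,-1,-1,-1,1,1,1,1,1,3],
  [2,0,2,0,0,0,0,2,2,0,2,0,0,0,2,0,2,0,0,0,0,0,0,2],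
  [2,0,0,0,0,0,0,2,2,0,0,0,0,2,0,0,0,0,2,0,0,2,2,2],
  [2,0,2,0,0,0,0,0,0,0,2,0,2,2,0,0,0,2,0,0,0,2,0,2],
  [1,-1,1,1,1,-1,1,-1,1,-1,1,1,1,1,1,1,1,-1,1,-1,-1,1,1,3],
  [1,-1,1,-1,-1,-1,1,1,1,-1,-1,1,1,1,1,1,1,1,1,1,1,1,-1,3],
  [1,-1,1,-1,1,-1,-1,-1,1,1,1,-1,-1,1,1,1,1,1,1,1,1,1,1,3],
  [2,0,2,0,0,0,0,0,0,0,0,2,0,0,2,0,0,0,0,0,2,2,2,2],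
  [2,0,0,0,2,0,0,0,2,0,0,2,0,2,2,0,0,2,0,0,0,0,0,2],
  [1,-1,1,1,1,1,-1,1,1,-1,-1,-1,1,1,1,1,1,1,-1,-1,1,1,1,3],
  [2,0,2,2,0,0,0,2,0,0,0,2,0,2,0,2,0,0,0,0,0,0,0,2],
  [1,-1,1,1,1,1,1,1,1,-1,1,-1,-1,1,1,1,-1,1,1,1,-1,1,-1,3],
  [1,-1,1,1,-1,-1,1,1,1,1,1,-1,1,1,1,1,-1,-1,-1,1,1,1,1,3],
  [2,0,0,0,0,0,0,0,2,0,2,2,0,0,0,2,0,0,0,2,0,2,0,2],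
  [2,0,0,0,2,0,2,0,0,0,0,0,0,2,0,2,0,0,0,0,2,2,0,2],
  [1,-1,1,1,-1,1,1,-1,1,1,1,1,-1,1,1,1,1,1,-1,-1,1,1,-1,3],
  [1,-1,1,-1,1,1,1,1,1,1,-1,1,-1,1,1,1,1,-1,-1,1,-1,1,1,3],
  [2,0,2,0,0,2,0,0,2,0,0,0,0,2,0,0,0,0,0,2,2,0,0,2],
  [2,0,2,2,2,0,0,0,2,2,0,0,0,0,0,0,0,0,0,0,0,2,0,2],
  [2,0,2,0,2,0,0,0,0,0,0,0,2,0,2,2,0,0,0,2,0,0,0,2],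
  [2,0,0,2,0,0,0,0,2,0,0,0,0,0,2,2,0,0,2,0,2,0,0,2],
  [2,0,0,0,0,0,0,2,0,2,0,0,0,0,2,2,0,2,0,0,0,2,0,2],
  [2,0,0,0,0,2,0,0,0,0,2,0,0,2,2,2,0,0,0,0,0,0,2,2],
  [2,0,0,0,0,2,2,0,2,0,0,0,2,0,2,0,0,0,0,0,0,2,0,2],
  [2,0,0,0,0,0,0,0,2,2,0,0,2,2,0,2,2,0,0,0,0,0,0,2],
  [2,0,2,0,0,2,0,0,0,0,0,0,0,0,0,2,2,0,2,0,0,2,0,2],
  [2,0,2,0,0,0,2,0,0,2,0,0,0,2,2,0,0,0,2,0,0,0,0,2],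
  [1,-1,1,1,-1,1,-1,-1,1,1,-1,1,1,1,1,1,-1,1,1,1,-1,1,1,3],
  [1,1,-1,1,-1,1,1,1,1,1,1,-1,1,-1,1,1,1,1,-1,-1,1,-1,1,3],
  [0,0,0,0,0,0,0,0,0,0,0,0,0,0,0,0,0,0,0,0,0,0,4,4],
  [1,1,1,1,-1,1,-1,1,1,1,1,-1,-1,1,-1,1,1,1,-1,1,-1,1,1,3],
  [1,1,1,1,1,1,1,1,-1,-1,1,-1,1,1,-1,1,-1,1,-1,1,1,-1,1,3],
  [1,1,-1,1,-1,1,1,1,-1,1,1,-1,1,1,1,-1,-1,1,1,1,-1,1,1,3],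
  [0,0,0,0,0,0,0,0,0,0,0,0,0,0,0,0,0,4,0,0,0,0,0,4],
  [1,1,1,1,1,1,1,1,1,-1,1,-1,1,-1,-1,-1,1,1,1,-1,-1,1,1,3],
  [2,2,0,0,0,0,0,2,0,0,2,2,0,0,0,0,0,2,0,0,0,0,2,2],
  [1,1,1,-1,1,1,1,1,-1,1,1,-1,-1,-1,1,1,1,1,1,1,-1,-1,1,3],
  [1,1,-1,1,1,-1,1,1,1,1,1,-1,-1,-1,-1,1,-1,1,1,1,1,1,1,3],
  [1,1,-1,-1,1,1,-1,1,-1,1,1,-1,1,1,-1,1,1,1,1,-1,1,1,1,3],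
  [1,1,1,1,1,-1,-1,1,-1,1,1,-1,1,-1,1,-1,1,1,-1,1,1,1,1,3],
  [1,1,1,1,1,-1,-1,1,1,1,1,-1,1,1,1,1,-1,1,1,-1,-1,-1,1,3],
  [1,1,-1,-1,1,-1,1,1,1,-1,1,-1,1,1,1,1,1,1,-1,1,-1,1,1,3],
  [0,0,0,0,0,0,0,4,0,0,0,0,0,0,0,0,0,0,0,0,0,0,0,4],
  [1,1,1,-1,1,1,1,1,1,1,1,-1,-1,1,1,-1,-1,1,-1,-1,1,1,1,3],
  [0,0,0,0,0,0,0,0,0,0,4,0,0,0,0,0,0,0,0,0,0,0,0,4],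
  [1,1,1,-1,-1,-1,1,1,1,1,1,-1,1,1,-1,-1,1,1,1,1,1,-1,1,3],
  [1,1,1,1,-1,-1,1,1,-1,-1,1,-1,-1,1,1,1,1,1,1,-1,1,1,1,3],
  [1,1,-1,1,1,1,-1,1,1,-1,1,-1,-1,1,1,-1,1,1,1,1,1,-1,1,3],
  [1,1,1,-1,-1,1,-1,1,1,-1,1,-1,1,-1,1,1,-1,1,1,1,1,1,1,3],
  [1,1,1,-1,1,-1,1,-1,1,1,1,1,1,1,1,-1,1,-1,-1,1,1,1,-1,3],
  [1,1,-1,-1,1,1,-1,-1,1,-1,-1,1,1,1,1,1,1,-1,1,1,1,1,1,3],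
  [1,1,1,1,-1,1,-1,1,1,1,-1,1,1,-1,1,1,1,-1,-1,1,1,1,-1,3],
  [1,1,1,1,1,1,1,-1,1,1,-1,1,1,1,1,1,-1,-1,-1,-1,1,-1,1,3]]

/-- Some representatives. -/
def offP2 : List (List ℤ) := [
  [1,1,1,1,-1,1,1,-1,-1,-1,1,1,1,1,1,1,-1,-1,1,1,1,1,-1,3],
  [1,1,1,1,1,-1,-1,-1,-1,1,-1,1,1,1,1,1,1,1,1,-1,1,1,-1,3],
  [1,1,-1,1,-1,1,1,-1,1,1,-1,1,1,1,1,-1,1,1,1,1,1,-1,-1,3],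
  [1,1,1,1,1,1,1,1,1,-1,-1,1,-1,1,1,-1,1,-1,1,-1,1,1,-1,3],
  [1,1,1,1,1,1,1,-1,1,-1,-1,1,1,1,-1,1,1,1,-1,1,-1,1,-1,3],
  [2,2,0,0,0,2,0,0,0,2,0,2,0,2,0,0,0,0,0,0,0,2,0,2],
  [0,0,0,0,0,0,0,0,0,0,0,4,0,0,0,0,0,0,0,0,0,0,0,4],
  [2,2,2,0,0,0,0,0,2,0,0,2,2,0,0,0,0,0,2,0,0,0,0,2],
  [1,1,1,1,1,1,-1,-1,1,1,1,1,-1,1,1,1,1,-1,1,1,-1,-1,-1,3],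
  [1,1,1,-1,1,1,1,1,-1,1,-1,1,1,1,-1,1,1,-1,1,1,1,-1,-1,3],
  [1,1,1,1,1,1,1,-1,-1,1,-1,1,1,-1,1,-1,1,-1,1,1,-1,1,1,3],
  [2,2,0,0,0,0,2,0,0,0,0,2,0,0,2,2,2,0,0,0,0,0,0,2],
  [1,1,1,1,-1,-1,1,-1,1,1,-1,1,-1,1,-1,1,1,-1,1,1,1,1,1,3],
  [1,1,-1,1,1,-1,1,1,1,1,-1,1,1,1,1,1,-1,-1,1,1,-1,1,-1,3],
  [1,1,-1,1,1,1,1,-1,1,1,1,1,1,-1,-1,1,1,-1,1,-1,1,1,-1,3],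
  [2,2,0,2,2,0,0,0,0,0,0,2,0,0,0,0,0,0,0,2,2,0,0,2],
  [1,1,1,-1,1,1,1,-1,1,1,-1,1,-1,-1,1,1,-1,1,1,1,1,1,-1,3],
  [1,1,1,1,1,1,1,1,1,1,-1,1,-1,1,-1,-1,-1,1,1,1,-1,-1,1,3],
  [1,1,1,1,1,1,-1,1,-1,1,1,1,1,-1,-1,1,-1,1,1,1,-1,1,-1,3],
  [1,1,-1,1,1,1,1,-1,1,-1,1,1,1,-1,1,1,-1,1,1,1,-1,-1,1,3],
  [2,2,0,0,2,0,2,0,0,2,0,0,2,0,0,0,0,2,0,0,0,0,0,2],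
  [1,1,-1,-1,-1,1,1,1,1,1,-1,1,1,-1,-1,1,1,1,1,1,-1,1,1,3],
  [1,1,-1,1,1,1,1,1,1,1,1,1,-1,-1,1,-1,1,1,-1,1,-1,1,-1,3],
  [1,1,1,1,1,1,1,1,-1,1,-1,1,-1,-1,-1,1,1,1,-1,-1,1,1,1,3],
  [1,1,1,1,-1,1,1,1,1,-1,1,1,-1,-1,-1,1,1,1,1,1,1,-1,-1,3],
  [1,1,1,-1,1,-1,1,-1,-1,-1,1,1,1,-1,-1,1,1,1,1,1,1,1,1,3],
  [1,1,1,1,1,-1,-1,1,1,-1,-1,1,-1,-1,1,1,1,1,1,1,-1,1,1,3],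
  [1,1,1,-1,1,-1,1,1,1,1,1,1,-1,1,-1,1,1,1,1,-1,-1,1,-1,3],
  [1,1,1,1,1,-1,1,-1,1,1,1,1,-1,-1,1,-1,1,1,1,-1,1,-1,1,3],
  [1,1,-1,1,1,1,1,1,-1,-1,1,1,-1,1,-1,1,1,-1,1,1,-1,1,1,3],
  [2,2,2,0,0,0,2,2,0,0,0,0,0,0,0,0,0,0,0,2,0,2,0,2],
  [2,2,0,0,0,2,2,0,0,0,0,0,0,0,0,0,0,0,2,0,2,0,2,2],
  [1,1,1,1,-1,1,1,1,1,1,1,1,-1,-1,1,1,-1,-1,1,-1,-1,1,1,3],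
  [2,2,0,2,0,0,0,2,0,2,0,0,0,0,0,0,2,0,2,0,0,0,0,2],
  [2,2,0,0,2,0,0,0,0,0,2,0,0,0,2,0,0,0,2,0,0,2,0,2],
  [1,1,1,1,1,-1,1,1,1,1,1,1,1,-1,-1,1,1,-1,-1,1,-1,-1,1,3],
  [2,2,0,0,2,2,0,2,2,0,0,0,0,0,0,2,0,0,0,0,0,0,0,2],
  [1,1,1,-1,1,1,-1,1,1,1,1,1,-1,-1,-1,-1,1,-1,1,1,1,1,1,3],
  [1,1,1,1,1,-1,1,-1,-1,1,1,1,-1,1,1,1,-1,1,-1,1,-1,1,1,3],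
  [2,2,0,0,0,0,0,0,0,0,0,0,0,2,0,2,0,2,2,2,0,0,0,2],
  [1,1,1,1,-1,-1,1,1,-1,1,-1,1,1,-1,1,1,-1,1,1,1,1,-1,1,3],
  [1,1,-1,1,1,1,1,1,-1,1,1,1,-1,1,1,1,-1,1,1,-1,1,-1,-1,3],
  [1,1,-1,1,-1,1,-1,-1,-1,1,1,1,-1,-1,1,1,1,1,1,1,1,1,1,3],
  [1,1,-1,-1,1,-1,1,1,-1,1,-1,1,-1,1,1,-1,1,1,1,1,1,1,1,3],
  [1,1,-1,-1,1,1,1,-1,1,1,1,1,-1,1,-1,1,1,1,-1,1,1,-1,1,3],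
  [1,1,-1,-1,1,-1,-1,1,1,1,1,1,1,-1,1,1,1,1,1,1,1,-1,-1,3],
  [1,1,-1,-1,1,1,1,1,-1,1,1,1,1,-1,1,1,-1,-1,-1,1,1,1,1,3],
  [2,2,0,0,0,0,0,0,2,2,0,0,0,0,2,0,0,0,0,2,0,0,2,2],
  [2,2,2,0,0,0,0,0,0,2,2,0,0,0,0,2,0,0,0,0,2,0,0,2],
  [1,1,1,-1,1,-1,1,1,1,-1,1,1,-1,1,1,1,-1,-1,1,1,1,-1,1,3],
  [1,1,1,1,1,1,1,-1,-1,1,1,-1,-1,1,-1,-1,1,1,1,1,1,1,-1,3],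
  [0,0,0,0,0,0,4,0,0,0,0,0,0,0,0,0,0,0,0,0,0,0,0,4],
  [1,1,-1,1,1,1,1,1,-1,-1,-1,-1,1,-1,1,1,1,1,1,1,1,1,-1,3],
  [1,1,-1,1,1,1,1,-1,1,1,-1,-1,-1,1,1,1,1,1,1,-1,-1,1,1,3],
  [1,1,1,1,-1,-1,1,-1,1,1,1,-1,1,-1,1,1,1,1,1,1,-1,1,-1,3],
  [0,0,0,0,0,0,0,0,0,0,0,0,0,0,0,0,0,0,4,0,0,0,0,4],
  [1,1,1,1,1,1,-1,-1,1,1,-1,-1,1,-1,-1,1,1,1,1,1,1,-1,1,3],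
  [0,0,0,0,4,0,0,0,0,0,0,0,0,0,0,0,0,0,0,0,0,0,0,4],
  [1,1,1,-1,1,1,1,-1,1,1,1,-1,1,1,-1,1,-1,-1,1,1,-1,1,1,3],
  [1,1,1,1,1,1,1,1,1,1,1,-1,1,-1,1,-1,-1,-1,1,1,1,-1,-1,3],
  [1,1,1,1,1,1,1,-1,1,-1,1,-1,-1,-1,1,1,1,-1,-1,1,1,1,1,3],
  [1,1,1,-1,1,-1,1,1,1,1,-1,-1,1,-1,1,1,1,-1,1,-1,1,1,1,3],
  [0,0,0,0,0,0,0,0,0,0,0,0,0,0,0,0,0,0,0,4,0,0,0,4],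
  [0,0,0,0,0,0,0,0,0,4,0,0,0,0,0,0,0,0,0,0,0,0,0,4],
  [0,0,0,0,0,0,0,0,0,0,0,0,0,0,0,4,0,0,0,0,0,0,0,4],
  [1,1,1,1,1,-1,1,1,1,1,-1,-1,-1,1,1,1,1,1,-1,1,1,-1,-1,3],
  [1,1,1,1,1,1,-1,1,-1,1,-1,-1,-1,1,1,1,-1,-1,1,1,1,1,1,3],
  [1,1,-1,1,1,-1,1,-1,-1,1,1,-1,1,1,1,1,1,-1,1,1,1,-1,1,3],
  [1,1,-1,-1,-1,1,1,1,1,1,1,-1,-1,1,1,1,1,-1,1,1,1,1,-1,3]]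

/-- Some representatives. -/
def offP3 : List (List ℤ) := [
  [1,1,1,1,-1,1,1,-1,1,1,1,1,1,-1,-1,-1,-1,1,-1,1,1,1,1,3],
  [1,1,-1,-1,1,1,1,1,1,-1,1,1,1,1,-1,-1,-1,1,1,1,1,1,-1,3],
  [1,1,-1,1,1,-1,-1,-1,1,1,1,1,1,1,-1,-1,1,1,1,1,-1,1,1,3],
  [1,1,-1,1,1,1,-1,1,1,1,-1,1,1,-1,1,-1,-1,1,1,-1,1,1,1,3],
  [1,1,1,1,1,1,-1,-1,1,-1,1,1,-1,1,-1,1,-1,1,1,-1,1,1,1,3],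
  [1,1,-1,1,1,-1,1,1,1,-1,-1,1,1,1,-1,1,1,1,1,-1,1,-1,1,3],
  [1,1,1,1,1,-1,1,1,1,-1,1,1,1,-1,1,1,-1,1,-1,-1,1,1,-1,3],
  [2,2,0,0,0,0,0,0,2,0,0,0,0,0,0,0,2,2,0,0,2,2,0,2],
  [2,2,0,2,0,0,0,0,0,0,0,0,2,0,0,2,0,0,0,0,0,2,2,2],
  [2,2,0,2,0,0,2,0,2,0,2,0,0,2,0,0,0,0,0,0,0,0,0,2],
  [1,1,1,1,1,-1,1,1,-1,1,1,1,1,1,-1,-1,-1,-1,1,-1,1,1,1,3],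
  [1,1,-1,1,-1,-1,1,1,1,-1,1,1,1,-1,1,-1,1,-1,1,1,1,1,1,3],
  [1,1,-1,1,-1,1,1,1,1,-1,-1,1,-1,1,1,1,-1,1,-1,1,1,1,1,3],
  [1,1,-1,1,-1,-1,1,1,-1,1,1,1,1,1,-1,1,1,1,-1,1,1,1,-1,3],
  [1,1,1,1,-1,-1,-1,1,1,1,1,1,-1,1,1,-1,-1,1,1,1,1,1,-1,3],
  [1,1,-1,-1,-1,-1,1,-1,1,1,1,1,1,1,1,1,-1,1,1,-1,1,1,1,3],
  [1,1,1,-1,1,-1,-1,1,1,1,-1,1,1,1,-1,1,-1,1,-1,1,1,1,1,3],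
  [1,1,-1,1,-1,1,-1,1,1,1,1,1,1,1,-1,1,-1,-1,1,1,1,-1,1,3],
  [1,1,-1,1,1,-1,-1,1,1,1,1,1,-1,1,1,1,1,-1,-1,-1,1,1,1,3],
  [0,0,0,4,0,0,0,0,0,0,0,0,0,0,0,0,0,0,0,0,0,0,0,4],
  [1,1,1,1,-1,1,1,1,1,1,-1,-1,1,1,-1,1,-1,1,1,-1,1,1,-1,3],
  [1,1,1,1,1,-1,1,-1,1,-1,-1,-1,1,1,1,-1,-1,1,1,1,1,1,1,3],
  [0,0,0,0,0,0,0,0,0,0,0,0,0,0,0,0,0,0,0,0,0,4,0,4],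
  [0,0,0,0,0,0,0,0,4,0,0,0,0,0,0,0,0,0,0,0,0,0,0,4],
  [1,1,-1,1,1,1,1,1,1,1,-1,-1,1,1,-1,-1,1,-1,-1,1,1,1,1,3],
  [1,1,1,1,1,-1,-1,1,1,-1,1,-1,1,1,-1,1,1,-1,1,1,1,1,-1,3],
  [1,1,-1,1,1,1,-1,-1,1,1,1,-1,1,1,1,1,-1,1,-1,1,1,1,-1,3],
  [0,0,0,0,0,0,0,0,0,0,0,0,0,0,0,0,0,0,0,0,4,0,0,4],
  [1,1,1,1,-1,1,1,-1,-1,1,1,1,1,1,-1,1,1,1,1,-1,-1,-1,1,3],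
  [2,2,2,2,0,2,0,0,0,0,0,0,0,0,2,0,0,2,0,0,0,0,0,2],
  [1,1,1,-1,1,1,1,1,-1,-1,-1,1,1,1,1,1,-1,1,1,-1,-1,1,1,3],
  [1,1,1,1,1,-1,1,1,-1,-1,1,1,1,1,1,-1,1,1,1,1,-1,-1,-1,3],
  [1,1,1,-1,-1,1,1,-1,1,-1,1,1,-1,1,1,-1,1,1,1,1,-1,1,1,3],
  [1,1,1,-1,-1,1,1,1,-1,1,1,1,1,-1,1,-1,1,1,1,-1,1,1,-1,3],
  [1,1,1,-1,1,1,1,1,1,-1,-1,1,1,-1,1,-1,1,1,-1,1,1,-1,1,3],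
  [1,1,1,-1,1,1,-1,-1,1,1,1,1,1,-1,1,1,1,1,-1,-1,-1,1,1,3],
  [2,2,0,0,0,2,0,0,0,0,2,0,2,0,0,0,2,0,0,2,0,0,0,2],
  [1,1,-1,-1,1,1,1,1,1,1,1,1,1,1,1,-1,1,-1,1,-1,-1,-1,1,3],
  [2,2,2,0,2,0,0,0,0,0,0,0,0,2,0,0,2,0,0,0,0,0,2,2],
  [1,1,1,1,1,1,-1,1,-1,-1,1,1,1,-1,1,1,1,-1,1,-1,1,-1,1,3],
  [1,1,-1,1,1,1,-1,1,-1,1,-1,1,1,1,1,1,1,1,-1,1,-1,-1,1,3],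
  [1,1,1,-1,-1,1,1,1,1,1,1,1,1,1,1,1,-1,1,-1,1,-1,-1,-1,3],
  [1,1,1,-1,1,1,-1,-1,-1,1,1,1,1,1,1,-1,-1,1,1,1,1,-1,1,3],
  [1,1,1,-1,1,1,-1,1,-1,-1,1,1,-1,1,1,1,1,1,-1,1,1,1,-1,3],
  [1,1,1,-1,-1,1,-1,1,1,1,-1,1,-1,1,1,1,1,1,1,-1,1,-1,1,3],
  [1,1,1,1,-1,1,1,1,-1,1,1,1,-1,1,1,-1,1,-1,-1,1,1,-1,1,3],
  [1,1,1,-1,-1,-1,-1,1,-1,1,1,1,1,1,1,1,1,-1,1,1,-1,1,1,3],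
  [0,0,0,0,0,4,0,0,0,0,0,0,0,0,0,0,0,0,0,0,0,0,0,4],
  [1,1,1,-1,1,1,-1,1,1,1,-1,-1,1,1,1,-1,1,1,1,1,-1,1,-1,3],
  [0,0,4,0,0,0,0,0,0,0,0,0,0,0,0,0,0,0,0,0,0,0,0,4],
  [1,1,1,-1,1,1,1,-1,1,-1,1,-1,1,1,1,1,1,1,1,-1,1,-1,-1,3],
  [0,0,0,0,0,0,0,0,0,0,0,0,0,0,0,0,4,0,0,0,0,0,0,4],
  [1,1,1,1,-1,1,1,1,1,-1,-1,-1,1,1,1,1,1,-1,1,1,-1,-1,1,3],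
  [1,1,1,1,1,1,1,1,-1,1,1,-1,1,1,1,1,1,-1,-1,-1,-1,1,-1,3],
  [1,1,1,-1,-1,1,1,-1,-1,1,-1,-1,1,1,1,1,1,1,-1,1,1,1,1,3],
  [0,0,0,0,0,0,0,0,0,0,0,0,0,0,4,0,0,0,0,0,0,0,0,4],
  [1,1,1,1,-1,1,-1,1,-1,-1,-1,1,1,1,-1,-1,1,1,1,1,1,1,1,3],
  [1,1,-1,1,1,1,1,-1,-1,-1,1,1,1,1,1,-1,1,1,-1,-1,1,1,1,3],
  [1,1,1,1,-1,-1,1,1,1,1,-1,1,1,1,1,-1,1,1,-1,-1,-1,1,1,3],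
  [1,1,-1,1,-1,1,-1,1,1,-1,1,1,1,1,1,1,1,1,1,-1,-1,1,-1,3],
  [1,1,1,1,1,1,-1,1,1,1,1,1,1,1,-1,-1,1,1,-1,-1,1,-1,-1,3],
  [1,1,1,1,1,1,-1,1,1,-1,1,1,1,1,1,-1,-1,-1,-1,1,-1,1,1,3],
  [1,1,1,-1,-1,1,1,1,1,-1,1,1,1,1,-1,1,1,-1,-1,-1,1,1,1,3],
  [1,1,1,1,-1,-1,-1,-1,1,-1,1,1,1,1,1,1,1,1,-1,1,1,-1,1,3],
  [2,2,0,0,0,0,0,2,0,0,0,0,2,2,2,0,0,0,0,0,2,0,0,2],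
  [0,0,0,0,0,0,0,0,0,0,0,0,4,0,0,0,0,0,0,0,0,0,0,4],
  [1,1,1,1,-1,1,-1,-1,1,1,1,-1,1,1,1,-1,1,-1,1,-1,1,1,1,3],
  [0,0,0,0,0,0,0,0,0,0,0,0,0,4,0,0,0,0,0,0,0,0,0,4],
  [4,0,0,0,0,0,0,0,0,0,0,0,0,0,0,0,0,0,0,0,0,0,0,4]]

/-- The representatives of the pairs. -/
def offP : List (List ℤ) := offP0 ++ offP1 ++ offP2 ++ offP3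

end CfsgLib.Recog.Co3Inv
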