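import Cfsg.Agent.Lib.Recog.Co3Inv.Spec
import Cfsg.Agent.Lib.Recog.Co3Inv.OfficialData
import Cfsg.Agent.Lib.Golay.Co3Out
import Cfsg.Agent.Lib.Golay.MatrixFast

/-!
Kernel checks for the identification of the model on 276 points with the stabilizer of a vector in the
automorphism group of the lattice.
-/

set_option autoImplicit false
set_option maxRecDepth 100000
set_option Elab.async false

namespace CfsgLib.Recog.Co3Inv

open Cfsg CfsgLib.Golay CfsgLib.Golay.Co3Out

/-- The transpose of a list of rows. -/
def transOf (L : List (List ℤ)) : List (List ℤ) :=
  (List.range 24).map fun i => (List.range 24).map fun j => (L.getD j []).getD i 0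

/-- The fixed vector, as a list. -/
def fiveL : List ℤ := List.replicate 23 1 ++ [5]

/-- The partner of a vector. -/
def compL (w : List ℤ) : List ℤ := List.zipWith (fun a b => a - b) fiveL w

/-- The image of a vector, as a list. -/
def appL (L : List (List ℤ)) (w : List ℤ) : List ℤ := L.map fun r => dotL r w / 8

/-- A letter fixes the vector and permutes the pairs as the model does. -/
def letterOK (k : ℕ) : Bool :=
  let L := offM.getD k []
  decide (appL L fiveL = fiveL) && (List.range 276).all fun i =>
    let w := appL L (offP.getD i [])
    let P := offP.getD (McLInv.img (codes.getD k 0) i) []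
    decide (w = P) || decide (w = compL P)

theorem fast0 : fastOK offM0 (transOf offM0) = true := by decide +kernel
theorem fast1 : fastOK offM1 (transOf offM1) = true := by decide +kernel
theorem fast2 : fastOK offM2 (transOf offM2) = true := by decide +kernel
theorem fast3 : fastOK offM3 (transOf offM3) = true := by decide +kernel
theorem fast4 : fastOK offM4 (transOf offM4) = true := by decide +kernel
theorem fast5 : fastOK offM5 (transOf offM5) = true := by decide +kernel
theorem fast6 : fastOK offM6 (transOf offM6) = true := by decide +kernel
theorem fast7 : fastOK offM7 (transOf offM7) = true := by decide +kernel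
theorem fast8 : fastOK offM8 (transOf offM8) = true := by decide +kernel
theorem fast9 : fastOK offM9 (transOf offM9) = true := by decide +kernel

theorem letters_ok : ((List.range 10).all letterOK) = true := by decide +kernel

theorem offP_shape : (Nat.beq offP.length 276 &&
    offP.all fun w => Nat.beq w.length 24 && inLatL w) = true := by
  decide +kernel

/-- A code for a vector of small entries. -/
def codeV (w : List ℤ) : ℕ := w.foldl (fun acc a => 16 * acc + (a + 8).toNat) 0

/-- The pairs are different. -/
def pairsOK : Bool :=
  let a := offP.map codeV
  let b := offP.map fun w => codeV (compL w)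
  (List.range 276).all fun i => (List.range i).all fun j =>
    !Nat.beq (a.getD i 0) (a.getD j 0) && !Nat.beq (a.getD i 0) (b.getD j 0)

theorem pairs_ok : pairsOK = true := by decide +kernel

end CfsgLib.Recog.Co3Inv
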