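import Cfsg.Agent.Lib.Recog.Co3Inv.Model

/-!
The data passed between the steps of the recognition of the third Conway group by an involution
centralizer, and the statements of the steps.
-/

set_option autoImplicit false
set_option maxRecDepth 100000

namespace CfsgLib.Recog.Co3Inv

open CfsgLib.InvChar.Coset

/-- A group with the double cover as an involution centralizer. -/
structure Amb (G : Type*) [Group G] where
  /-- the embedding -/
  φ : Cm →* G
  inj : Function.Injective φ
  /-- the involution -/
  t : G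
  t_eq : φ tm = t
  cent : ∀ x : G, x * t = t * x → ∃ c, φ c = x

namespace Amb

variable {G : Type*} [Group G] (A : Amb G)

/-- An involution acting on the generators of the common centralizer as the letter `7` does, up to a
central twist on the letter `8`. -/
structure Outer where
  /-- the extra involution -/
  w : G
  w_sq : w * w = 1
  swap : w * A.t * w = A.φ am
  act : ∀ k < 3, w * A.φ (el (McLInv.dGen.getD k [])) * w = A.φ (el (McLInv.dImg.getD k []))
  act_cc : w * A.φ (el [9]) * w = A.φ (el cc2W)
  act_tau : w * A.φ (el tauW) * w = A.φ (el tau2W) ∨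
    w * A.φ (el tauW) * w = A.φ (el (tau2W ++ McLInv.tW ++ McLInv.aW))

/-- Step A1. -/
def LocalStmt : Prop := Nonempty A.Outer ∧ ∀ g : G, g * A.t * g⁻¹ ≠ A.φ sm

/-- Step A2: the letters of the graph on 275 points in the group. -/
def EmbedStmt (O : A.Outer) : Prop :=
  ∃ ι : Ml →* G, Function.Injective ι ∧
    (∀ x : Ml, (x : Equiv.Perm (Fin 276)) = gp 7 → ι x = O.w) ∧
    ∀ k < 7, ∀ x : Ml, (x : Equiv.Perm (Fin 276)) = gp k → ι x = A.φ (el [k])

/-- Step C: the amalgam. -/
def ExtendStmt : Prop :=
  ∃ ρ : G3m →* G, Function.Injective ρ ∧ ∀ c : Cm, ρ ⟨c, cm_le c.2⟩ = A.φ c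

/-- Step E: the embedded model is everything. -/
def TopStmt : Prop :=
  ∀ ρ : G3m →* G, Function.Injective ρ → (∀ c : Cm, ρ ⟨c, cm_le c.2⟩ = A.φ c) →
    (∀ g : G, g * A.t * g⁻¹ ≠ A.φ sm) → ρ.range = ⊤

end Amb

/-- Step B: the double cover is the model of the centralizer. -/
def CoverStmt (C : Type*) [Group C] : Prop :=
  Cfsg.IsNonsplitDoubleCover C (Matrix.symplecticGroup (Fin 3) (ZMod 2)) →
    ∀ t : C, t ∈ Subgroup.center C → t ≠ 1 → ∃ e : Cm ≃* C, e tm = t

/-- Step D: the model is the third Conway group. -/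
def ModelStmt : Prop := Nonempty (G3m ≃* Cfsg.Spor.Co3)

end CfsgLib.Recog.Co3Inv
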