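import Cfsg.Agent.Lib.Recog.Co3Inv.StdChecks

/-!
A standard component isomorphic to the double cover of `Sp₆(2)`: for two commuting conjugates of the
component, the centralizer of the component is of order two.
-/

set_option autoImplicit false

namespace CfsgLib.Recog.Co3Inv

/-- The double cover as a standard component with its centralizer. -/
structure StdComp (G : Type*) [Group G] where
  /-- the component -/
  φ : Cm →* G
  inj : Function.Injective φ
  /-- the central involution -/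
  t : G
  t_eq : φ tm = t
  /-- the centralizer of the component -/
  K : Subgroup G
  comm : ∀ c, ∀ k ∈ K, φ c * k = k * φ c
  t_mem : t ∈ K
  dec : ∀ x : G, x * t = t * x → ∃ c, ∃ k ∈ K, x = φ c * k
  meet : ∀ c, φ c ∈ K → c = 1 ∨ c = tm
  tight : ∀ x ∈ K, x * x = 1 → x ≠ 1 → ∀ g : G, g * x * g⁻¹ ∈ K → g * t * g⁻¹ = t
  four : (∀ x ∈ K, x * x = 1 → x = 1 ∨ x = t) → (∀ x ∈ K, x = 1 ∨ x = t) ∨ ∃ y ∈ K, y * y = t

namespace StdComp

variable {G : Type*} [Group G] (S : StdComp G)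

theorem comm_k {k : G} (hk : k ∈ S.K) : k * S.t = S.t * k := by rw [← S.t_eq]; exact (S.comm tm k hk).symm

theorem t_sq : S.t * S.t = 1 := by rw [← S.t_eq, ← map_mul, tm_sq, map_one]

theorem comm_phi (c : Cm) : S.φ c * S.t = S.t * S.φ c := by
  rw [← S.t_eq, ← map_mul, tm_comm, map_mul]

theorem t_ne_one : S.t ≠ 1 := fun e => tm_ne_one (S.inj (by rw [S.t_eq, e, map_one]))

theorem cent_le {x u : G} (hx : x ∈ S.K) (h2 : x * x = 1) (h1 : x ≠ 1) (hu : u * x = x * u) :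
    u * S.t = S.t * u :=
  mul_inv_eq_iff_eq_mul.1 (S.tight x hx h2 h1 u (by rw [hu, mul_inv_cancel_right]; exact hx))

theorem mul_eq (a b : Cm) {k : G} (hk : k ∈ S.K) (k' : G) :
    S.φ a * k * (S.φ b * k') = S.φ (a * b) * (k * k') := by
  rw [map_mul, mul_assoc, ← mul_assoc k, ← S.comm b k hk, mul_assoc, mul_assoc]

theorem conj_eq (a b : Cm) {k k' : G} (hk : k ∈ S.K) (hk' : k' ∈ S.K) :
    S.φ a * k * (S.φ b * k') * (S.φ a * k)⁻¹ = S.φ (a * b * a⁻¹) * (k * k' * k⁻¹) := by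
  rw [mul_inv_rev, ← map_inv, ← S.comm a⁻¹ k⁻¹ (inv_mem hk), S.mul_eq a b hk,
    S.mul_eq (a * b) a⁻¹ (mul_mem hk hk')]

theorem part_eq {a b : Cm} {k k' : G} (hk : k ∈ S.K) (hk' : k' ∈ S.K) (e : S.φ a * k = S.φ b * k') :
    b = a ∨ b = a * tm := by
  have h : S.φ (a⁻¹ * b) ∈ S.K := by
    have : S.φ (a⁻¹ * b) = k * k'⁻¹ := by
      rw [map_mul, map_inv, show S.φ b = S.φ a * k * k'⁻¹ by rw [e, mul_inv_cancel_right]]
      group
    rw [this]; exact mul_mem hk (inv_mem hk')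
  rcases S.meet _ h with h | h
  exacts [Or.inl (inv_mul_eq_one.1 h).symm, Or.inr (by rw [← h, mul_inv_cancel_left])]

/-- A conjugate. -/
def conj (g : G) : StdComp G where
  φ := (MulAut.conj g).toMonoidHom.comp S.φ
  inj := (MulAut.conj g).injective.comp S.inj
  t := g * S.t * g⁻¹
  t_eq := by show g * S.φ tm * g⁻¹ = _; rw [S.t_eq]
  K := S.K.map (MulAut.conj g).toMonoidHom
  comm := by
    rintro c _ ⟨k, hk, rfl⟩
    show g * S.φ c * g⁻¹ * (g * k * g⁻¹) = g * k * g⁻¹ * (g * S.φ c * g⁻¹)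
    rw [show g * S.φ c * g⁻¹ * (g * k * g⁻¹) = g * (S.φ c * k) * g⁻¹ by group, S.comm c k hk]; group
  t_mem := ⟨S.t, S.t_mem, rfl⟩
  dec := by
    intro x hx
    obtain ⟨c, k, hk, e⟩ := S.dec (g⁻¹ * x * g) (by
      calc g⁻¹ * x * g * S.t = g⁻¹ * (x * (g * S.t * g⁻¹)) * g := by group
        _ = _ := by rw [hx]; group)
    refine ⟨c, g * k * g⁻¹, ⟨k, hk, rfl⟩, ?_⟩
    show x = g * S.φ c * g⁻¹ * (g * k * g⁻¹)
    rw [show g * S.φ c * g⁻¹ * (g * k * g⁻¹) = g * (S.φ c * k) * g⁻¹ by group, ← e]; group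
  meet := by
    intro c hc
    obtain ⟨k, hk, e⟩ := hc
    exact S.meet c ((MulAut.conj g).injective e ▸ hk)
  tight := by
    rintro _ ⟨x, hx, rfl⟩ h2 h1 a ⟨y, hy, e⟩
    replace e : g * y * g⁻¹ = a * (g * x * g⁻¹) * a⁻¹ := e
    have hx2 : x * x = 1 := (MulAut.conj g).injective ((map_mul _ x x).trans (h2.trans (map_one _).symm))
    have hx1 : x ≠ 1 := fun h => h1 (by rw [h, map_one])
    have hb : g⁻¹ * a * g * x * (g⁻¹ * a * g)⁻¹ ∈ S.K := by
      rw [show g⁻¹ * a * g * x * (g⁻¹ * a * g)⁻¹ = g⁻¹ * (a * (g * x * g⁻¹) * a⁻¹) * g by group, ← e]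
      rw [show g⁻¹ * (g * y * g⁻¹) * g = y by group]
      exact hy
    have := S.tight x hx hx2 hx1 _ hb
    show a * (g * S.t * g⁻¹) * a⁻¹ = g * S.t * g⁻¹
    calc a * (g * S.t * g⁻¹) * a⁻¹ = g * (g⁻¹ * a * g * S.t * (g⁻¹ * a * g)⁻¹) * g⁻¹ := by group
      _ = _ := by rw [this]
  four := by
    intro h
    rcases S.four (fun x hx hx2 => by
      rcases h _ ⟨x, hx, rfl⟩ ((map_mul _ x x).symm.trans (by rw [hx2, map_one])) with e | e
      exacts [Or.inl ((MulAut.conj g).injective (e.trans (map_one _).symm)),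
        Or.inr ((MulAut.conj g).injective e)]) with h' | ⟨y, hy, e⟩
    · refine Or.inl ?_
      rintro _ ⟨x, hx, rfl⟩
      rcases h' x hx with rfl | rfl
      exacts [Or.inl (map_one _), Or.inr rfl]
    · exact Or.inr ⟨_, ⟨y, hy, rfl⟩, by rw [← map_mul, e]; rfl⟩

end StdComp

variable {G : Type*} [Group G]

/-- Two components with commuting central involutions whose centralizers share no involution. -/
structure StdPair (S S' : StdComp G) : Prop where
  comm : S.t * S'.t = S'.t * S.t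
  disj : ∀ x ∈ S.K, x ∈ S'.K → x * x = 1 → x = 1

namespace StdPair

variable {S S' : StdComp G} (P : StdPair S S')
include P

theorem symm : StdPair S' S := ⟨P.comm.symm, fun x h h' => P.disj x h' h⟩

variable {l : Cm} {k : G} (hk : k ∈ S'.K) (hl : S.t = S'.φ l * k)
include hk hl

theorem l_spec : (l * l = 1 ∨ l * l = tm) ∧ l ≠ 1 ∧ l ≠ tm := by
  refine ⟨S'.meet _ ?_, fun e => ?_, fun e => ?_⟩
  · have h := S.t_sq
    rw [hl, S'.mul_eq l l hk] at h
    rw [eq_inv_of_mul_eq_one_left h]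
    exact inv_mem (mul_mem hk hk)
  all_goals refine S.t_ne_one (P.disj _ S.t_mem ?_ S.t_sq); rw [hl, e]
  · rw [map_one, one_mul]; exact hk
  · rw [S'.t_eq]; exact mul_mem S'.t_mem hk

/-- The only involution of one centralizer commuting with the other involution. -/
theorem uniq {x : G} (hx : x ∈ S.K) (h2 : x * x = 1) (hc : x * S'.t = S'.t * x) : x = 1 ∨ x = S.t := by
  by_cases h1 : x = 1
  · exact Or.inl h1
  refine Or.inr ?_
  obtain ⟨c, k', hk', e⟩ := S'.dec x hc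
  have hcc : c * c = 1 ∨ c * c = tm := by
    refine S'.meet _ ?_
    rw [e, S'.mul_eq c c hk'] at h2
    rw [eq_inv_of_mul_eq_one_left h2]
    exact inv_mem (mul_mem hk' hk')
  have hc1 : c ≠ 1 := fun h => h1 (P.disj x hx (by rw [e, h, map_one, one_mul]; exact hk') h2)
  have hc2 : c ≠ tm := fun h => h1 (P.disj x hx (by rw [e, h, S'.t_eq]; exact mul_mem S'.t_mem hk') h2)
  have hmid := center_cent hcc hc1 hc2 l fun u hu => by
    have hux : S'.φ u * x = x * S'.φ u := by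
      rw [e, ← mul_assoc, ← map_mul, hu, map_mul, mul_assoc, S'.comm u k' hk', ← mul_assoc]
    have h := S.cent_le hx h2 h1 hux
    rw [hl, ← mul_assoc, mul_assoc _ k, ← S'.comm u k hk, ← mul_assoc, ← map_mul, ← map_mul] at h
    exact S'.inj (mul_right_cancel h)
  obtain ⟨-, hl1, hl2⟩ := P.l_spec hk hl
  have hct : c * l = 1 ∨ c * l = tm := by
    rcases hmid with h | h | h | h
    · exact absurd h hl1
    · exact absurd h hl2
    · rw [h]; exact hcc
    · rw [h, ← mul_assoc]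
      rcases hcc with h' | h' <;> rw [h']
      exacts [Or.inr (one_mul _), Or.inl tm_sq]
  have hmem : x * S.t ∈ S'.K := by
    rw [e, hl, S'.mul_eq c l hk']
    refine mul_mem ?_ (mul_mem hk' hk)
    rcases hct with h | h <;> rw [h]
    · rw [map_one]; exact one_mem _
    · rw [S'.t_eq]; exact S'.t_mem
  have hsq : x * S.t * (x * S.t) = 1 := by
    rw [mul_assoc, ← mul_assoc S.t, ← S.comm_k hx, mul_assoc x S.t S.t, S.t_sq, mul_one, h2]
  have := P.disj _ (mul_mem hx S.t_mem) hmem hsq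
  calc x = x * S.t * S.t := by rw [mul_assoc, S.t_sq, mul_one]
    _ = S.t := by rw [this, one_mul]

omit hk hl in
/-- The parts of the elements of one centralizer in the other component. -/
def parts (_P : StdPair S S') : Subgroup Cm where
  carrier := {c | ∃ k' ∈ S'.K, S'.φ c * k' ∈ S.K}
  one_mem' := ⟨1, one_mem _, by rw [map_one, one_mul]; exact one_mem _⟩
  mul_mem' := by
    rintro a b ⟨u, hu, ha⟩ ⟨v, hv, hb⟩
    exact ⟨u * v, mul_mem hu hv, by rw [← S'.mul_eq a b hu]; exact mul_mem ha hb⟩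
  inv_mem' := by
    rintro a ⟨u, hu, ha⟩
    refine ⟨u⁻¹, inv_mem hu, ?_⟩
    rw [map_inv, show (S'.φ a)⁻¹ * u⁻¹ = (u * S'.φ a)⁻¹ by group, ← S'.comm a u hu]
    exact inv_mem ha

theorem parts_conj {u c : Cm} (hu : u * l = l * u) (hc : c ∈ P.parts) : u * c * u⁻¹ ∈ P.parts := by
  obtain ⟨k', hk', hx⟩ := hc
  have hut : S'.φ u * S.t = S.t * S'.φ u := by
    rw [hl, ← mul_assoc, ← map_mul, hu, map_mul, mul_assoc, S'.comm u k hk, ← mul_assoc]
  obtain ⟨a, b, hb, e⟩ := S.dec _ hut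
  refine ⟨k', hk', ?_⟩
  rw [show S'.φ (u * c * u⁻¹) * k' = S'.φ u * (S'.φ c * k') * (S'.φ u)⁻¹ by
    rw [map_mul, map_mul, map_inv, mul_assoc _ (S'.φ u)⁻¹ k', ← map_inv, S'.comm u⁻¹ k' hk']; group]
  rw [e, show S.φ a * b * (S'.φ c * k') * (S.φ a * b)⁻¹ =
    S.φ a * (b * (S'.φ c * k') * b⁻¹) * (S.φ a)⁻¹ by group,
    S.comm a _ (mul_mem (mul_mem hb hx) (inv_mem hb)), mul_inv_cancel_right]
  exact mul_mem (mul_mem hb hx) (inv_mem hb)

/-- The parts with central square. -/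
theorem parts_sq [Finite G] {c : Cm} (hc : c ∈ P.parts) (h2 : c * c = 1 ∨ c * c = tm) :
    c = 1 ∨ c = tm ∨ c = l ∨ c = l * tm := by
  obtain ⟨k', hk', hx⟩ := hc
  have hsq : S'.φ c * k' * (S'.φ c * k') ∈ S'.K := by
    rw [S'.mul_eq c c hk']
    refine mul_mem ?_ (mul_mem hk' hk')
    rcases h2 with h | h <;> rw [h]
    · rw [map_one]; exact one_mem _
    · rw [S'.t_eq]; exact S'.t_mem
  obtain ⟨z, hz⟩ : ∃ z, z = S'.φ c * k' * (S'.φ c * k') := ⟨_, rfl⟩
  have hzK : z ∈ S.K := hz ▸ mul_mem hx hx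
  rw [← hz] at hsq
  obtain ⟨n, hn⟩ : Odd (orderOf z) := by
    rw [← Nat.not_even_iff_odd]
    intro he
    obtain ⟨j, hj⟩ := he
    have hpos := orderOf_pos z
    have h1 := P.disj _ (pow_mem hzK j) (pow_mem hsq j) (by rw [← pow_add, ← hj, pow_orderOf_eq_one])
    have := Nat.le_of_dvd (by omega) (orderOf_dvd_of_pow_eq_one h1)
    omega
  have hy : (S'.φ c * k' * z ^ n) * (S'.φ c * k' * z ^ n) = 1 := by
    have hcz : Commute (S'.φ c * k') (z ^ n) := by
      refine Commute.pow_right ?_ n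
      rw [hz]; exact (Commute.refl _).mul_right (Commute.refl _)
    rw [mul_assoc, ← mul_assoc (z ^ n), ← hcz.eq, mul_assoc (S'.φ c * k') (z ^ n), ← pow_add,
      ← mul_assoc, ← hz, ← pow_succ', show n + n + 1 = orderOf z by omega, pow_orderOf_eq_one]
  have hyc : S'.φ c * k' * z ^ n * S'.t = S'.t * (S'.φ c * k' * z ^ n) := by
    rw [mul_assoc, S'.comm_k (pow_mem hsq n), ← mul_assoc, mul_assoc (S'.φ c) k', S'.comm_k hk',
      ← mul_assoc (S'.φ c), S'.comm_phi]
    group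
  have hn' : S'.φ c * (k' * z ^ n) = S'.φ c * k' * z ^ n := (mul_assoc _ _ _).symm
  rcases P.uniq hk hl (mul_mem hx (pow_mem hzK n)) hy hyc with e | e
  · rcases S'.part_eq (b := 1) (mul_mem hk' (pow_mem hsq n)) (one_mem S'.K)
      (by rw [hn', e, map_one, mul_one]) with h | h
    · exact Or.inl h.symm
    · refine Or.inr (Or.inl ?_)
      calc c = c * (tm * tm) := by rw [tm_sq, mul_one]
        _ = tm := by rw [← mul_assoc, ← h, one_mul]
  · rcases S'.part_eq hk (mul_mem hk' (pow_mem hsq n)) (hl.symm.trans (e.symm.trans hn'.symm)) with h | h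
    exacts [Or.inr (Or.inr (Or.inl h)), Or.inr (Or.inr (Or.inr h))]

theorem parts_bad [Finite G] {c h p : Cm} (hh : h * l = l * h) (hc : c ∈ P.parts)
    (hp : p ∈ Subgroup.closure ({c, h * c * h⁻¹} : Set Cm)) (h2 : p * p = 1 ∨ p * p = tm) :
    p = 1 ∨ p = tm ∨ p = l ∨ p = l * tm := by
  refine P.parts_sq hk hl ((?_ : Subgroup.closure ({c, h * c * h⁻¹} : Set Cm) ≤ P.parts) hp) h2
  rw [Subgroup.closure_le]
  rintro _ (rfl | rfl)
  exacts [hc, P.parts_conj hk hl hh hc]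

/-- An element of order four in one centralizer, seen in the other component. -/
theorem root_main [Finite G] {y : G} (hy : y ∈ S.K) (hys : y * S'.t = S'.t * y) (hy2 : y * y = S.t) :
    l * l = 1 ∧ ∃ c : Cm, ∃ k' ∈ S'.K, y = S'.φ c * k' ∧ (c * c = l ∨ c * c = l * tm) ∧
      ∃ h : Cm, h * h * h = 1 ∧ h * l = l * h ∧ h * c * h⁻¹ ≠ c ∧ h * c * h⁻¹ ≠ c * tm := by
  obtain ⟨c, k', hk', e⟩ := S'.dec y hys
  have hcl : c * c = l ∨ c * c = l * tm := by
    rw [e, S'.mul_eq c c hk', hl] at hy2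
    exact S'.part_eq hk (mul_mem hk' hk') hy2.symm
  obtain ⟨hll, hl1, hl2⟩ := P.l_spec hk hl
  have hcomm : ∀ h : Cm, h * (c * c) = c * c * h → h * l = l * h := fun h hh => by
    rcases hcl with r | r <;> rw [r] at hh
    · exact hh
    · rw [← mul_assoc, mul_assoc l tm h, ← tm_comm h, ← mul_assoc l] at hh
      exact mul_right_cancel hh
  have hmods : ∀ p : Cm, (p = 1 ∨ p = tm ∨ p = l ∨ p = l * tm) →
      p ≠ 1 → p ≠ tm → p ≠ c * c → p ≠ c * c * tm → False := by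
    intro p hp n1 n2 n3 n4
    rcases hp with rfl | rfl | rfl | rfl
    · exact n1 rfl
    · exact n2 rfl
    · rcases hcl with r | r
      · exact n3 r.symm
      · exact n4 (by rw [r, mul_assoc, tm_sq, mul_one])
    · rcases hcl with r | r
      · exact n4 (by rw [r])
      · exact n3 r.symm
  have h4 : c * c * (c * c) = l * l := by
    rcases hcl with r | r <;> rw [r]
    rw [mul_assoc, ← mul_assoc tm, ← tm_comm l, mul_assoc l tm, tm_sq, mul_one]
  have hn1 : c * c ≠ 1 := fun r => by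
    rcases hcl with r' | r' <;> rw [r] at r'
    · exact hl1 r'.symm
    · exact hl2 (by rw [← mul_one l, ← tm_sq, ← mul_assoc, ← r', one_mul])
  have hn2 : c * c ≠ tm := fun r => by
    rcases hcl with r' | r' <;> rw [r] at r'
    · exact hl2 r'.symm
    · exact hl1 (by rw [← mul_one l, ← tm_sq, ← mul_assoc, ← r', tm_sq])
  rcases root_cases (by rw [h4]; exact hll) hn1 hn2 with ⟨h, hh, p, hp, hp2, n1, n2, n3, n4⟩ | ⟨h0, h, h3, hh, n1, n2⟩
  · exact (hmods p (P.parts_bad hk hl (hcomm h hh) ⟨k', hk', e ▸ hy⟩ hp hp2) n1 n2 n3 n4).elim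
  · exact ⟨h4 ▸ h0, c, k', hk', e, hcl, h, h3, hcomm h hh, n1, n2⟩

end StdPair

namespace StdPair

variable {S S' : StdComp G} (P : StdPair S S')
include P

/-- An element of order four in a larger centralizer. -/
theorem exists_sq (hne : ∃ x ∈ S.K, x ≠ 1 ∧ x ≠ S.t) : ∃ y ∈ S.K, y * S'.t = S'.t * y ∧ y * y = S.t := by
  obtain ⟨l, k, hk, hl⟩ := S'.dec S.t P.comm
  obtain ⟨l', k', hk', hl'⟩ := S.dec S'.t P.comm.symm
  have hkc : k' * S'.t = S'.t * k' := by rw [hl', ← mul_assoc, ← S.comm l' k' hk']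
  have h := S'.t_sq
  rw [hl', S.mul_eq l' l' hk'] at h
  have hk2 : k' * k' = 1 ∨ k' * k' = S.t := by
    rcases S.meet (l' * l') (by rw [eq_inv_of_mul_eq_one_left h]; exact inv_mem (mul_mem hk' hk')) with r | r
      <;> rw [r] at h
    · rw [map_one, one_mul] at h; exact Or.inl h
    · rw [S.t_eq] at h
      exact Or.inr (by rw [eq_inv_of_mul_eq_one_right h, inv_eq_of_mul_eq_one_right S.t_sq])
  rcases hk2 with h2 | h2
  swap
  · exact ⟨k', hk', hkc, h2⟩
  have hall : ∀ x ∈ S.K, x * S'.t = S'.t * x := fun x hx => by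
    have : x * k' = k' * x := by
      rcases P.uniq hk hl hk' h2 hkc with r | r <;> rw [r]
      · rw [one_mul, mul_one]
      · exact S.comm_k hx
    rw [hl', ← mul_assoc, ← S.comm l' x hx, mul_assoc, this, ← mul_assoc]
  rcases S.four fun x hx h2 => P.uniq hk hl hx h2 (hall x hx) with h' | ⟨y, hy, e⟩
  · obtain ⟨x, hx, h1, ht⟩ := hne
    exact absurd (h' x hx) (by simp [h1, ht])
  · exact ⟨y, hy, hall y hy, e⟩

/-- **The centralizer of the component has order two.** -/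
theorem centralizer_small [Finite G] (hne : ∃ x ∈ S.K, x ≠ 1 ∧ x ≠ S.t)
    (hne' : ∃ x ∈ S'.K, x ≠ 1 ∧ x ≠ S'.t) : False := by
  obtain ⟨l, k, hk, hl⟩ := S'.dec S.t P.comm
  obtain ⟨l', k', hk', hl'⟩ := S.dec S'.t P.comm.symm
  obtain ⟨y', hy', hys', hy2'⟩ := P.symm.exists_sq hne'
  have hll' := (P.symm.root_main hk' hl' hy' hys' hy2').1
  have hk2 : k' * k' = 1 := by
    have h := S'.t_sq
    rw [hl', S.mul_eq l' l' hk', hll', map_one, one_mul] at h
    exact h
  have hall : ∀ x ∈ S.K, x * S'.t = S'.t * x := fun x hx => by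
    have hkc : k' * S'.t = S'.t * k' := by rw [hl', ← mul_assoc, ← S.comm l' k' hk']
    have : x * k' = k' * x := by
      rcases P.uniq hk hl hk' hk2 hkc with r | r <;> rw [r]
      · rw [one_mul, mul_one]
      · exact S.comm_k hx
    rw [hl', ← mul_assoc, ← S.comm l' x hx, mul_assoc, this, ← mul_assoc]
  obtain ⟨y, hy, hys, hy2⟩ := P.exists_sq hne
  obtain ⟨hll, c, kc, hkc, hyc, hcl, h, h3, hhl, n1, n2⟩ := P.root_main hk hl hy hys hy2
  have hht : S'.φ h * S.t = S.t * S'.φ h := by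
    rw [hl, ← mul_assoc, ← map_mul, hhl, map_mul, mul_assoc, S'.comm h k hk, ← mul_assoc]
  obtain ⟨a, k2, hk2', ea⟩ := S.dec _ hht
  have hcube : k2 * k2 * k2 = 1 ∨ k2 * k2 * k2 = S.t := by
    have e := congrArg S'.φ h3
    rw [map_mul, map_mul, map_one, ea, S.mul_eq a a hk2', S.mul_eq (a * a) a (mul_mem hk2' hk2')] at e
    rcases S.meet (a * a * a) (by
      rw [eq_inv_of_mul_eq_one_left e]; exact inv_mem (mul_mem (mul_mem hk2' hk2') hk2')) with r | r <;>
      rw [r] at e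
    · rw [map_one, one_mul] at e; exact Or.inl e
    · rw [S.t_eq] at e
      exact Or.inr (by rw [eq_inv_of_mul_eq_one_right e, inv_eq_of_mul_eq_one_right S.t_sq])
  obtain ⟨k3, hk3⟩ : ∃ k3, k3 = k2 * (k2 * k2 * k2) := ⟨_, rfl⟩
  have hk3K : k3 ∈ S.K := hk3 ▸ mul_mem hk2' (mul_mem (mul_mem hk2' hk2') hk2')
  have hk33 : k3 * k3 * k3 = 1 := by
    rw [hk3]
    rcases hcube with r | r <;> rw [r]
    · rw [mul_one, r]
    · have hc := S.comm_k hk2'
      calc k2 * S.t * (k2 * S.t) * (k2 * S.t) = k2 * (S.t * k2) * S.t * (k2 * S.t) := by group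
        _ = k2 * k2 * (S.t * S.t) * (k2 * S.t) := by rw [← hc]; group
        _ = k2 * k2 * k2 * S.t := by rw [S.t_sq]; group
        _ = 1 := by rw [r, S.t_sq]
  obtain ⟨c3, k3', hk3', e3⟩ := S'.dec k3 (hall k3 hk3K)
  have hconj : k3 * y * k3⁻¹ = S'.φ (h * c * h⁻¹) * kc := by
    have r1 : k3 * y * k3⁻¹ = k2 * y * k2⁻¹ := by
      have hc : k2 * k2 * k2 * y = y * (k2 * k2 * k2) := by
        rcases hcube with r | r <;> rw [r]
        · rw [one_mul, mul_one]
        · exact (S.comm_k hy).symm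
      rw [hk3, show k2 * (k2 * k2 * k2) * y * (k2 * (k2 * k2 * k2))⁻¹ =
        k2 * (k2 * k2 * k2 * y) * (k2 * k2 * k2)⁻¹ * k2⁻¹ by group, hc]
      group
    have r2 : k2 * y * k2⁻¹ = S'.φ h * y * (S'.φ h)⁻¹ := by
      rw [ea, show S.φ a * k2 * y * (S.φ a * k2)⁻¹ = S.φ a * (k2 * y * k2⁻¹) * (S.φ a)⁻¹ by group,
        S.comm a _ (mul_mem (mul_mem hk2' hy) (inv_mem hk2')), mul_inv_cancel_right]
    have r3 : S'.φ h * 1 = S'.φ h := mul_one _
    rw [r1, r2, hyc, ← r3, S'.conj_eq h c (one_mem _) hkc, one_mul, inv_one, mul_one]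
  rw [e3, hyc, S'.conj_eq c3 c hk3' hkc] at hconj
  have hmove := S'.part_eq (mul_mem (mul_mem hk3' hkc) (inv_mem hk3')) hkc hconj
  have hc3 : c3 ≠ 1 ∧ c3 ≠ tm := by
    have : ∀ z : Cm, c3 * c * c3⁻¹ = c → False := fun _ r => by
      rw [r] at hmove
      rcases hmove with r | r
      exacts [n1 r, n2 r]
    refine ⟨fun r => this 1 (by rw [r]; group), fun r => this 1 (by rw [r, ← tm_comm, mul_inv_cancel_right])⟩
  have hc33 : c3 * c3 * c3 = 1 ∨ c3 * c3 * c3 = tm := by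
    refine S'.meet _ ?_
    rw [e3, S'.mul_eq c3 c3 hk3', S'.mul_eq (c3 * c3) c3 (mul_mem hk3' hk3')] at hk33
    rw [eq_inv_of_mul_eq_one_left hk33]
    exact inv_mem (mul_mem (mul_mem hk3' hk3') hk3')
  have hc3l : c3 * l * c3⁻¹ = l ∨ c3 * l * c3⁻¹ = l * tm := by
    have r : S.t = S'.φ (c3 * l * c3⁻¹) * (k3' * k * k3'⁻¹) := by
      rw [← S'.conj_eq c3 l hk3' hk, ← hl, ← e3, S.comm_k hk3K, mul_inv_cancel_right]
    exact S'.part_eq hk (mul_mem (mul_mem hk3' hk) (inv_mem hk3')) (hl.symm.trans r)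
  obtain ⟨c4, hc4⟩ : ∃ c4, c4 = c3 * (c3 * c3 * c3) := ⟨_, rfl⟩
  have h43 : c4 * c4 * c4 = 1 := by
    rw [hc4]
    rcases hc33 with r | r <;> rw [r]
    · rw [mul_one, r]
    · have hc := tm_comm c3
      calc c3 * tm * (c3 * tm) * (c3 * tm) = c3 * (tm * c3) * tm * (c3 * tm) := by group
        _ = c3 * c3 * (tm * tm) * (c3 * tm) := by rw [← hc]; group
        _ = c3 * c3 * c3 * tm := by rw [tm_sq]; group
        _ = 1 := by rw [r, tm_sq]
  have h41 : c4 ≠ 1 := by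
    rw [hc4]
    rcases hc33 with r | r <;> rw [r]
    · rw [mul_one]; exact hc3.1
    · exact fun r' => hc3.2 (by rw [← mul_one c3, ← tm_sq, ← mul_assoc, r', one_mul])
  have h4mem : c4 ∈ P.parts := by
    have h3mem : c3 ∈ P.parts := ⟨k3', hk3', e3 ▸ hk3K⟩
    exact hc4 ▸ mul_mem h3mem (mul_mem (mul_mem h3mem h3mem) h3mem)
  have h4l : c4 * l = l * c4 := by
    have hsq : c3 * c3 * l = l * (c3 * c3) := by
      refine mul_inv_eq_iff_eq_mul.1 ?_
      rcases hc3l with r | r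
      · calc c3 * c3 * l * (c3 * c3)⁻¹ = c3 * (c3 * l * c3⁻¹) * c3⁻¹ := by group
          _ = l := by rw [r]; exact r
      · calc c3 * c3 * l * (c3 * c3)⁻¹ = c3 * (c3 * l * c3⁻¹) * c3⁻¹ := by group
          _ = c3 * l * (tm * c3⁻¹) := by rw [r]; group
          _ = c3 * l * c3⁻¹ * tm := by rw [← tm_comm c3⁻¹]; group
          _ = l := by rw [r, mul_assoc, tm_sq, mul_one]
    have h4' : c4 = c3 * c3 * (c3 * c3) := by rw [hc4]; group
    rw [h4', mul_assoc, hsq, ← mul_assoc, hsq, mul_assoc]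
  obtain ⟨-, hl1, hl2⟩ := P.l_spec hk hl
  have hcc4 : c * c * (c * c) = 1 := by
    rcases hcl with r | r <;> rw [r]
    · exact hll
    · rw [mul_assoc, ← mul_assoc tm, ← tm_comm l, mul_assoc l tm, tm_sq, mul_one, hll]
  have hlcc : l = c * c ∨ l = c * c * tm := by
    rcases hcl with r | r
    · exact Or.inl r.symm
    · exact Or.inr (by rw [r, mul_assoc, tm_sq, mul_one])
  obtain ⟨g, hg⟩ : ∃ g, c * c = g * am * g⁻¹ := by
    rcases invol_cases hcc4 with r | r | r | ⟨g, r⟩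
    · exfalso
      rcases hlcc with r' | r' <;> rw [r] at r'
      · exact hl1 r'
      · exact hl2 (r'.trans (one_mul _))
    · exfalso
      rcases hlcc with r' | r' <;> rw [r] at r'
      · exact hl2 r'
      · exact hl1 (r'.trans tm_sq)
    · exact r
    · refine absurd ?_ (sm_not_sq (g⁻¹ * c * g))
      rw [show g⁻¹ * c * g * (g⁻¹ * c * g) = g⁻¹ * (c * c) * g by group, r]; group
  have h4a : g⁻¹ * c4 * g * am = am * (g⁻¹ * c4 * g) := by
    have h4cc : c4 * (c * c) = c * c * c4 := by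
      rcases hlcc with r | r <;> rw [r] at h4l
      · exact h4l
      · rw [← mul_assoc, mul_assoc (c * c) tm, ← tm_comm c4, ← mul_assoc (c * c)] at h4l
        exact mul_right_cancel h4l
    rw [hg] at h4cc
    calc g⁻¹ * c4 * g * am = g⁻¹ * (c4 * (g * am * g⁻¹)) * g := by group
      _ = _ := by rw [h4cc]; group
  obtain ⟨h', hh', p, hp, hp2, m1, m2, m3, m4⟩ := three_bad (c := g⁻¹ * c4 * g)
    (by rw [show g⁻¹ * c4 * g * (g⁻¹ * c4 * g) * (g⁻¹ * c4 * g) = g⁻¹ * (c4 * c4 * c4) * g by group, h43]; group)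
    (fun r => h41 (by rw [show c4 = g * (g⁻¹ * c4 * g) * g⁻¹ by group, r]; group)) h4a
  have hh'l : g * h' * g⁻¹ * l = l * (g * h' * g⁻¹) := by
    have r : g * h' * g⁻¹ * (c * c) = c * c * (g * h' * g⁻¹) := by
      rw [hg, show g * h' * g⁻¹ * (g * am * g⁻¹) = g * (h' * am) * g⁻¹ by group, hh']; group
    rcases hlcc with r' | r' <;> rw [r']
    · exact r
    · rw [← mul_assoc (g * h' * g⁻¹), r, mul_assoc (c * c), tm_comm (g * h' * g⁻¹), ← mul_assoc]
  have hp' : g * p * g⁻¹ ∈ Subgroup.closure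
      ({c4, g * h' * g⁻¹ * c4 * (g * h' * g⁻¹)⁻¹} : Set Cm) := by
    have hle : (Subgroup.closure ({g⁻¹ * c4 * g, h' * (g⁻¹ * c4 * g) * h'⁻¹} : Set Cm)).map
        (MulAut.conj g).toMonoidHom ≤
        Subgroup.closure ({c4, g * h' * g⁻¹ * c4 * (g * h' * g⁻¹)⁻¹} : Set Cm) := by
      rw [MonoidHom.map_closure]
      refine Subgroup.closure_mono (Set.image_subset_iff.2 fun x hx => ?_)
      rcases hx with rfl | rfl
      · exact Or.inl (by simp only [MulEquiv.coe_toMonoidHom, MulAut.conj_apply]; group)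
      · exact Or.inr (by simp only [Set.mem_singleton_iff, MulEquiv.coe_toMonoidHom, MulAut.conj_apply]; group)
    exact hle ⟨p, hp, rfl⟩
  have hp2' : g * p * g⁻¹ * (g * p * g⁻¹) = 1 ∨ g * p * g⁻¹ * (g * p * g⁻¹) = tm := by
    rw [show g * p * g⁻¹ * (g * p * g⁻¹) = g * (p * p) * g⁻¹ by group]
    rcases hp2 with r | r <;> rw [r]
    · exact Or.inl (by group)
    · exact Or.inr (by rw [tm_comm g, mul_inv_cancel_right])
  have hpg : p = g⁻¹ * (g * p * g⁻¹) * g := by group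
  have back : g⁻¹ * (c * c) * g = am := by rw [hg]; group
  rcases P.parts_bad hk hl hh'l h4mem hp' hp2' with r | r | r | r <;> rw [r] at hpg
  · exact m1 (by rw [hpg]; group)
  · exact m2 (by rw [hpg, mul_assoc, ← tm_comm g, inv_mul_cancel_left])
  all_goals rcases hlcc with r' | r' <;> rw [r'] at hpg
  · exact m3 (by rw [hpg, back])
  · exact m4 (by rw [hpg, ← back, show g⁻¹ * (c * c * tm) * g = g⁻¹ * (c * c) * (tm * g) by group,
      ← tm_comm g, ← mul_assoc])
  · exact m4 (by rw [hpg, ← back, show g⁻¹ * (c * c * tm) * g = g⁻¹ * (c * c) * (tm * g) by group,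
      ← tm_comm g, ← mul_assoc])
  · refine m3 ?_
    rw [hpg, mul_assoc (c * c) tm tm, tm_sq, mul_one, back]

end StdPair

end CfsgLib.Recog.Co3Inv
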