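import Mathlib.Data.Nat.Notation

/-!
Words for the standard component with centralizer the double cover: representatives of the elements with
central square, elements of their centralizers, and witnesses for the roots of such elements.
-/

set_option autoImplicit false
set_option maxRecDepth 100000

namespace CfsgLib.Recog.Co3Inv

/-- Representatives of the classes of elements with central square, each commuting with the second involution. -/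
def stdRep : List (List ℕ) := [[2, 0, 2, 3, 0, 3], [9, 0, 1], [0, 1], [2, 9, 2, 0, 1]]

/-- Elements commuting with each representative. -/
def stdCent : List (List (List ℕ)) := [[[0, 3, 1, 9, 3], [1]], [[4, 6, 3, 9, 9, 3, 4, 9, 1, 3, 6, 2, 9, 0, 6, 0, 3, 4, 0, 1, 3, 1, 5, 6, 0, 2]], [[2, 1, 5, 3, 6, 4, 9]], [[2, 4, 0, 6]]]

/-- A point telling most products apart, for each representative. -/
def stdPt : List ℕ := [118, 0, 1, 1]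

/-- The third involution goes to its representative. -/
def smConjW : List ℕ := [0, 6, 4, 3, 9, 6, 1]

/-- For each element of the Sylow subgroup with square the first involution: representative, twist, conjugator. -/
def sqCert : List (ℕ × ℕ × List ℕ) := [(0, 0, []), (0, 0, []), (0, 0, []), (0, 0, []), (0, 0, []), (0, 0, []), (0, 0, []), (0, 0, []), (0, 0, []), (0, 0, []), (0, 0, []), (0, 0, []), (2,
  0, []), (2, 0, [0]), (2, 0, [2, 6, 2]), (2, 0, [4, 5, 4]), (0, 0, []), (0, 0, []), (0, 0, []), (0, 0, []), (2, 0, [4, 0, 9, 4, 2]), (2, 0, [4, 0, 9,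
  4, 2, 0]), (2, 0, [9, 2, 0, 6, 2]), (2, 0, [9, 6, 0, 4, 2]), (2, 0, [3, 9, 2, 1, 3]), (2, 0, [3, 1, 9, 3, 2]), (2, 0, [6, 9, 4]), (2, 0, [6, 9, 4,
  0]), (3, 0, []), (3, 0, [9]), (2, 0, [9, 4, 5, 4]), (2, 0, [9, 2, 6, 2]), (0, 0, []), (0, 0, []), (2, 0, [4, 9, 6]), (2, 0, [4, 9, 6, 0]), (2, 0,
  [2, 0, 2]), (2, 0, [2, 1, 2]), (0, 0, []), (0, 0, []), (0, 0, []), (0, 0, []), (2, 0, [3, 5, 1, 3]), (2, 0, [6, 5, 0, 6]), (0, 0, []), (0, 0, []),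
  (2, 0, [2, 0, 6, 2]), (2, 0, [6, 0, 4, 2]), (2, 0, [3, 9, 1, 3, 2]), (2, 0, [3, 1, 2, 9, 3]), (0, 0, []), (0, 0, []), (2, 0, [2, 6, 3, 1, 9, 3]),
  (2, 0, [2, 6, 3, 1, 9, 3, 0]), (0, 0, []), (0, 0, []), (0, 0, []), (0, 0, []), (2, 0, [9, 6, 5, 0, 6]), (2, 0, [9, 3, 5, 1, 3]), (2, 0, [4, 9, 0, 4,
  2]), (2, 0, [6, 5, 0, 9, 4]), (0, 0, []), (0, 0, []), (0, 0, []), (0, 0, []), (0, 0, []), (0, 0, []), (0, 0, []), (0, 0, []), (0, 0, []), (0, 0,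
  []), (0, 0, []), (0, 0, []), (0, 0, []), (0, 0, []), (0, 0, []), (0, 0, []), (0, 0, []), (0, 0, []), (0, 0, []), (0, 0, []), (0, 0, []), (0, 0, []),
  (0, 0, []), (0, 0, []), (0, 0, []), (0, 0, []), (0, 0, []), (0, 0, []), (0, 0, []), (0, 0, []), (0, 0, []), (0, 0, []), (0, 0, []), (0, 0, []), (0,
  0, []), (0, 0, []), (0, 0, []), (0, 0, []), (0, 0, []), (0, 0, []), (0, 0, []), (0, 0, []), (0, 0, []), (0, 0, []), (0, 0, []), (0, 0, []), (0, 0,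
  []), (0, 0, []), (0, 0, []), (0, 0, []), (0, 0, []), (0, 0, []), (0, 0, []), (0, 0, []), (0, 0, []), (0, 0, []), (0, 0, []), (0, 0, []), (0, 0, []),
  (0, 0, []), (0, 0, []), (0, 0, []), (0, 0, []), (0, 0, []), (0, 0, []), (0, 0, []), (0, 0, []), (0, 0, []), (0, 0, []), (0, 0, []), (0, 0, []), (0,
  0, []), (0, 0, []), (0, 0, []), (0, 0, []), (0, 0, []), (0, 0, []), (0, 0, []), (0, 0, []), (0, 0, []), (0, 0, []), (0, 0, []), (0, 0, []), (0, 0,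
  []), (0, 0, []), (0, 0, []), (0, 0, []), (0, 0, []), (0, 0, []), (0, 0, []), (0, 0, []), (0, 0, []), (0, 0, []), (0, 0, []), (0, 0, []), (0, 0, []),
  (0, 0, []), (0, 0, []), (0, 0, []), (0, 0, []), (0, 0, []), (0, 0, []), (0, 0, []), (0, 0, []), (0, 0, []), (0, 0, []), (0, 0, []), (0, 0, []), (0,
  0, []), (0, 0, []), (0, 0, []), (0, 0, []), (0, 0, []), (0, 0, []), (0, 0, []), (0, 0, []), (0, 0, []), (0, 0, []), (0, 0, []), (0, 0, []), (0, 0,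
  []), (0, 0, []), (0, 0, []), (0, 0, []), (0, 0, []), (0, 0, []), (0, 0, []), (0, 0, []), (0, 0, []), (0, 0, []), (0, 0, []), (0, 0, []), (0, 0, []),
  (0, 0, []), (2, 0, [4, 9, 0, 4]), (2, 0, [4, 9, 0, 4, 0]), (0, 0, []), (0, 0, []), (0, 0, []), (0, 0, []), (0, 0, []), (0, 0, []), (0, 0, []), (0,
  0, []), (0, 0, []), (0, 0, []), (2, 0, [5, 4, 0, 9, 4]), (2, 0, [5, 4, 0, 9, 4, 0]), (0, 0, []), (0, 0, []), (0, 0, []), (0, 0, []), (0, 0, []), (0,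
  0, []), (0, 0, []), (0, 0, []), (0, 0, []), (0, 0, []), (0, 0, []), (0, 0, []), (0, 0, []), (0, 0, []), (0, 0, []), (0, 0, []), (0, 0, []), (0, 0,
  []), (0, 0, []), (0, 0, []), (0, 0, []), (0, 0, []), (0, 0, []), (0, 0, []), (0, 0, []), (0, 0, []), (2, 0, [4, 0, 9, 4]), (2, 0, [4, 0, 9, 4, 0]),
  (0, 0, []), (0, 0, []), (0, 0, []), (0, 0, []), (0, 0, []), (0, 0, []), (0, 0, []), (0, 0, []), (0, 0, []), (0, 0, []), (2, 0, [4, 9, 3, 5, 2]), (2,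
  0, [4, 9, 0, 6, 4]), (0, 0, []), (0, 0, []), (0, 0, []), (0, 0, []), (0, 0, []), (0, 0, []), (0, 0, []), (0, 0, []), (0, 0, []), (0, 0, []), (0, 0,
  []), (0, 0, []), (0, 0, []), (0, 0, []), (0, 0, []), (0, 0, []), (0, 0, []), (0, 0, []), (0, 0, []), (0, 0, []), (0, 0, []), (0, 0, []), (0, 0, []),
  (0, 0, []), (0, 0, []), (0, 0, []), (0, 0, []), (0, 0, []), (0, 0, []), (0, 0, []), (0, 0, []), (0, 0, []), (0, 0, []), (0, 0, []), (0, 0, []), (0,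
  0, []), (0, 0, []), (0, 0, []), (0, 0, []), (0, 0, []), (0, 0, []), (0, 0, []), (0, 0, []), (0, 0, []), (0, 0, []), (0, 0, []), (0, 0, []), (0, 0,
  []), (0, 0, []), (0, 0, []), (0, 0, []), (0, 0, []), (0, 0, []), (0, 0, []), (0, 0, []), (0, 0, []), (0, 0, []), (0, 0, []), (0, 0, []), (0, 0, []),
  (0, 0, []), (0, 0, []), (0, 0, []), (0, 0, []), (0, 0, []), (0, 0, []), (0, 0, []), (0, 0, []), (0, 0, []), (0, 0, []), (2, 0, [3, 9, 1, 3]), (2, 0,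
  [3, 9, 1, 3, 0]), (0, 0, []), (0, 0, []), (0, 0, []), (0, 0, []), (0, 0, []), (0, 0, []), (0, 0, []), (0, 0, []), (0, 0, []), (0, 0, []), (0, 0,
  []), (0, 0, []), (0, 0, []), (0, 0, []), (0, 0, []), (0, 0, []), (0, 0, []), (0, 0, []), (0, 0, []), (0, 0, []), (0, 0, []), (0, 0, []), (2, 0, [5,
  3, 1, 9, 3]), (2, 0, [5, 3, 1, 9, 3, 0]), (0, 0, []), (0, 0, []), (0, 0, []), (0, 0, []), (0, 0, []), (0, 0, []), (0, 0, []), (0, 0, []), (0, 0,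
  []), (0, 0, []), (0, 0, []), (0, 0, []), (0, 0, []), (0, 0, []), (2, 0, [3, 1, 9, 3, 0]), (2, 0, [3, 1, 9, 3]), (0, 0, []), (0, 0, []), (0, 0, []),
  (0, 0, []), (0, 0, []), (0, 0, []), (2, 0, [3, 9, 5, 6, 2]), (2, 0, [3, 9, 4, 5, 2]), (0, 0, []), (0, 0, []), (0, 0, []), (0, 0, []), (0, 0, []),
  (0, 0, []), (0, 0, []), (0, 0, []), (0, 0, []), (0, 0, []), (0, 0, []), (0, 0, []), (0, 0, []), (0, 0, []), (0, 0, []), (0, 0, []), (0, 0, []), (0,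
  0, []), (2, 0, [2]), (2, 0, [2, 0]), (0, 0, []), (0, 0, []), (2, 0, [5, 0, 2]), (2, 0, [5, 1, 2]), (0, 0, []), (0, 0, []), (0, 0, []), (0, 0, []),
  (0, 0, []), (0, 0, []), (0, 0, []), (0, 0, []), (0, 0, []), (0, 0, []), (0, 0, []), (0, 0, []), (0, 0, []), (0, 0, []), (0, 0, []), (0, 0, []), (0,
  0, []), (0, 0, []), (0, 0, []), (0, 0, []), (0, 0, []), (0, 0, []), (2, 0, [5, 2]), (2, 0, [5, 2, 0]), (0, 0, []), (0, 0, []), (0, 0, []), (0, 0,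
  []), (0, 0, []), (0, 0, []), (0, 0, []), (0, 0, []), (0, 0, []), (0, 0, []), (2, 0, [1, 2]), (2, 0, [0, 2]), (0, 0, []), (0, 0, []), (0, 0, []), (0,
  0, []), (0, 0, []), (0, 0, []), (0, 0, []), (0, 0, []), (0, 0, []), (0, 0, []), (0, 0, []), (0, 0, []), (0, 0, []), (0, 0, []), (0, 0, []), (0, 0,
  []), (0, 0, []), (0, 0, []), (0, 0, []), (0, 0, []), (0, 0, []), (0, 0, []), (2, 0, [6, 3, 1, 9, 3, 0]), (2, 0, [6, 3, 1, 9, 3]), (0, 0, []), (0, 0,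
  []), (0, 0, []), (0, 0, []), (0, 0, []), (0, 0, []), (0, 0, []), (0, 0, []), (0, 0, []), (0, 0, []), (0, 0, []), (0, 0, []), (0, 0, []), (0, 0, []),
  (0, 0, []), (0, 0, []), (0, 0, []), (0, 0, []), (3, 0, [5, 0, 2]), (3, 0, [5, 2]), (0, 0, []), (0, 0, []), (0, 0, []), (0, 0, []), (0, 0, []), (0,
  0, []), (0, 0, []), (0, 0, []), (0, 0, []), (0, 0, []), (0, 0, []), (0, 0, []), (0, 0, []), (0, 0, []), (0, 0, []), (0, 0, []), (0, 0, []), (0, 0,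
  []), (3, 0, [0, 2]), (3, 0, [2]), (0, 0, []), (0, 0, []), (2, 0, [4, 5, 3, 1, 9, 3]), (2, 0, [5, 6, 3, 1, 9, 3]), (0, 0, []), (0, 0, []), (0, 0,
  []), (0, 0, []), (0, 0, []), (0, 0, []), (0, 0, []), (0, 0, []), (0, 0, []), (0, 0, []), (0, 0, []), (0, 0, []), (0, 0, []), (0, 0, []), (0, 0, []),
  (0, 0, []), (0, 0, []), (0, 0, []), (0, 0, []), (0, 0, []), (0, 0, []), (0, 0, []), (0, 0, []), (0, 0, []), (0, 0, []), (0, 0, []), (0, 0, []), (0,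
  0, []), (0, 0, []), (0, 0, []), (0, 0, []), (0, 0, []), (0, 0, []), (0, 0, []), (0, 0, []), (0, 0, []), (0, 0, []), (0, 0, []), (0, 0, []), (0, 0,
  []), (0, 0, []), (0, 0, []), (0, 0, []), (0, 0, []), (0, 0, []), (0, 0, []), (0, 0, []), (0, 0, []), (0, 0, []), (0, 0, []), (0, 0, []), (0, 0, []),
  (0, 0, []), (0, 0, []), (0, 0, []), (0, 0, []), (0, 0, []), (0, 0, []), (0, 0, []), (0, 0, []), (0, 0, []), (0, 0, []), (0, 0, []), (0, 0, []), (0,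
  0, []), (0, 0, []), (0, 0, []), (0, 0, []), (0, 0, []), (0, 0, []), (0, 0, []), (0, 0, []), (0, 0, []), (0, 0, []), (0, 0, []), (0, 0, []), (0, 0,
  []), (0, 0, []), (0, 0, []), (0, 0, []), (0, 0, []), (0, 0, []), (0, 0, []), (0, 0, []), (0, 0, []), (0, 0, []), (0, 0, []), (0, 0, []), (0, 0, []),
  (0, 0, []), (0, 0, []), (0, 0, []), (0, 0, []), (0, 0, []), (2, 0, [3, 4, 1, 9, 3, 0]), (2, 0, [3, 4, 1, 9, 3]), (0, 0, []), (0, 0, []), (2, 0, [6,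
  5, 3, 1, 9, 3]), (2, 0, [6, 5, 3, 1, 9, 3, 0]), (0, 0, []), (0, 0, []), (0, 0, []), (0, 0, []), (0, 0, []), (0, 0, []), (0, 0, []), (0, 0, []), (0,
  0, []), (0, 0, []), (2, 0, [9, 4, 3, 9, 1, 3, 0]), (2, 0, [9, 4, 3, 9, 1, 3]), (0, 0, []), (0, 0, []), (2, 0, [6, 9, 4, 3, 1, 9, 3]), (2, 0, [5, 9,
  4, 3, 9, 1, 3]), (0, 0, []), (0, 0, []), (0, 0, []), (0, 0, []), (0, 0, []), (0, 0, []), (0, 0, []), (0, 0, []), (0, 0, []), (0, 0, []), (0, 0, []),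
  (0, 0, []), (0, 0, []), (0, 0, []), (0, 0, []), (0, 0, []), (0, 0, []), (0, 0, []), (0, 0, []), (0, 0, []), (0, 0, []), (0, 0, []), (0, 0, []), (0,
  0, []), (0, 0, []), (0, 0, []), (0, 0, []), (0, 0, []), (0, 0, []), (0, 0, []), (0, 0, []), (0, 0, []), (0, 0, []), (0, 0, []), (0, 0, []), (0, 0,
  []), (0, 0, []), (0, 0, []), (0, 0, []), (0, 0, []), (0, 0, []), (0, 0, []), (0, 0, []), (0, 0, []), (0, 0, []), (0, 0, []), (0, 0, []), (0, 0, []),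
  (0, 0, []), (0, 0, []), (0, 0, []), (0, 0, []), (0, 0, []), (0, 0, []), (0, 0, []), (0, 0, []), (0, 0, []), (0, 0, []), (0, 0, []), (0, 0, []), (0,
  0, []), (0, 0, []), (0, 0, []), (0, 0, []), (0, 0, []), (0, 0, []), (0, 0, []), (0, 0, []), (0, 0, []), (0, 0, []), (0, 0, []), (0, 0, []), (0, 0,
  []), (0, 0, []), (0, 0, []), (0, 0, []), (0, 0, []), (0, 0, []), (0, 0, []), (0, 0, []), (0, 0, []), (0, 0, []), (0, 0, []), (0, 0, []), (0, 0, []),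
  (0, 0, []), (0, 0, []), (0, 0, []), (0, 0, []), (0, 0, []), (0, 0, []), (0, 0, []), (0, 0, []), (0, 0, []), (0, 0, []), (0, 0, []), (0, 0, []), (0,
  0, []), (0, 0, []), (0, 0, []), (0, 0, []), (0, 0, []), (0, 0, []), (0, 0, []), (0, 0, []), (0, 0, []), (0, 0, []), (0, 0, []), (0, 0, []), (0, 0,
  []), (0, 0, []), (0, 0, []), (0, 0, []), (0, 0, []), (0, 0, []), (0, 0, []), (0, 0, []), (0, 0, []), (0, 0, []), (0, 0, []), (0, 0, []), (0, 0, []),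
  (2, 0, [0, 3, 4, 9, 1, 3]), (2, 0, [9, 4, 3, 1, 9, 3]), (0, 0, []), (0, 0, []), (3, 0, [0, 4]), (3, 0, [2, 0, 4]), (0, 0, []), (0, 0, []), (0, 0,
  []), (0, 0, []), (0, 0, []), (0, 0, []), (0, 0, []), (0, 0, []), (0, 0, []), (0, 0, []), (0, 0, []), (0, 0, []), (0, 0, []), (0, 0, []), (0, 0, []),
  (0, 0, []), (0, 0, []), (0, 0, []), (2, 0, [3, 4, 9, 1, 3]), (2, 0, [3, 4, 9, 1, 3, 0]), (0, 0, []), (0, 0, []), (3, 0, [5, 4]), (3, 0, [4]), (0, 0,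
  []), (0, 0, []), (0, 0, []), (0, 0, []), (0, 0, []), (0, 0, []), (0, 0, []), (0, 0, []), (0, 0, []), (0, 0, []), (2, 0, [4, 3, 9, 1, 3]), (2, 0, [4,
  3, 9, 1, 3, 0]), (0, 0, []), (0, 0, []), (0, 0, []), (0, 0, []), (0, 0, []), (0, 0, []), (2, 0, [9, 3, 4, 1, 9, 3]), (2, 0, [0, 4, 3, 9, 1, 3]), (0,
  0, []), (0, 0, []), (0, 0, []), (0, 0, []), (0, 0, []), (0, 0, []), (0, 0, []), (0, 0, []), (0, 0, []), (0, 0, []), (0, 0, []), (0, 0, []), (0, 0,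
  []), (0, 0, []), (0, 0, []), (0, 0, []), (0, 0, []), (0, 0, []), (2, 0, [3, 6, 3, 0, 9, 4]), (2, 0, [4, 6, 3, 1, 9, 3]), (0, 0, []), (0, 0, []), (0,
  0, []), (0, 0, []), (0, 0, []), (0, 0, []), (0, 0, []), (0, 0, []), (0, 0, []), (0, 0, []), (0, 0, []), (0, 0, []), (0, 0, []), (0, 0, []), (0, 0,
  []), (0, 0, []), (0, 0, []), (0, 0, []), (0, 0, []), (0, 0, []), (0, 0, []), (0, 0, []), (2, 0, [6, 3, 1, 9, 3, 2]), (2, 0, [6, 3, 9, 2, 1, 3]), (0,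
  0, []), (0, 0, []), (0, 0, []), (0, 0, []), (0, 0, []), (0, 0, []), (0, 0, []), (0, 0, []), (0, 0, []), (0, 0, []), (0, 0, []), (0, 0, []), (0, 0,
  []), (0, 0, []), (0, 0, []), (0, 0, []), (0, 0, []), (0, 0, []), (0, 0, []), (0, 0, []), (0, 0, []), (0, 0, []), (0, 0, []), (0, 0, []), (0, 0, []),
  (0, 0, []), (0, 0, []), (0, 0, []), (0, 0, []), (0, 0, []), (0, 0, []), (0, 0, []), (0, 0, []), (0, 0, []), (0, 0, []), (0, 0, []), (0, 0, []), (0,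
  0, []), (0, 0, []), (0, 0, []), (0, 0, []), (0, 0, []), (0, 0, []), (0, 0, []), (0, 0, []), (0, 0, []), (0, 0, []), (0, 0, []), (0, 0, []), (0, 0,
  []), (0, 0, []), (0, 0, []), (0, 0, []), (0, 0, []), (0, 0, []), (0, 0, []), (0, 0, []), (0, 0, []), (0, 0, []), (0, 0, []), (0, 0, []), (0, 0, []),
  (0, 0, []), (0, 0, []), (0, 0, []), (0, 0, []), (0, 0, []), (0, 0, []), (0, 0, []), (0, 0, []), (0, 0, []), (0, 0, []), (0, 0, []), (0, 0, []), (2,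
  0, [4, 3, 1, 9, 3]), (2, 0, [4, 3, 1, 9, 3, 0]), (0, 0, []), (0, 0, []), (0, 0, []), (0, 0, []), (0, 0, []), (0, 0, []), (0, 0, []), (0, 0, []), (0,
  0, []), (0, 0, []), (3, 0, [9, 4]), (3, 0, [6]), (0, 0, []), (0, 0, []), (0, 0, []), (0, 0, []), (0, 0, []), (0, 0, []), (0, 0, []), (0, 0, []), (0,
  0, []), (0, 0, []), (0, 0, []), (0, 0, []), (0, 0, []), (0, 0, []), (3, 0, [4, 2]), (3, 0, [5, 6]), (0, 0, []), (0, 0, []), (0, 0, []), (0, 0, []),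
  (0, 0, []), (0, 0, []), (0, 0, []), (0, 0, []), (0, 0, []), (0, 0, []), (0, 0, []), (0, 0, []), (0, 0, []), (0, 0, []), (0, 0, []), (0, 0, []), (0,
  0, []), (0, 0, []), (2, 0, [6, 3, 9, 1, 3, 2]), (2, 0, [3, 0, 4, 9, 1, 3]), (0, 0, []), (0, 0, []), (0, 0, []), (0, 0, []), (0, 0, []), (0, 0, []),
  (0, 0, []), (0, 0, []), (0, 0, []), (0, 0, []), (0, 0, []), (0, 0, []), (0, 0, []), (0, 0, []), (0, 0, []), (0, 0, []), (0, 0, []), (0, 0, []), (0,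
  0, []), (0, 0, []), (0, 0, []), (0, 0, []), (0, 0, []), (0, 0, []), (0, 0, []), (0, 0, []), (0, 0, []), (0, 0, []), (0, 0, []), (0, 0, []), (0, 0,
  []), (0, 0, []), (0, 0, []), (0, 0, []), (0, 0, []), (0, 0, []), (0, 0, []), (0, 0, []), (0, 0, []), (0, 0, []), (0, 0, []), (0, 0, []), (0, 0, []),
  (0, 0, []), (0, 0, []), (0, 0, []), (0, 0, []), (0, 0, []), (0, 0, []), (0, 0, []), (0, 0, []), (0, 0, []), (0, 0, []), (0, 0, []), (0, 0, []), (0,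
  0, []), (0, 0, []), (0, 0, []), (0, 0, []), (0, 0, []), (0, 0, []), (0, 0, []), (0, 0, []), (0, 0, []), (0, 0, []), (0, 0, []), (0, 0, []), (0, 0,
  []), (0, 0, []), (0, 0, [])]

/-- For each root: the kind, the conjugator and the product. -/
def rootCert : List (ℕ × List ℕ × List ℕ) := [(0, [], []), (0, [], []), (0, [], []), (0, [], []), (0, [], []), (0, [], []), (0, [], []), (0, [], []), (0, [], []), (0, [], []), (0, [], []), (0,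
  [], []), (0, [], []), (0, [], []), (0, [], []), (0, [], []), (0, [], []), (0, [], []), (0, [], []), (0, [], []), (0, [], []), (0, [], []), (0, [],
  []), (0, [], []), (0, [], []), (0, [], []), (0, [], []), (0, [], []), (0, [], []), (0, [], []), (0, [], []), (0, [], []), (0, [], []), (0, [], []),
  (0, [], []), (0, [], []), (0, [], []), (0, [], []), (0, [], []), (0, [], []), (0, [], []), (0, [], []), (0, [], []), (0, [], []), (0, [], []), (0,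
  [], []), (0, [], []), (0, [], []), (0, [], []), (0, [], []), (0, [], []), (0, [], []), (0, [], []), (0, [], []), (0, [], []), (0, [], []), (0, [],
  []), (0, [], []), (0, [], []), (0, [], []), (0, [], []), (0, [], []), (0, [], []), (0, [], []), (0, [], []), (0, [], []), (1, [2, 0, 2, 6, 1, 6],
  [0, 1]), (1, [2, 0, 2, 6, 1, 6], [0, 1]), (1, [2, 4, 0, 9, 6, 4], [0, 1]), (1, [2, 4, 0, 9, 6, 4], [0, 1]), (1, [2, 0, 2, 6, 1, 6], [0, 1]), (1, [2,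
  0, 2, 6, 1, 6], [0, 1]), (1, [2, 5, 3, 1, 9, 3], [0, 1]), (1, [2, 5, 3, 1, 9, 3], [0, 1]), (1, [2, 0, 2, 6, 1, 6], [0, 1]), (1, [2, 0, 2, 6, 1, 6],
  [0, 1]), (0, [], []), (0, [], []), (1, [2, 0, 2, 6, 1, 6], [0, 1]), (1, [2, 0, 2, 6, 1, 6], [0, 1]), (0, [], []), (0, [], []), (1, [2, 0, 2, 6, 1,
  6], [0, 1]), (1, [2, 0, 2, 6, 1, 6], [0, 1]), (1, [4, 0, 9, 4], [0, 1]), (1, [4, 0, 9, 4], [0, 1]), (1, [2, 0, 2, 6, 1, 6], [0, 1]), (1, [2, 0, 2,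
  6, 1, 6], [0, 1]), (1, [3, 1, 9, 3], [0, 1]), (1, [3, 1, 9, 3], [0, 1]), (1, [2, 0, 2, 6, 1, 6], [0, 1]), (1, [2, 0, 2, 6, 1, 6], [0, 1]), (0, [],
  []), (0, [], []), (1, [2, 0, 2, 6, 1, 6], [0, 1]), (1, [2, 0, 2, 6, 1, 6], [0, 1]), (1, [2, 5, 3, 1, 9, 3], [0, 1]), (1, [2, 5, 3, 1, 9, 3], [0,
  1]), (1, [2, 0, 2, 6, 1, 6], [0, 1]), (1, [2, 0, 2, 6, 1, 6], [0, 1]), (0, [], []), (0, [], []), (1, [2, 0, 2, 6, 1, 6], [0, 1]), (1, [2, 0, 2, 6,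
  1, 6], [0, 1]), (0, [], []), (0, [], []), (1, [2, 0, 2, 6, 1, 6], [0, 1]), (1, [2, 0, 2, 6, 1, 6], [0, 1]), (1, [2, 4, 0, 9, 6, 4], [0, 1]), (1, [2,
  4, 0, 9, 6, 4], [0, 1]), (1, [2, 0, 2, 6, 1, 6], [0, 1]), (1, [2, 0, 2, 6, 1, 6], [0, 1]), (1, [3, 1, 9, 3], [0, 1]), (1, [3, 1, 9, 3], [0, 1]), (1,
  [2, 0, 2, 6, 1, 6], [0, 1]), (1, [2, 0, 2, 6, 1, 6], [0, 1]), (0, [], []), (0, [], []), (1, [2, 0, 2, 6, 1, 6], [0, 1]), (1, [2, 0, 2, 6, 1, 6], [0,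
  1]), (0, [], []), (0, [], []), (1, [2, 0, 2, 6, 1, 6], [0, 1]), (1, [2, 0, 2, 6, 1, 6], [0, 1]), (1, [4, 0, 9, 4], [0, 1]), (1, [4, 0, 9, 4], [0,
  1]), (1, [2, 0, 2, 6, 1, 6], [0, 1]), (1, [2, 0, 2, 6, 1, 6], [0, 1]), (0, [], []), (0, [], []), (1, [2, 0, 2, 9, 0], [0, 1]), (1, [2, 0, 2, 9, 0],
  [0, 1]), (0, [], []), (0, [], []), (1, [2, 0, 2, 9, 0], [0, 1]), (1, [2, 0, 2, 9, 0], [0, 1]), (1, [4, 9, 0, 2, 4, 5], [0, 1]), (1, [4, 9, 0, 2, 4,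
  5], [0, 1]), (1, [2, 0, 2, 9, 5], [0, 1]), (1, [2, 0, 2, 9, 5], [0, 1]), (1, [4, 9, 0, 2, 4, 5], [0, 1]), (1, [4, 9, 0, 2, 4, 5], [0, 1]), (1, [2,
  0, 2, 9, 5], [0, 1]), (1, [2, 0, 2, 9, 5], [0, 1]), (1, [4, 9, 0, 2, 4, 5], [0, 1]), (1, [4, 9, 0, 2, 4, 5], [0, 1]), (1, [2, 0, 2, 9, 5], [0, 1]),
  (1, [2, 0, 2, 9, 5], [0, 1]), (1, [4, 9, 0, 2, 4, 5], [0, 1]), (1, [4, 9, 0, 2, 4, 5], [0, 1]), (1, [2, 0, 2, 9, 5], [0, 1]), (1, [2, 0, 2, 9, 5],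
  [0, 1]), (0, [], []), (0, [], []), (1, [2, 0, 2, 9, 0], [0, 1]), (1, [2, 0, 2, 9, 0], [0, 1]), (0, [], []), (0, [], []), (1, [2, 0, 2, 9, 0], [0,
  1]), (1, [2, 0, 2, 9, 0], [0, 1]), (1, [4, 9, 0, 2, 4, 5], [0, 1]), (1, [4, 9, 0, 2, 4, 5], [0, 1]), (1, [2, 0, 2, 9, 5], [0, 1]), (1, [2, 0, 2, 9,
  5], [0, 1]), (1, [4, 9, 0, 2, 4, 5], [0, 1]), (1, [4, 9, 0, 2, 4, 5], [0, 1]), (1, [2, 0, 2, 9, 5], [0, 1]), (1, [2, 0, 2, 9, 5], [0, 1]), (0, [],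
  []), (0, [], []), (1, [2, 0, 2, 9, 0], [0, 1]), (1, [2, 0, 2, 9, 0], [0, 1]), (0, [], []), (0, [], []), (1, [2, 0, 2, 9, 0], [0, 1]), (1, [2, 0, 2,
  9, 0], [0, 1]), (0, [], []), (0, [], []), (1, [2, 0, 2, 9, 0], [0, 1]), (1, [2, 0, 2, 9, 0], [0, 1]), (0, [], []), (0, [], []), (1, [2, 0, 2, 9, 0],
  [0, 1]), (1, [2, 0, 2, 9, 0], [0, 1]), (1, [4, 9, 0, 2, 4, 5], [0, 1]), (1, [4, 9, 0, 2, 4, 5], [0, 1]), (1, [2, 0, 2, 9, 5], [0, 1]), (1, [2, 0, 2,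
  9, 5], [0, 1]), (1, [4, 9, 0, 2, 4, 5], [0, 1]), (1, [4, 9, 0, 2, 4, 5], [0, 1]), (1, [2, 0, 2, 9, 5], [0, 1]), (1, [2, 0, 2, 9, 5], [0, 1]), (1,
  [2, 4, 0, 9, 6, 4], [0, 1]), (1, [2, 4, 0, 9, 6, 4], [0, 1]), (1, [5], [0, 1]), (1, [5], [0, 1]), (0, [], []), (0, [], []), (1, [1, 5], [0, 1]), (1,
  [1, 5], [0, 1]), (2, [2, 5], []), (2, [2, 5], []), (1, [5], [0, 1]), (1, [5], [0, 1]), (0, [], []), (0, [], []), (1, [1, 5], [0, 1]), (1, [1, 5],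
  [0, 1]), (0, [], []), (0, [], []), (1, [1, 5], [0, 1]), (1, [1, 5], [0, 1]), (1, [4, 0, 9, 4], [0, 1]), (1, [4, 0, 9, 4], [0, 1]), (1, [5], [0, 1]),
  (1, [5], [0, 1]), (0, [], []), (0, [], []), (1, [1, 5], [0, 1]), (1, [1, 5], [0, 1]), (2, [2, 5], []), (2, [2, 5], []), (1, [5], [0, 1]), (1, [5],
  [0, 1]), (2, [2, 5], []), (2, [2, 5], []), (1, [5], [0, 1]), (1, [5], [0, 1]), (0, [], []), (0, [], []), (1, [1, 5], [0, 1]), (1, [1, 5], [0, 1]),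
  (1, [2, 4, 0, 9, 6, 4], [0, 1]), (1, [2, 4, 0, 9, 6, 4], [0, 1]), (1, [5], [0, 1]), (1, [5], [0, 1]), (0, [], []), (0, [], []), (1, [1, 5], [0, 1]),
  (1, [1, 5], [0, 1]), (0, [], []), (0, [], []), (1, [1, 5], [0, 1]), (1, [1, 5], [0, 1]), (2, [2, 5], []), (2, [2, 5], []), (1, [5], [0, 1]), (1,
  [5], [0, 1]), (0, [], []), (0, [], []), (1, [1, 5], [0, 1]), (1, [1, 5], [0, 1]), (1, [4, 0, 9, 4], [0, 1]), (1, [4, 0, 9, 4], [0, 1]), (1, [5], [0,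
  1]), (1, [5], [0, 1]), (0, [], []), (0, [], []), (1, [6, 1, 6, 9], [0, 1]), (1, [6, 1, 6, 9], [0, 1]), (1, [2, 3, 1, 9, 3, 5], [0, 1]), (1, [2, 3,
  1, 9, 3, 5], [0, 1]), (1, [6, 1, 6, 9], [0, 1]), (1, [6, 1, 6, 9], [0, 1]), (0, [], []), (0, [], []), (1, [6, 1, 6, 9], [0, 1]), (1, [6, 1, 6, 9],
  [0, 1]), (1, [4, 0, 9, 4], [0, 1]), (1, [4, 0, 9, 4], [0, 1]), (1, [6, 1, 6, 9], [0, 1]), (1, [6, 1, 6, 9], [0, 1]), (1, [2, 3, 1, 9, 3, 5], [0,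
  1]), (1, [2, 3, 1, 9, 3, 5], [0, 1]), (1, [6, 1, 6, 9], [0, 1]), (1, [6, 1, 6, 9], [0, 1]), (0, [], []), (0, [], []), (1, [6, 1, 6, 9], [0, 1]), (1,
  [6, 1, 6, 9], [0, 1]), (1, [2, 3, 1, 9, 3, 5], [0, 1]), (1, [2, 3, 1, 9, 3, 5], [0, 1]), (1, [6, 1, 6, 9], [0, 1]), (1, [6, 1, 6, 9], [0, 1]), (0,
  [], []), (0, [], []), (1, [6, 1, 6, 9], [0, 1]), (1, [6, 1, 6, 9], [0, 1]), (0, [], []), (0, [], []), (1, [6, 1, 6, 9], [0, 1]), (1, [6, 1, 6, 9],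
  [0, 1]), (1, [4, 0, 9, 4], [0, 1]), (1, [4, 0, 9, 4], [0, 1]), (1, [6, 1, 6, 9], [0, 1]), (1, [6, 1, 6, 9], [0, 1]), (0, [], []), (0, [], []), (1,
  [6, 1, 6, 9], [0, 1]), (1, [6, 1, 6, 9], [0, 1]), (1, [2, 3, 1, 9, 3, 5], [0, 1]), (1, [2, 3, 1, 9, 3, 5], [0, 1]), (1, [6, 1, 6, 9], [0, 1]), (1,
  [6, 1, 6, 9], [0, 1]), (1, [2, 3, 1, 9, 3, 5], [0, 1]), (1, [2, 3, 1, 9, 3, 5], [0, 1]), (1, [6, 1, 6, 9], [0, 1]), (1, [6, 1, 6, 9], [0, 1]), (0,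
  [], []), (0, [], []), (1, [6, 1, 6, 9], [0, 1]), (1, [6, 1, 6, 9], [0, 1]), (1, [2, 3, 1, 9, 3, 5], [0, 1]), (1, [2, 3, 1, 9, 3, 5], [0, 1]), (1,
  [6, 1, 6, 9], [0, 1]), (1, [6, 1, 6, 9], [0, 1]), (0, [], []), (0, [], []), (1, [6, 1, 6, 9], [0, 1]), (1, [6, 1, 6, 9], [0, 1]), (0, [], []), (0,
  [], []), (1, [0, 5], [0, 1]), (1, [0, 5], [0, 1]), (0, [], []), (0, [], []), (1, [0, 5], [0, 1]), (1, [0, 5], [0, 1]), (1, [2, 5, 3, 1, 9, 3], [0,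
  1]), (1, [2, 5, 3, 1, 9, 3], [0, 1]), (1, [5], [0, 1]), (1, [5], [0, 1]), (2, [2, 5], []), (2, [2, 5], []), (1, [5], [0, 1]), (1, [5], [0, 1]), (1,
  [3, 1, 9, 3], [0, 1]), (1, [3, 1, 9, 3], [0, 1]), (1, [5], [0, 1]), (1, [5], [0, 1]), (2, [2, 5], []), (2, [2, 5], []), (1, [5], [0, 1]), (1, [5],
  [0, 1]), (0, [], []), (0, [], []), (1, [0, 5], [0, 1]), (1, [0, 5], [0, 1]), (0, [], []), (0, [], []), (1, [0, 5], [0, 1]), (1, [0, 5], [0, 1]), (1,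
  [2, 5, 3, 1, 9, 3], [0, 1]), (1, [2, 5, 3, 1, 9, 3], [0, 1]), (1, [5], [0, 1]), (1, [5], [0, 1]), (2, [2, 5], []), (2, [2, 5], []), (1, [5], [0,
  1]), (1, [5], [0, 1]), (0, [], []), (0, [], []), (1, [0, 5], [0, 1]), (1, [0, 5], [0, 1]), (0, [], []), (0, [], []), (1, [0, 5], [0, 1]), (1, [0,
  5], [0, 1]), (0, [], []), (0, [], []), (1, [0, 5], [0, 1]), (1, [0, 5], [0, 1]), (0, [], []), (0, [], []), (1, [0, 5], [0, 1]), (1, [0, 5], [0, 1]),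
  (1, [3, 1, 9, 3], [0, 1]), (1, [3, 1, 9, 3], [0, 1]), (1, [5], [0, 1]), (1, [5], [0, 1]), (2, [2, 5], []), (2, [2, 5], []), (1, [5], [0, 1]), (1,
  [5], [0, 1]), (1, [3, 1, 9, 3], [0, 1]), (1, [3, 1, 9, 3], [0, 1]), (1, [5], [0, 1]), (1, [5], [0, 1]), (0, [], []), (0, [], []), (1, [1, 5], [0,
  1]), (1, [1, 5], [0, 1]), (0, [], []), (0, [], []), (1, [1, 5], [0, 1]), (1, [1, 5], [0, 1]), (1, [4, 0, 9, 4], [0, 1]), (1, [4, 0, 9, 4], [0, 1]),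
  (1, [5], [0, 1]), (1, [5], [0, 1]), (2, [2, 5], []), (2, [2, 5], []), (1, [5], [0, 1]), (1, [5], [0, 1]), (0, [], []), (0, [], []), (1, [1, 5], [0,
  1]), (1, [1, 5], [0, 1]), (0, [], []), (0, [], []), (1, [1, 5], [0, 1]), (1, [1, 5], [0, 1]), (2, [2, 5], []), (2, [2, 5], []), (1, [5], [0, 1]),
  (1, [5], [0, 1]), (0, [], []), (0, [], []), (1, [1, 5], [0, 1]), (1, [1, 5], [0, 1]), (1, [4, 0, 9, 4], [0, 1]), (1, [4, 0, 9, 4], [0, 1]), (1, [5],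
  [0, 1]), (1, [5], [0, 1]), (1, [3, 1, 9, 3], [0, 1]), (1, [3, 1, 9, 3], [0, 1]), (1, [5], [0, 1]), (1, [5], [0, 1]), (0, [], []), (0, [], []), (1,
  [1, 5], [0, 1]), (1, [1, 5], [0, 1]), (0, [], []), (0, [], []), (1, [1, 5], [0, 1]), (1, [1, 5], [0, 1]), (2, [2, 5], []), (2, [2, 5], []), (1, [5],
  [0, 1]), (1, [5], [0, 1]), (2, [2, 5], []), (2, [2, 5], []), (1, [5], [0, 1]), (1, [5], [0, 1]), (0, [], []), (0, [], []), (1, [1, 5], [0, 1]), (1,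
  [1, 5], [0, 1]), (0, [], []), (0, [], []), (1, [9, 5], [0, 1]), (1, [9, 5], [0, 1]), (0, [], []), (0, [], []), (1, [9, 5], [0, 1]), (1, [9, 5], [0,
  1]), (0, [], []), (0, [], []), (1, [9, 5], [0, 1]), (1, [9, 5], [0, 1]), (0, [], []), (0, [], []), (1, [9, 5], [0, 1]), (1, [9, 5], [0, 1]), (0, [],
  []), (0, [], []), (1, [9, 5], [0, 1]), (1, [9, 5], [0, 1]), (0, [], []), (0, [], []), (1, [9, 5], [0, 1]), (1, [9, 5], [0, 1]), (0, [], []), (0, [],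
  []), (1, [9, 5], [0, 1]), (1, [9, 5], [0, 1]), (0, [], []), (0, [], []), (1, [9, 5], [0, 1]), (1, [9, 5], [0, 1]), (0, [], []), (0, [], []), (1, [9,
  5], [0, 1]), (1, [9, 5], [0, 1]), (0, [], []), (0, [], []), (1, [9, 5], [0, 1]), (1, [9, 5], [0, 1]), (0, [], []), (0, [], []), (1, [9, 5], [0, 1]),
  (1, [9, 5], [0, 1]), (0, [], []), (0, [], []), (1, [9, 5], [0, 1]), (1, [9, 5], [0, 1]), (0, [], []), (0, [], []), (1, [9, 5], [0, 1]), (1, [9, 5],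
  [0, 1]), (0, [], []), (0, [], []), (1, [9, 5], [0, 1]), (1, [9, 5], [0, 1]), (0, [], []), (0, [], []), (1, [9, 5], [0, 1]), (1, [9, 5], [0, 1]), (0,
  [], []), (0, [], []), (1, [9, 5], [0, 1]), (1, [9, 5], [0, 1]), (1, [9, 0], [0, 1]), (1, [9, 0], [0, 1]), (0, [], []), (0, [], []), (1, [9, 0], [0,
  1]), (1, [9, 0], [0, 1]), (0, [], []), (0, [], []), (1, [9, 1], [0, 1]), (1, [9, 1], [0, 1]), (0, [], []), (0, [], []), (1, [9, 1], [0, 1]), (1, [9,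
  1], [0, 1]), (0, [], []), (0, [], []), (1, [9, 1], [0, 1]), (1, [9, 1], [0, 1]), (0, [], []), (0, [], []), (1, [9, 1], [0, 1]), (1, [9, 1], [0, 1]),
  (0, [], []), (0, [], []), (1, [9, 0], [0, 1]), (1, [9, 0], [0, 1]), (0, [], []), (0, [], []), (1, [9, 0], [0, 1]), (1, [9, 0], [0, 1]), (0, [], []),
  (0, [], []), (1, [9, 1], [0, 1]), (1, [9, 1], [0, 1]), (0, [], []), (0, [], []), (1, [9, 1], [0, 1]), (1, [9, 1], [0, 1]), (0, [], []), (0, [], []),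
  (1, [9, 0], [0, 1]), (1, [9, 0], [0, 1]), (0, [], []), (0, [], []), (1, [9, 0], [0, 1]), (1, [9, 0], [0, 1]), (0, [], []), (0, [], []), (1, [9, 0],
  [0, 1]), (1, [9, 0], [0, 1]), (0, [], []), (0, [], []), (1, [9, 0], [0, 1]), (1, [9, 0], [0, 1]), (0, [], []), (0, [], []), (1, [9, 1], [0, 1]), (1,
  [9, 1], [0, 1]), (0, [], []), (0, [], []), (1, [9, 1], [0, 1]), (1, [9, 1], [0, 1]), (0, [], []), (0, [], []), (1, [0, 5], [0, 1]), (1, [0, 5], [0,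
  1]), (1, [0], [0, 1]), (1, [0], [0, 1]), (1, [0, 5], [0, 1]), (1, [0, 5], [0, 1]), (1, [0], [0, 1]), (1, [0], [0, 1]), (0, [], []), (0, [], []), (2,
  [0, 4], []), (2, [0, 4], []), (0, [], []), (0, [], []), (2, [0, 4], []), (2, [0, 4], []), (0, [], []), (0, [], []), (2, [0, 4], []), (2, [0, 4],
  []), (0, [], []), (0, [], []), (2, [0, 4], []), (2, [0, 4], []), (1, [0, 5], [0, 1]), (1, [0, 5], [0, 1]), (1, [0], [0, 1]), (1, [0], [0, 1]), (1,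
  [0, 5], [0, 1]), (1, [0, 5], [0, 1]), (1, [0], [0, 1]), (1, [0], [0, 1]), (0, [], []), (0, [], []), (2, [0, 4], []), (2, [0, 4], []), (0, [], []),
  (0, [], []), (2, [0, 4], []), (2, [0, 4], []), (1, [0, 5], [0, 1]), (1, [0, 5], [0, 1]), (1, [0], [0, 1]), (1, [0], [0, 1]), (1, [0, 5], [0, 1]),
  (1, [0, 5], [0, 1]), (1, [0], [0, 1]), (1, [0], [0, 1]), (1, [0, 5], [0, 1]), (1, [0, 5], [0, 1]), (1, [0], [0, 1]), (1, [0], [0, 1]), (1, [0, 5],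
  [0, 1]), (1, [0, 5], [0, 1]), (1, [0], [0, 1]), (1, [0], [0, 1]), (0, [], []), (0, [], []), (2, [0, 4], []), (2, [0, 4], []), (0, [], []), (0, [],
  []), (2, [0, 4], []), (2, [0, 4], []), (1, [9, 0], [0, 1]), (1, [9, 0], [0, 1]), (0, [], []), (0, [], []), (1, [9, 0], [0, 1]), (1, [9, 0], [0, 1]),
  (0, [], []), (0, [], []), (1, [9, 1], [0, 1]), (1, [9, 1], [0, 1]), (0, [], []), (0, [], []), (1, [9, 1], [0, 1]), (1, [9, 1], [0, 1]), (0, [], []),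
  (0, [], []), (1, [9, 1], [0, 1]), (1, [9, 1], [0, 1]), (0, [], []), (0, [], []), (1, [9, 1], [0, 1]), (1, [9, 1], [0, 1]), (0, [], []), (0, [], []),
  (1, [9, 0], [0, 1]), (1, [9, 0], [0, 1]), (0, [], []), (0, [], []), (1, [9, 0], [0, 1]), (1, [9, 0], [0, 1]), (0, [], []), (0, [], []), (1, [9, 1],
  [0, 1]), (1, [9, 1], [0, 1]), (0, [], []), (0, [], []), (1, [9, 1], [0, 1]), (1, [9, 1], [0, 1]), (0, [], []), (0, [], []), (1, [9, 0], [0, 1]), (1,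
  [9, 0], [0, 1]), (0, [], []), (0, [], []), (1, [9, 0], [0, 1]), (1, [9, 0], [0, 1]), (0, [], []), (0, [], []), (1, [9, 0], [0, 1]), (1, [9, 0], [0,
  1]), (0, [], []), (0, [], []), (1, [9, 0], [0, 1]), (1, [9, 0], [0, 1]), (0, [], []), (0, [], []), (1, [9, 1], [0, 1]), (1, [9, 1], [0, 1]), (0, [],
  []), (0, [], []), (1, [9, 1], [0, 1]), (1, [9, 1], [0, 1]), (0, [], []), (0, [], []), (1, [6, 1, 6, 0], [0, 1]), (1, [6, 1, 6, 0], [0, 1]), (1, [6,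
  1, 6, 0], [0, 1]), (1, [6, 1, 6, 0], [0, 1]), (1, [6, 1, 6, 0], [0, 1]), (1, [6, 1, 6, 0], [0, 1]), (1, [6, 1, 6, 0], [0, 1]), (1, [6, 1, 6, 0], [0,
  1]), (0, [], []), (0, [], []), (0, [], []), (0, [], []), (0, [], []), (0, [], []), (0, [], []), (0, [], []), (0, [], []), (0, [], []), (0, [], []),
  (0, [], []), (0, [], []), (0, [], []), (0, [], []), (0, [], []), (1, [6, 1, 6, 0], [0, 1]), (1, [6, 1, 6, 0], [0, 1]), (1, [6, 1, 6, 0], [0, 1]),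
  (1, [6, 1, 6, 0], [0, 1]), (1, [6, 1, 6, 0], [0, 1]), (1, [6, 1, 6, 0], [0, 1]), (1, [6, 1, 6, 0], [0, 1]), (1, [6, 1, 6, 0], [0, 1]), (0, [], []),
  (0, [], []), (0, [], []), (0, [], []), (0, [], []), (0, [], []), (0, [], []), (0, [], []), (1, [6, 1, 6, 0], [0, 1]), (1, [6, 1, 6, 0], [0, 1]), (1,
  [6, 1, 6, 0], [0, 1]), (1, [6, 1, 6, 0], [0, 1]), (1, [6, 1, 6, 0], [0, 1]), (1, [6, 1, 6, 0], [0, 1]), (1, [6, 1, 6, 0], [0, 1]), (1, [6, 1, 6, 0],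
  [0, 1]), (1, [6, 1, 6, 0], [0, 1]), (1, [6, 1, 6, 0], [0, 1]), (1, [6, 1, 6, 0], [0, 1]), (1, [6, 1, 6, 0], [0, 1]), (1, [6, 1, 6, 0], [0, 1]), (1,
  [6, 1, 6, 0], [0, 1]), (1, [6, 1, 6, 0], [0, 1]), (1, [6, 1, 6, 0], [0, 1]), (0, [], []), (0, [], []), (0, [], []), (0, [], []), (0, [], []), (0,
  [], []), (0, [], []), (0, [], []), (1, [5], [0, 1]), (1, [5], [0, 1]), (2, [0, 6], []), (2, [0, 6], []), (1, [5], [0, 1]), (1, [5], [0, 1]), (2, [0,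
  6], []), (2, [0, 6], []), (0, [], []), (0, [], []), (1, [0], [0, 1]), (1, [0], [0, 1]), (0, [], []), (0, [], []), (1, [0], [0, 1]), (1, [0], [0,
  1]), (0, [], []), (0, [], []), (1, [0], [0, 1]), (1, [0], [0, 1]), (0, [], []), (0, [], []), (1, [0], [0, 1]), (1, [0], [0, 1]), (1, [5], [0, 1]),
  (1, [5], [0, 1]), (2, [0, 6], []), (2, [0, 6], []), (1, [5], [0, 1]), (1, [5], [0, 1]), (2, [0, 6], []), (2, [0, 6], []), (0, [], []), (0, [], []),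
  (1, [0], [0, 1]), (1, [0], [0, 1]), (0, [], []), (0, [], []), (1, [0], [0, 1]), (1, [0], [0, 1]), (1, [5], [0, 1]), (1, [5], [0, 1]), (2, [0, 6],
  []), (2, [0, 6], []), (1, [5], [0, 1]), (1, [5], [0, 1]), (2, [0, 6], []), (2, [0, 6], []), (1, [5], [0, 1]), (1, [5], [0, 1]), (2, [0, 6], []), (2,
  [0, 6], []), (1, [5], [0, 1]), (1, [5], [0, 1]), (2, [0, 6], []), (2, [0, 6], []), (0, [], []), (0, [], []), (1, [0], [0, 1]), (1, [0], [0, 1]), (0,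
  [], []), (0, [], []), (1, [0], [0, 1]), (1, [0], [0, 1]), (1, [9, 0], [0, 1]), (1, [9, 0], [0, 1]), (0, [], []), (0, [], []), (1, [9, 0], [0, 1]),
  (1, [9, 0], [0, 1]), (0, [], []), (0, [], []), (1, [9, 1], [0, 1]), (1, [9, 1], [0, 1]), (0, [], []), (0, [], []), (1, [9, 1], [0, 1]), (1, [9, 1],
  [0, 1]), (0, [], []), (0, [], []), (1, [9, 1], [0, 1]), (1, [9, 1], [0, 1]), (0, [], []), (0, [], []), (1, [9, 1], [0, 1]), (1, [9, 1], [0, 1]), (0,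
  [], []), (0, [], []), (1, [9, 0], [0, 1]), (1, [9, 0], [0, 1]), (0, [], []), (0, [], []), (1, [9, 0], [0, 1]), (1, [9, 0], [0, 1]), (0, [], []), (0,
  [], []), (1, [9, 1], [0, 1]), (1, [9, 1], [0, 1]), (0, [], []), (0, [], []), (1, [9, 1], [0, 1]), (1, [9, 1], [0, 1]), (0, [], []), (0, [], []), (1,
  [9, 0], [0, 1]), (1, [9, 0], [0, 1]), (0, [], []), (0, [], []), (1, [9, 0], [0, 1]), (1, [9, 0], [0, 1]), (0, [], []), (0, [], []), (1, [9, 0], [0,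
  1]), (1, [9, 0], [0, 1]), (0, [], []), (0, [], []), (1, [9, 0], [0, 1]), (1, [9, 0], [0, 1]), (0, [], []), (0, [], []), (1, [9, 1], [0, 1]), (1, [9,
  1], [0, 1]), (0, [], []), (0, [], []), (1, [9, 1], [0, 1]), (1, [9, 1], [0, 1]), (0, [], []), (0, [], []), (1, [6, 1, 6, 5], [0, 1]), (1, [6, 1, 6,
  5], [0, 1]), (0, [], []), (0, [], []), (1, [6, 1, 6, 5], [0, 1]), (1, [6, 1, 6, 5], [0, 1]), (0, [], []), (0, [], []), (0, [], []), (0, [], []), (1,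
  [6, 1, 6, 5], [0, 1]), (1, [6, 1, 6, 5], [0, 1]), (0, [], []), (0, [], []), (1, [6, 1, 6, 5], [0, 1]), (1, [6, 1, 6, 5], [0, 1]), (0, [], []), (0,
  [], []), (1, [6, 1, 6, 5], [0, 1]), (1, [6, 1, 6, 5], [0, 1]), (0, [], []), (0, [], []), (1, [6, 1, 6, 5], [0, 1]), (1, [6, 1, 6, 5], [0, 1]), (1,
  [6, 1, 6, 5], [0, 1]), (1, [6, 1, 6, 5], [0, 1]), (0, [], []), (0, [], []), (1, [6, 1, 6, 5], [0, 1]), (1, [6, 1, 6, 5], [0, 1]), (0, [], []), (0,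
  [], []), (0, [], []), (0, [], []), (1, [6, 1, 6, 5], [0, 1]), (1, [6, 1, 6, 5], [0, 1]), (0, [], []), (0, [], []), (1, [6, 1, 6, 5], [0, 1]), (1,
  [6, 1, 6, 5], [0, 1]), (1, [6, 1, 6, 5], [0, 1]), (1, [6, 1, 6, 5], [0, 1]), (0, [], []), (0, [], []), (1, [6, 1, 6, 5], [0, 1]), (1, [6, 1, 6, 5],
  [0, 1]), (0, [], []), (0, [], []), (1, [6, 1, 6, 5], [0, 1]), (1, [6, 1, 6, 5], [0, 1]), (0, [], []), (0, [], []), (1, [6, 1, 6, 5], [0, 1]), (1,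
  [6, 1, 6, 5], [0, 1]), (0, [], []), (0, [], []), (0, [], []), (0, [], []), (1, [6, 1, 6, 5], [0, 1]), (1, [6, 1, 6, 5], [0, 1]), (0, [], []), (0,
  [], []), (1, [6, 1, 6, 5], [0, 1]), (1, [6, 1, 6, 5], [0, 1]), (1, [9, 0], [0, 1]), (1, [9, 0], [0, 1]), (0, [], []), (0, [], []), (1, [9, 0], [0,
  1]), (1, [9, 0], [0, 1]), (0, [], []), (0, [], []), (1, [9, 1], [0, 1]), (1, [9, 1], [0, 1]), (0, [], []), (0, [], []), (1, [9, 1], [0, 1]), (1, [9,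
  1], [0, 1]), (0, [], []), (0, [], []), (1, [9, 1], [0, 1]), (1, [9, 1], [0, 1]), (0, [], []), (0, [], []), (1, [9, 1], [0, 1]), (1, [9, 1], [0, 1]),
  (0, [], []), (0, [], []), (1, [9, 0], [0, 1]), (1, [9, 0], [0, 1]), (0, [], []), (0, [], []), (1, [9, 0], [0, 1]), (1, [9, 0], [0, 1]), (0, [], []),
  (0, [], []), (1, [9, 1], [0, 1]), (1, [9, 1], [0, 1]), (0, [], []), (0, [], []), (1, [9, 1], [0, 1]), (1, [9, 1], [0, 1]), (0, [], []), (0, [], []),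
  (1, [9, 0], [0, 1]), (1, [9, 0], [0, 1]), (0, [], []), (0, [], []), (1, [9, 0], [0, 1]), (1, [9, 0], [0, 1]), (0, [], []), (0, [], []), (1, [9, 0],
  [0, 1]), (1, [9, 0], [0, 1]), (0, [], []), (0, [], []), (1, [9, 0], [0, 1]), (1, [9, 0], [0, 1]), (0, [], []), (0, [], []), (1, [9, 1], [0, 1]), (1,
  [9, 1], [0, 1]), (0, [], []), (0, [], []), (1, [9, 1], [0, 1]), (1, [9, 1], [0, 1]), (0, [], []), (0, [], [])]

/-- Two commuting elements of order three commuting with the second involution. -/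
def threeW : List (List ℕ) := [[2, 5], [3, 1, 9, 3, 4, 0, 9, 4, 2, 5, 0, 1]]

/-- For the eight nontrivial products: the conjugator and the product. -/
def threeCert : List (List ℕ × List ℕ) := [([9, 0], [0, 0, 1]), ([9, 0], [0, 0, 1]), ([0], [0, 0, 1]), ([9, 1], [0, 0, 1]), ([0], [0, 0, 1]), ([0], [0, 0, 1]), ([0], [0, 0, 1]), ([9, 1], [0,
  0, 1])]

end CfsgLib.Recog.Co3Inv
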