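import Cfsg.Agent.Lib.Recog.Co3Inv.CmInvol
import Cfsg.Agent.Lib.Recog.Co3Inv.SwapLists
import Cfsg.Agent.Lib.Recog.Co3Inv.StdData

/-!
Facts on the double cover needed for a standard component: the elements with square the first involution,
the centres of their centralizers, and conjugates of their roots.
-/

set_option autoImplicit false
set_option maxRecDepth 100000
set_option Elab.async false

namespace CfsgLib.Recog.Co3Inv

open CfsgLib.InvChar.Coset
open CfsgLib.Recog.McLInv (wprod_cons' wprod_mem)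

/-- A representative. -/
noncomputable def rpW (k : ℕ) : List ℕ := stdRep.getD k []

/-- The checks on the representatives, on one leaf. -/
noncomputable def leafOK (k : ℕ) (L : List ℕ) : Bool :=
  force (actP L (stdPt.getD k 0)) fun u =>
    !Nat.beq (actP L (actP ((stdCent.getD k []).getD 0 []) (stdPt.getD k 0)))
        (actP ((stdCent.getD k []).getD 0 []) u) ||
      eqK L [] || eqK L McLInv.tW || eqK L (rpW k) || eqK L (rpW k ++ McLInv.tW) ||
      (stdCent.getD k []).any fun s => neK (L ++ s) (s ++ L)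

/-- The checks on the representatives. -/
noncomputable def stdRepOK (k : ℕ) : Bool :=
  eqK (McLInv.aW ++ rpW k) (rpW k ++ McLInv.aW) &&
  Nat.blt 0 (stdCent.getD k []).length &&
  (stdCent.getD k []).all (fun s => eqK (s ++ rpW k) (rpW k ++ s)) &&
  Nat.blt (stdPt.getD k 0) 276 &&
  (dT 0).all fun A => (dT 1).all fun B => (dT 2).all fun C => (dT 3).all fun D =>
    leafOK k (A ++ B ++ C ++ D)

theorem std_rep_checks : stdRepOK 0 = true ∧ stdRepOK 1 = true ∧ stdRepOK 2 = true ∧ stdRepOK 3 = true ∧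
    eqK (rpW 0) McLInv.aW = true ∧ eqK (rpW 1) (smConjW ++ s0W ++ smConjW.reverse) = true := by
  decide +kernel

/-- Every element commuting with what commutes with the element is trivial, or the element, up to the centre. -/
def Mid (c : Cm) : Prop :=
  ∀ l : Cm, (∀ u, u * c = c * u → u * l = l * u) → l = 1 ∨ l = tm ∨ l = c ∨ l = c * tm

theorem Mid.map {c : Cm} (h : Mid c) (g : Cm) : Mid (g * c * g⁻¹) := by
  intro l hl
  have hl' : ∀ u, u * c = c * u → u * (g⁻¹ * l * g) = g⁻¹ * l * g * u := fun u hu => by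
    have e := hl (g * u * g⁻¹) (by
      rw [show g * u * g⁻¹ * (g * c * g⁻¹) = g * (u * c) * g⁻¹ by group, hu]; group)
    calc u * (g⁻¹ * l * g) = g⁻¹ * (g * u * g⁻¹ * l) * g := by group
      _ = _ := by rw [e]; group
  have hl2 : l = g * (g⁻¹ * l * g) * g⁻¹ := by group
  rcases h _ hl' with e | e | e | e <;> rw [e] at hl2
  · exact Or.inl (hl2.trans (by group))
  · exact Or.inr (Or.inl (hl2.trans (by rw [tm_comm, mul_inv_cancel_right])))
  · exact Or.inr (Or.inr (Or.inl hl2))
  · refine Or.inr (Or.inr (Or.inr (hl2.trans ?_)))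
    rw [mul_assoc (g * c) g⁻¹ tm, tm_comm g⁻¹]; group

theorem Mid.mul_tm {c : Cm} (h : Mid c) : Mid (c * tm) := by
  intro l hl
  rcases h l (fun u hu => hl u (by rw [← mul_assoc, hu, mul_assoc, tm_comm u, mul_assoc])) with e | e | e | e
  · exact Or.inl e
  · exact Or.inr (Or.inl e)
  · exact Or.inr (Or.inr (Or.inr (by rw [e, mul_assoc, tm_sq, mul_one])))
  · exact Or.inr (Or.inr (Or.inl e))

attribute [local irreducible] dT

theorem mid_rep {k : ℕ} (hk : stdRepOK k = true) : Mid (el (rpW k)) := by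
  simp only [stdRepOK, Bool.and_eq_true, Nat.blt_eq, List.all_eq_true] at hk
  obtain ⟨⟨⟨⟨ha, hlen⟩, hS⟩, hp⟩, hleaf⟩ := hk
  intro l hl
  have hS' : ∀ s ∈ stdCent.getD k [], el s * l = l * el s := fun s hs =>
    hl _ (by rw [← el_append, ← el_append, eqK_sound (hS s hs)])
  have hla : l * am = am * l :=
    (hl am (by rw [am, ← el_append, ← el_append, eqK_sound ha])).symm
  obtain ⟨A, hA, B, hB, C, hC, D, hD, rfl⟩ := exists_dT hla
  have h := hleaf A hA B hB C hC D hD
  have hin : inC (A ++ B ++ C ++ D) = true := by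
    simp only [inC, List.all_append, Bool.and_eq_true]
    exact ⟨⟨⟨(dT_spec (by norm_num) hA).1, (dT_spec (by norm_num) hB).1⟩, (dT_spec (by norm_num) hC).1⟩,
      (dT_spec (by norm_num) hD).1⟩
  generalize A ++ B ++ C ++ D = L at h hin hS'
  simp only [leafOK, force_eq, Bool.or_eq_true, Bool.not_eq_true'] at h
  rcases h with ((((h | h) | h) | h) | h) | h
  · exfalso
    have hs := getD_mem (stdCent.getD k []) hlen []
    generalize hs0 : (stdCent.getD k []).getD 0 [] = s at h hs
    have hsin : inC s = true := by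
      have e := hS s hs
      simp only [eqK, inC, List.all_append, Bool.and_eq_true] at e
      exact e.1.1.1.1.1.1
    have key : actP (L ++ s) (stdPt.getD k 0) = actP (s ++ L) (stdPt.getD k 0) := by
      have hc : ∀ X Y : List ℕ, inC X = true → inC Y = true → inC (X ++ Y) = true := fun X Y hX hY => by
        simp only [inC, List.all_append, Bool.and_eq_true]; exact ⟨hX, hY⟩
      rw [← el_apply (inC_spec (hc L s hin hsin)) ⟨stdPt.getD k 0, hp⟩,
        ← el_apply (inC_spec (hc s L hsin hin)) ⟨stdPt.getD k 0, hp⟩, el_append, el_append, hS' s hs]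
    rw [actP_append, actP_append] at key
    rw [key, Nat.beq_refl] at h
    cases h
  · exact Or.inl ((eqK_sound h).trans el_nil)
  · exact Or.inr (Or.inl (eqK_sound h))
  · exact Or.inr (Or.inr (Or.inl (eqK_sound h)))
  · exact Or.inr (Or.inr (Or.inr (by rw [eqK_sound h, el_append]; rfl)))
  · obtain ⟨s, hs, h⟩ := List.any_eq_true.1 h
    exact absurd (by rw [el_append, el_append, hS' s hs]) (neK_sound h)

/-! ### The certificates on the Sylow subgroup -/

/-- One element against its certificate for the square. -/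
noncomputable def sqLeaf (L : List ℕ) (p : ℕ × ℕ × List ℕ) : Bool :=
  match p with
  | (k, e, w) => neK (L ++ L) McLInv.tW ||
      ((Nat.beq k 2 || Nat.beq k 3) && Nat.blt e 2 &&
        eqK L (w ++ rpW k ++ w.reverse ++ bif Nat.beq e 0 then [] else McLInv.tW))

/-- One element against its certificate as a root. -/
noncomputable def rootLeaf (L : List ℕ) (p : ℕ × List ℕ × List ℕ) : Bool :=
  match p with
  | (k, h, P) => (neK (L ++ L ++ L ++ L) [] && neK (L ++ L ++ L ++ L) McLInv.tW) ||
      eqK (L ++ L) [] || eqK (L ++ L) McLInv.tW ||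
      (eqK (h ++ (L ++ L)) (L ++ L ++ h) &&
        ((Nat.beq k 1 &&
          (eqK ((P.flatMap fun i => bif Nat.beq i 0 then L else h ++ L ++ h.reverse) ++ (P.flatMap fun i => bif Nat.beq i 0 then L else h ++ L ++ h.reverse)) [] || eqK ((P.flatMap fun i => bif Nat.beq i 0 then L else h ++ L ++ h.reverse) ++ (P.flatMap fun i => bif Nat.beq i 0 then L else h ++ L ++ h.reverse)) McLInv.tW) &&
          neK (P.flatMap fun i => bif Nat.beq i 0 then L else h ++ L ++ h.reverse) [] && neK (P.flatMap fun i => bif Nat.beq i 0 then L else h ++ L ++ h.reverse) McLInv.tW &&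
          neK (P.flatMap fun i => bif Nat.beq i 0 then L else h ++ L ++ h.reverse) (L ++ L) && neK (P.flatMap fun i => bif Nat.beq i 0 then L else h ++ L ++ h.reverse) (L ++ L ++ McLInv.tW)) ||
        (Nat.beq k 2 && eqK (L ++ L ++ L ++ L) [] && eqK (h ++ h ++ h) [] &&
          neK (h ++ L ++ h.reverse) L && neK (h ++ L ++ h.reverse) (L ++ McLInv.tW))))

theorem std_syl_checks : ((sList 10).zip sqCert).all (fun p => sqLeaf p.1 p.2) = true ∧
    ((sList 10).zip rootCert).all (fun p => rootLeaf p.1 p.2) = true ∧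
    sqCert.length = 1024 ∧ rootCert.length = 1024 := by decide +kernel

attribute [local irreducible] sList

theorem zip_spec {α : Type} {f : List ℕ → α → Bool} {cert : List α} {L : List ℕ}
    (h : ((sList 10).zip cert).all (fun p => f p.1 p.2) = true) (hl : cert.length = 1024)
    (hL : L ∈ sList 10) : ∃ p, f L p = true := by
  obtain ⟨i, hi, rfl⟩ := List.mem_iff_getElem.1 hL
  have hi' : i < cert.length := by rw [hl, ← show 2 ^ 10 = 1024 by norm_num, ← sList_length 10]; exact hi
  have hz : ((sList 10)[i], cert[i]) ∈ (sList 10).zip cert := by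
    rw [← List.getElem_zip (h := by rw [List.length_zip]; omega)]
    exact List.getElem_mem _
  exact ⟨cert[i], List.all_eq_true.1 h _ hz⟩

/-- **The elements with square the first involution.** -/
theorem sq_tm_cases {c : Cm} (hc : c * c = tm) :
    ∃ g, ∃ k ∈ ({2, 3} : Finset ℕ), c = g * el (rpW k) * g⁻¹ ∨ c = g * el (rpW k) * g⁻¹ * tm := by
  obtain ⟨g, hg⟩ := exists_conj_mem (c := c) (k := 2) (by
    rw [show 2 ^ 2 = 2 * 2 by norm_num, pow_mul, pow_two c, hc, pow_two, tm_sq])
  obtain ⟨L, hL, e⟩ := mem_SylTwo.1 hg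
  have hsq : el L * el L = tm := by
    rw [← e, show g * c * g⁻¹ * (g * c * g⁻¹) = g * (c * c) * g⁻¹ by group, hc, tm_comm g, mul_inv_cancel_right]
  obtain ⟨⟨k, ε, w⟩, h⟩ := zip_spec std_syl_checks.1 std_syl_checks.2.2.1 hL
  simp only [sqLeaf, Bool.or_eq_true, Bool.and_eq_true, Nat.blt_eq] at h
  rcases h with h | ⟨⟨hk, -⟩, h⟩
  · exact absurd (by rw [el_append]; exact hsq) (neK_sound h)
  refine ⟨g⁻¹ * el w, k, ?_, ?_⟩
  · rcases hk with hk | hk <;> simp [Nat.eq_of_beq_eq_true hk]
  have hcL : c = g⁻¹ * el L * g := by rw [← e]; group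
  have h' := eqK_sound h
  cases hb : Nat.beq ε 0 with
  | true =>
    rw [hb, cond_true, List.append_nil, el_append, el_append, el_reverse] at h'
    exact Or.inl (by rw [hcL, h']; group)
  | false =>
    rw [hb, cond_false, el_append, el_append, el_append, el_reverse] at h'
    refine Or.inr ?_
    rw [hcL, h', show el McLInv.tW = tm from rfl,
      show g⁻¹ * (el w * el (rpW k) * (el w)⁻¹ * tm) * g = g⁻¹ * (el w * el (rpW k) * (el w)⁻¹) * (tm * g) by group,
      ← tm_comm g]
    group

/-- **The centres of the centralizers of the involutory elements modulo the centre.** -/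
theorem center_cent {c : Cm} (hc : c * c = 1 ∨ c * c = tm) (h1 : c ≠ 1) (h2 : c ≠ tm) : Mid c := by
  obtain ⟨k0, k1, k2, k3, e0, e1⟩ := std_rep_checks
  rcases hc with hc | hc
  · rcases invol_cases hc with h | h | ⟨g, rfl⟩ | ⟨g, rfl⟩
    · exact absurd h h1
    · exact absurd h h2
    · have := (mid_rep k0).map g
      rwa [eqK_sound e0] at this
    · have := (mid_rep k1).map (g * (el smConjW)⁻¹)
      rw [eqK_sound e1, el_append, el_append, el_reverse] at this
      convert this using 1
      rw [sm]; group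
  · obtain ⟨g, k, hk, h⟩ := sq_tm_cases hc
    have hm : Mid (el (rpW k)) := by
      rcases Finset.mem_insert.1 hk with rfl | hk
      · exact mid_rep k2
      · rw [Finset.mem_singleton.1 hk]; exact mid_rep k3
    rcases h with rfl | rfl
    exacts [hm.map g, (hm.map g).mul_tm]

/-- A root has a conjugate giving a further element with central square, or moving it by an element of
order three. -/
def RootW (c : Cm) : Prop :=
  (∃ h, h * (c * c) = c * c * h ∧ ∃ P ∈ Subgroup.closure ({c, h * c * h⁻¹} : Set Cm),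
    (P * P = 1 ∨ P * P = tm) ∧ P ≠ 1 ∧ P ≠ tm ∧ P ≠ c * c ∧ P ≠ c * c * tm) ∨
  (c * c * (c * c) = 1 ∧ ∃ h, h * h * h = 1 ∧ h * (c * c) = c * c * h ∧ h * c * h⁻¹ ≠ c ∧ h * c * h⁻¹ ≠ c * tm)

theorem RootW.map {c : Cm} (h : RootW c) (f : Cm ≃* Cm) (hf : f tm = tm) : RootW (f c) := by
  have key : ∀ a b : Cm, f a = f b → a = b := fun a b e => f.injective e
  rcases h with ⟨h, hh, P, hP, hsq, n1, n2, n3, n4⟩ | ⟨h4, h, h3, hh, n1, n2⟩
  · refine Or.inl ⟨f h, by rw [← map_mul, ← map_mul, hh, map_mul], f P, ?_, ?_, ?_, ?_, ?_, ?_⟩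
    · have hle : (Subgroup.closure ({c, h * c * h⁻¹} : Set Cm)).map f.toMonoidHom ≤
          Subgroup.closure ({f c, f h * f c * (f h)⁻¹} : Set Cm) := by
        rw [MonoidHom.map_closure]
        refine Subgroup.closure_mono (Set.image_subset_iff.2 fun x hx => ?_)
        rcases hx with rfl | rfl <;> simp
      exact hle ⟨P, hP, rfl⟩
    · rw [← map_mul]
      rcases hsq with e | e <;> rw [e]
      exacts [Or.inl (map_one f), Or.inr hf]
    · exact fun e => n1 (key _ _ (e.trans (map_one f).symm))
    · exact fun e => n2 (key _ _ (e.trans hf.symm))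
    · exact fun e => n3 (key _ _ (e.trans (map_mul f c c).symm))
    · exact fun e => n4 (key _ _ (by rw [e, map_mul, map_mul, hf]))
  · refine Or.inr ⟨by rw [← map_mul, ← map_mul, h4, map_one], f h, by rw [← map_mul, ← map_mul, h3, map_one],
      by rw [← map_mul, ← map_mul, hh, map_mul], fun e => n1 (key _ _ ?_), fun e => n2 (key _ _ ?_)⟩
    · rw [map_mul, map_mul, map_inv, e]
    · rw [map_mul, map_mul, map_inv, e, map_mul, hf]

/-- **The roots.** -/
theorem root_cases {c : Cm} (h4 : c * c * (c * c) = 1 ∨ c * c * (c * c) = tm) (h1 : c * c ≠ 1)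
    (h2 : c * c ≠ tm) : RootW c := by
  obtain ⟨g, hg⟩ := exists_conj_mem (c := c) (k := 3) (by
    have e : c ^ (2 ^ 3) = c * c * (c * c) * (c * c * (c * c)) := by simp [pow_succ, mul_assoc]
    rw [e]
    rcases h4 with h | h <;> rw [h]
    exacts [one_mul 1, tm_sq])
  obtain ⟨L, hL, e⟩ := mem_SylTwo.1 hg
  have hcL : c = MulAut.conj g⁻¹ (el L) := by rw [← e, MulAut.conj_apply]; group
  have htm : ∀ g : Cm, MulAut.conj g tm = tm := fun g => by
    rw [MulAut.conj_apply, tm_comm g, mul_inv_cancel_right]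
  suffices RootW (el L) by rw [hcL]; exact this.map _ (htm _)
  have hL4 : el L * el L * (el L * el L) = 1 ∨ el L * el L * (el L * el L) = tm := by
    rcases h4 with h | h <;> rw [hcL, ← map_mul, ← map_mul] at h
    exacts [Or.inl ((MulAut.conj g⁻¹).injective (h.trans (map_one _).symm)),
      Or.inr ((MulAut.conj g⁻¹).injective (h.trans (htm _).symm))]
  have hL1 : el L * el L ≠ 1 := fun h => h1 (by rw [hcL, ← map_mul, h, map_one])
  have hL2 : el L * el L ≠ tm := fun h => h2 (by rw [hcL, ← map_mul, h, htm])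
  obtain ⟨⟨k, h, P⟩, hck⟩ := zip_spec std_syl_checks.2.1 std_syl_checks.2.2.2 hL
  simp only [rootLeaf, force_eq, Bool.or_eq_true, Bool.and_eq_true, Bool.not_eq_true'] at hck
  rcases hck with ((⟨n1, n2⟩ | hck) | hck) | ⟨hh, hck⟩
  · rcases hL4 with h' | h'
    · exact absurd (by simp only [el_append, el_nil]; rw [mul_assoc (el L * el L), h']) (neK_sound n1)
    · exact absurd (by simp only [el_append]; rw [mul_assoc (el L * el L), h']; rfl) (neK_sound n2)
  · exact absurd (by rw [← el_append, eqK_sound hck, el_nil]) hL1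
  · exact absurd (by rw [← el_append, eqK_sound hck]; rfl) hL2
  have hh' : el h * (el L * el L) = el L * el L * el h := by
    rw [← el_append, ← el_append, eqK_sound hh]; simp only [el_append]
  rcases hck with ⟨⟨⟨⟨⟨-, hsq⟩, n1⟩, n2⟩, n3⟩, n4⟩ | ⟨⟨⟨⟨-, h4'⟩, h3⟩, n1⟩, n2⟩
  · generalize hf : (fun i => bif Nat.beq i 0 then L else h ++ L ++ h.reverse) = f at hsq n1 n2 n3 n4
    refine Or.inl ⟨el h, hh', el (P.flatMap f), ?_, ?_, ?_, ?_, ?_, ?_⟩
    · show wprod cg (P.flatMap f) ∈ _
      rw [McLInv.wprod_flatten]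
      refine wprod_mem fun i _ => ?_
      subst hf
      cases hb : Nat.beq i 0 with
      | true => simp only [hb, cond_true]; exact Subgroup.subset_closure (Or.inl rfl)
      | false =>
        refine Subgroup.subset_closure (Or.inr ?_)
        simp only [Set.mem_singleton_iff]
        show el _ = _
        rw [hb, cond_false, el_append, el_append, el_reverse]
    · rw [← el_append]
      exact hsq.imp (fun hq => (eqK_sound hq).trans el_nil) fun hq => eqK_sound hq
    · exact fun e => neK_sound n1 (e.trans el_nil.symm)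
    · exact neK_sound n2
    · exact fun e => neK_sound n3 (e.trans (el_append _ _).symm)
    · exact fun e => neK_sound n4 (by rw [e, el_append, el_append]; rfl)
  · refine Or.inr ⟨?_, el h, ?_, hh', ?_, ?_⟩
    · have := eqK_sound h4'
      simp only [el_append, el_nil] at this
      rwa [mul_assoc (el L * el L)] at this
    · rw [← el_append, ← el_append, eqK_sound h3, el_nil]
    · have := neK_sound n1
      rwa [el_append, el_append, el_reverse] at this
    · have := neK_sound n2
      rwa [el_append, el_append, el_reverse, el_append] at this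

/-! ### Elements of order three commuting with the second involution -/

/-- The products of the two elements of order three. -/
noncomputable def nineW : List (List ℕ) :=
  (List.range 3).flatMap fun a => (List.range 3).map fun b =>
    (List.replicate a (threeW.getD 0 [])).flatten ++ (List.replicate b (threeW.getD 1 [])).flatten

/-- The checks on the elements of order three. -/
noncomputable def stdThreeOK : Bool :=
  eqK (threeW.getD 0 [] ++ threeW.getD 0 [] ++ threeW.getD 0 []) [] &&
  eqK (threeW.getD 1 [] ++ threeW.getD 1 [] ++ threeW.getD 1 []) [] &&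
  eqK (threeW.getD 0 [] ++ threeW.getD 1 []) (threeW.getD 1 [] ++ threeW.getD 0 []) &&
  eqK (threeW.getD 0 [] ++ McLInv.aW) (McLInv.aW ++ threeW.getD 0 []) &&
  eqK (threeW.getD 1 [] ++ McLInv.aW) (McLInv.aW ++ threeW.getD 1 []) &&
  ((List.range 9).all fun i => (List.range i).all fun j => neK (nineW.getD i []) (nineW.getD j [])) &&
  ((List.range 8).all fun i =>
    match threeCert.getD i ([], []) with
    | (h, P) =>
      eqK (h ++ McLInv.aW) (McLInv.aW ++ h) &&
      (eqK ((P ++ P).flatMap fun j => bif Nat.beq j 0 then nineW.getD (i + 1) []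
          else h ++ nineW.getD (i + 1) [] ++ h.reverse) [] ||
        eqK ((P ++ P).flatMap fun j => bif Nat.beq j 0 then nineW.getD (i + 1) []
          else h ++ nineW.getD (i + 1) [] ++ h.reverse) McLInv.tW) &&
      [[], McLInv.tW, McLInv.aW, McLInv.aW ++ McLInv.tW].all fun Q =>
        neK (P.flatMap fun j => bif Nat.beq j 0 then nineW.getD (i + 1) []
          else h ++ nineW.getD (i + 1) [] ++ h.reverse) Q)

theorem std_three_checks : stdThreeOK = true := by decide +kernel

/-- A generator of order three. -/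
noncomputable def th (i : ℕ) : Cm := el (threeW.getD i [])

theorem el_flatten_replicate (L : List ℕ) : ∀ a, el (List.replicate a L).flatten = el L ^ a
  | 0 => el_nil.trans (pow_zero _).symm
  | a + 1 => by rw [List.replicate_succ, List.flatten_cons, el_append, el_flatten_replicate L a, pow_succ']

/-- **An element of order three commuting with the second involution.** -/
theorem three_bad {c : Cm} (h3 : c * c * c = 1) (h1 : c ≠ 1) (hc : c * am = am * c) :
    ∃ h, h * am = am * h ∧ ∃ P ∈ Subgroup.closure ({c, h * c * h⁻¹} : Set Cm),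
      (P * P = 1 ∨ P * P = tm) ∧ P ≠ 1 ∧ P ≠ tm ∧ P ≠ am ∧ P ≠ am * tm := by
  have hk := std_three_checks
  simp only [stdThreeOK, Bool.and_eq_true] at hk
  obtain ⟨⟨⟨⟨⟨⟨x3, y3⟩, xy⟩, xa⟩, ya⟩, hne⟩, hw⟩ := hk
  have ex : th 0 ^ 3 = 1 := by
    rw [th, pow_succ, pow_two, ← el_append, ← el_append, eqK_sound x3, el_nil]
  have ey : th 1 ^ 3 = 1 := by
    rw [th, pow_succ, pow_two, ← el_append, ← el_append, eqK_sound y3, el_nil]
  have exy : Commute (th 0) (th 1) := by
    show el _ * el _ = el _ * el _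
    rw [← el_append, ← el_append, eqK_sound xy]
  have hca : ∀ i < 2, th i * am = am * th i := fun i hi => by
    rw [th, am, ← el_append, ← el_append]
    rcases Nat.le_one_iff_eq_zero_or_eq_one.1 (Nat.lt_succ_iff.1 hi) with rfl | rfl
    exacts [congrArg id (eqK_sound xa), congrArg id (eqK_sound ya)]
  have hmod : ∀ {u : Cm}, u ^ 3 = 1 → ∀ m, u ^ m = u ^ (m % 3) := fun hu m => by
    conv_lhs => rw [← Nat.mod_add_div m 3, pow_add, pow_mul, hu, one_pow, mul_one]
  let C := Subgroup.centralizer ({am} : Set Cm)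
  let F : Fin 3 × Fin 3 → C := fun p => ⟨th 0 ^ (p.1 : ℕ) * th 1 ^ (p.2 : ℕ), mul_mem
    (pow_mem (Subgroup.mem_centralizer_singleton_iff.2 (hca 0 (by norm_num))) _)
    (pow_mem (Subgroup.mem_centralizer_singleton_iff.2 (hca 1 (by norm_num))) _)⟩
  have hF1 : F (0, 0) = 1 := Subtype.ext (by simp [F])
  have hFm : ∀ p q, F p * F q = F (p + q) := fun p q => Subtype.ext (by
    simp only [F, Subgroup.coe_mul, Prod.fst_add, Prod.snd_add, Fin.val_add]
    rw [← hmod ex, ← hmod ey, pow_add, pow_add, mul_assoc, ← mul_assoc (th 1 ^ (p.2 : ℕ)),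
      ((exy.pow_pow q.1 p.2).eq).symm]
    simp only [mul_assoc])
  let T : Subgroup C :=
    { carrier := Set.range F
      one_mem' := ⟨(0, 0), hF1⟩
      mul_mem' := by rintro _ _ ⟨p, rfl⟩ ⟨q, rfl⟩; exact ⟨p + q, (hFm p q).symm⟩
      inv_mem' := by
        rintro _ ⟨p, rfl⟩
        refine ⟨-p, (inv_eq_of_mul_eq_one_right ?_).symm⟩
        rw [hFm, add_neg_cancel]; exact hF1 }
  have hword : ∀ p : Fin 3 × Fin 3, el (nineW.getD (3 * (p.1 : ℕ) + p.2) []) = (F p : Cm) := by
    rintro ⟨⟨a, ha⟩, ⟨b, hb⟩⟩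
    show _ = th 0 ^ a * th 1 ^ b
    rw [th, th, ← el_flatten_replicate, ← el_flatten_replicate, ← el_append]
    interval_cases a <;> interval_cases b <;> rfl
  have hinj : Function.Injective F := by
    intro p q e
    have e' : el (nineW.getD (3 * (p.1 : ℕ) + p.2) []) = el (nineW.getD (3 * (q.1 : ℕ) + q.2) []) := by
      rw [hword, hword, e]
    have hne' : ∀ i < 9, ∀ j < i, el (nineW.getD i []) ≠ el (nineW.getD j []) := fun i hi j hj =>
      neK_sound (List.all_eq_true.1 (List.all_eq_true.1 hne i (List.mem_range.2 hi)) j (List.mem_range.2 hj))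
    have h1 := p.1.isLt
    have h2 := p.2.isLt
    have h3' := q.1.isLt
    have h4 := q.2.isLt
    rcases lt_trichotomy (3 * (p.1 : ℕ) + p.2) (3 * (q.1 : ℕ) + q.2) with h | h | h
    · exact absurd e'.symm (hne' _ (by omega) _ h)
    · exact Prod.ext (Fin.ext (by omega)) (Fin.ext (by omega))
    · exact absurd e' (hne' _ (by omega) _ h)
  have hT : Nat.card T = 3 ^ 2 := by
    show Nat.card (Set.range F) = _
    rw [Nat.card_range_of_injective hinj, Nat.card_prod, Nat.card_fin]; norm_num
  have hTi : ¬ 3 ∣ T.index := by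
    have e := T.card_mul_index
    rw [hT, card_centralizer_am] at e
    omega
  haveI : Fact (Nat.Prime 3) := ⟨Nat.prime_three⟩
  have hcC : c ∈ C := Subgroup.mem_centralizer_singleton_iff.2 hc
  have hp : IsPGroup 3 (Subgroup.zpowers (⟨c, hcC⟩ : C)) := by
    obtain ⟨j, -, hj⟩ := (Nat.dvd_prime_pow Nat.prime_three).1 (orderOf_dvd_of_pow_eq_one
      (show (⟨c, hcC⟩ : C) ^ 3 ^ 1 = 1 from Subtype.ext (by simp [pow_succ, h3])))
    exact IsPGroup.of_card ((Nat.card_zpowers _).trans hj)
  obtain ⟨Q, hQ⟩ := hp.exists_le_sylow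
  obtain ⟨g, hg⟩ := MulAction.exists_smul_eq C Q ((IsPGroup.of_card hT).toSylow hTi)
  have hmem : g * ⟨c, hcC⟩ * g⁻¹ ∈ ((IsPGroup.of_card hT).toSylow hTi : Subgroup C) := by
    rw [← hg, Sylow.coe_subgroup_smul]
    exact ⟨_, hQ (Subgroup.mem_zpowers _), by simp⟩
  obtain ⟨⟨a, b⟩, hab⟩ := (show g * ⟨c, hcC⟩ * g⁻¹ ∈ T from hmem)
  have hd : (g : Cm) * c * (g : Cm)⁻¹ = el (nineW.getD (3 * (a : ℕ) + b) []) := by
    rw [hword (a, b), hab]; simp
  have hpos : 3 * (a : ℕ) + b ≠ 0 := by
    intro h0
    have e0 : el (nineW.getD 0 []) = 1 := rfl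
    rw [h0, e0, conj_eq_one_iff] at hd
    exact h1 hd
  obtain ⟨i, hi⟩ : ∃ i, 3 * (a : ℕ) + b = i + 1 := ⟨3 * (a : ℕ) + b - 1, by omega⟩
  have := a.isLt
  have := b.isLt
  have hw' := List.all_eq_true.1 hw i (List.mem_range.2 (by omega))
  rw [hi] at hd
  generalize threeCert.getD i ([], []) = pr at hw'
  obtain ⟨h, P⟩ := pr
  simp only [Bool.and_eq_true, Bool.or_eq_true, List.all_cons, List.all_nil] at hw'
  obtain ⟨⟨ha', hsq⟩, n1, n2, n3, n4, -⟩ := hw'
  generalize hW : nineW.getD (i + 1) [] = W at hd hsq n1 n2 n3 n4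
  generalize hf : (fun j => bif Nat.beq j 0 then W else h ++ W ++ h.reverse) = f at hsq n1 n2 n3 n4
  have hga : (g : Cm) * am = am * g := Subgroup.mem_centralizer_singleton_iff.1 g.2
  have hh : el h * am = am * el h := by rw [am, ← el_append, ← el_append, eqK_sound ha']
  have hPmem : el (P.flatMap f) ∈ Subgroup.closure ({el W, el h * el W * (el h)⁻¹} : Set Cm) := by
    show wprod cg (P.flatMap f) ∈ _
    rw [McLInv.wprod_flatten]
    refine wprod_mem fun j _ => ?_
    subst hf
    cases hb : Nat.beq j 0 with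
    | true => simp only [hb, cond_true]; exact Subgroup.subset_closure (Or.inl rfl)
    | false =>
      refine Subgroup.subset_closure (Or.inr ?_)
      simp only [Set.mem_singleton_iff]
      show el _ = _
      rw [hb, cond_false, el_append, el_append, el_reverse]
  have hga' : (g : Cm)⁻¹ * am = am * (g : Cm)⁻¹ := by
    calc (g : Cm)⁻¹ * am = (g : Cm)⁻¹ * (am * g) * (g : Cm)⁻¹ := by group
      _ = _ := by rw [← hga]; group
  refine ⟨(g : Cm)⁻¹ * el h * g, ?_, (g : Cm)⁻¹ * el (P.flatMap f) * g, ?_, ?_, ?_, ?_, ?_, ?_⟩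
  · rw [mul_assoc, hga, ← mul_assoc, mul_assoc _ (el h), hh, ← mul_assoc, hga']; group
  · have hle : (Subgroup.closure ({el W, el h * el W * (el h)⁻¹} : Set Cm)).map
        (MulAut.conj (g : Cm)⁻¹).toMonoidHom ≤
        Subgroup.closure ({c, (g : Cm)⁻¹ * el h * g * c * ((g : Cm)⁻¹ * el h * g)⁻¹} : Set Cm) := by
      rw [MonoidHom.map_closure]
      refine Subgroup.closure_mono (Set.image_subset_iff.2 fun x hx => ?_)
      rcases hx with rfl | rfl
      · refine Or.inl ?_
        simp only [MulEquiv.coe_toMonoidHom, MulAut.conj_apply]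
        rw [← hd]; group
      · refine Or.inr ?_
        simp only [Set.mem_singleton_iff, MulEquiv.coe_toMonoidHom, MulAut.conj_apply]
        rw [← hd]; group
    exact hle ⟨_, hPmem, by simp⟩
  · rw [show (g : Cm)⁻¹ * el (P.flatMap f) * g * ((g : Cm)⁻¹ * el (P.flatMap f) * g) =
      (g : Cm)⁻¹ * (el (P.flatMap f) * el (P.flatMap f)) * g by group, ← el_append, ← List.flatMap_append]
    rcases hsq with hq | hq
    · exact Or.inl (by rw [eqK_sound hq, el_nil]; group)
    · refine Or.inr ?_
      rw [eqK_sound hq, show el McLInv.tW = tm from rfl, tm_comm (g : Cm)⁻¹, inv_mul_cancel_right]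
  all_goals intro e; replace e := congrArg (fun x => (g : Cm) * x * (g : Cm)⁻¹) e
  all_goals simp only [mul_assoc, mul_inv_cancel_left, mul_inv_cancel, mul_one] at e
  · exact neK_sound n1 (e.trans el_nil.symm)
  · rw [← tm_comm (g : Cm)⁻¹, mul_inv_cancel_left] at e
    exact neK_sound n2 e
  · rw [← mul_assoc, hga, mul_inv_cancel_right] at e
    exact neK_sound n3 e
  · rw [show (g : Cm) * (am * (tm * (g : Cm)⁻¹)) = (g : Cm) * am * (tm * (g : Cm)⁻¹) by group, hga,
      ← tm_comm (g : Cm)⁻¹, mul_assoc, mul_inv_cancel_left] at e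
    exact neK_sound n4 (e.trans (el_append _ _).symm)

end CfsgLib.Recog.Co3Inv
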