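import Cfsg.Prelude.Def_Local
import Cfsg.Agent.Lib.Recog.Co3Inv.Standard
import Cfsg.Agent.Lib.Recog.Co3Inv.Cover
import Cfsg.Agent.Lib.InvChar.SimpleInvol
import Cfsg.Agent.Lib.InvChar.DoubleCoverUtil
import Cfsg.Agent.Lib.KnownC.AutPSpOut
import Cfsg.Agent.Lib.Classical.ExcIsoPerm

/-!
A standard subgroup of a locally balanced simple group which is a double cover of `Sp₆(2)` is the
centralizer of an involution.
-/

set_option autoImplicit false

namespace CfsgLib.Recog.Co3Inv

open Subgroup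
open scoped commutatorElement

/-- All automorphisms of `PSp₆(2)` are inner. -/
theorem psp_aut_inner (α : MulAut (Cfsg.PSp 3 (ZMod 2))) :
    ∃ x : Cfsg.PSp 3 (ZMod 2), MulAut.conj x = α := by
  haveI : Finite (MulAut (Cfsg.PSp 3 (ZMod 2))) :=
    Finite.of_injective _ MulEquiv.toEquiv_injective
  have hF : Nat.card (ZMod 2 ≃+* ZMod 2) = 1 := by
    haveI : Subsingleton (ZMod 2 ≃+* ZMod 2) := ⟨fun e f => RingEquiv.ext fun x => by
      exact congrArg (fun φ : ZMod 2 →+* ZMod 2 => φ x) (Subsingleton.elim e.toRingHom f.toRingHom)⟩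
    exact Nat.card_unique
  have hU : Nat.card (ZMod 2)ˣ = 1 := by
    rw [Nat.card_eq_fintype_card, ZMod.card_units_eq_totient]; decide
  have hcard := CfsgLib.KnownC.card_mulAut_psp (m := 3) (F := ZMod 2) (by norm_num) (Or.inr le_rfl)
  rw [hF, hU, Nat.gcd_one_right, one_mul, one_mul] at hcard
  exact ((Nat.bijective_iff_injective_and_card _).2
    ⟨CfsgLib.KnownC.conjHom_psp_injective (by norm_num), hcard.symm⟩).2 α

variable {G : Type*} [Group G]

theorem eq_one_or_of_card_two {H : Subgroup G} (h : Nat.card H = 2) {z : G} (hz : z ∈ H) (hz1 : z ≠ 1)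
    {x : G} (hx : x ∈ H) : x = 1 ∨ x = z := by
  haveI : Finite H := Nat.finite_of_card_ne_zero (by omega)
  haveI := Fintype.ofFinite H
  classical
  by_contra hne
  simp only [not_or] at hne
  have h3 : ({⟨1, one_mem H⟩, ⟨z, hz⟩, ⟨x, hx⟩} : Finset H).card = 3 := by
    simp [Ne.symm hz1, Ne.symm hne.1, Ne.symm hne.2]
  have := Finset.card_le_univ ({⟨1, one_mem H⟩, ⟨z, hz⟩, ⟨x, hx⟩} : Finset H)
  rw [h3, ← Nat.card_eq_fintype_card, h] at this
  omega

/-- The elements of odd order in a group with a unique involution and order twice an odd number. -/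
theorem exists_odd_part {K : Type*} [Group K] [Finite K] {z : K} (hz : orderOf z = 2)
    (hzc : ∀ k, k * z = z * k) (hm : Odd (Nat.card K / 2)) (h2 : 2 ∣ Nat.card K) :
    ∃ M : Subgroup K, Odd (Nat.card M) ∧ Nat.card K = 2 * Nat.card M ∧
      ∀ k : K, Odd (orderOf k) → k ∈ M := by
  have hZn : (zpowers z).Normal := ⟨fun n hn g => by
    obtain ⟨j, rfl⟩ := mem_zpowers_iff.1 hn
    rw [((show Commute g z from hzc g).zpow_right j).eq, mul_inv_cancel_right]
    exact hn⟩
  have hcard : Nat.card (zpowers z) = 2 := (Nat.card_zpowers z).trans hz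
  have hidx := (zpowers z).card_mul_index
  rw [hcard] at hidx
  have hodd : Odd (zpowers z).index := by rwa [← hidx, Nat.mul_div_cancel_left _ two_pos] at hm
  obtain ⟨M, hM⟩ := exists_right_complement'_of_coprime (N := zpowers z)
    (by rw [hcard]; exact Nat.coprime_two_left.2 hodd)
  have hMc : Nat.card M = (zpowers z).index := by
    have := hM.card_mul; rw [hcard] at this; omega
  refine ⟨M, hMc ▸ hodd, by rw [hMc, hidx], fun k hk => ?_⟩
  obtain ⟨⟨⟨n, hn⟩, ⟨w, hw⟩⟩, e⟩ := hM.2 k
  change n * w = k at e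
  rcases eq_one_or_of_card_two hcard (mem_zpowers z) (fun e => by rw [e, orderOf_one] at hz; omega) hn with
    rfl | rfl
  · rw [← e, one_mul]; exact hw
  · obtain ⟨j, hj⟩ := hk
    have h1 : (n * w) ^ orderOf k = 1 := by rw [e, pow_orderOf_eq_one]
    rw [(show Commute n w from (hzc w).symm).mul_pow, hj, pow_succ, pow_mul,
      show n ^ 2 = 1 from hz ▸ pow_orderOf_eq_one n, one_pow, one_mul] at h1
    have hnM : n ∈ M := by rw [eq_inv_of_mul_eq_one_left h1]; exact inv_mem (pow_mem hw _)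
    rw [← e]; exact mul_mem hnM hw

variable [Finite G] {L : Subgroup G} {t : G}

theorem mem_normalizer_of_tight (hL : Cfsg.IsStandardSubgroup L) {x g : G} (hx2 : orderOf x = 2)
    (hx : x ∈ centralizer (L : Set G)) (hgx : g * x * g⁻¹ ∈ centralizer (L : Set G)) :
    g ∈ normalizer (L : Set G) := by
  rw [hL.2.2.2]
  by_contra hg
  have hodd := hL.2.1.2 g hg
  have hmem : g * x * g⁻¹ ∈ centralizer (L : Set G) ⊓
      (centralizer (L : Set G)).map (MulAut.conj g).toMonoidHom := ⟨hgx, x, hx, rfl⟩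
  have h := Subgroup.orderOf_dvd_natCard _ hmem
  rw [show g * x * g⁻¹ = MulAut.conj g x from rfl, MulEquiv.orderOf_eq, hx2] at h
  obtain ⟨j, hj⟩ := hodd
  rw [hj] at h
  omega

/-- The standard component with its centralizer. -/
theorem exists_std (hL : Cfsg.IsStandardSubgroup L) (hZ : Nat.card (center L) = 2)
    (q : L ⧸ center L ≃* Matrix.symplecticGroup (Fin 3) (ZMod 2))
    (hbal : ∀ x : G, orderOf x = 2 → Cfsg.centralizerPPrimeCore 2 x = ⊥) :
    Cfsg.IsNonsplitDoubleCover L (Matrix.symplecticGroup (Fin 3) (ZMod 2)) ∧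
      ∃ S : StdComp G, orderOf S.t = 2 ∧ S.φ.range = L := by
  have hperf : commutator L = ⊤ := hL.1.1.commutator_eq_top
  have hns : Cfsg.IsNonsplitDoubleCover L (Matrix.symplecticGroup (Fin 3) (ZMod 2)) := by
    refine ⟨hZ, ⟨q⟩, fun M hM => ?_⟩
    have hle : commutator L ≤ M := by
      rw [_root_.commutator_def, commutator_le]
      intro a _ b _
      obtain ⟨⟨⟨u, hu⟩, ⟨m, hm⟩⟩, rfl⟩ := hM.2 a
      obtain ⟨⟨⟨v, hv⟩, ⟨n, hn⟩⟩, rfl⟩ := hM.2 b
      show ⁅u * m, v * n⁆ ∈ M
      have hu' : ∀ w, Commute u w := fun w => (mem_center_iff.1 hu w).symm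
      have hv' : ∀ w, Commute v w := fun w => (mem_center_iff.1 hv w).symm
      have : ⁅u * m, v * n⁆ = ⁅m, n⁆ := by
        simp only [commutatorElement_def, mul_inv_rev]
        calc u * m * (v * n) * (m⁻¹ * u⁻¹) * (n⁻¹ * v⁻¹)
            = u * (m * v) * n * m⁻¹ * u⁻¹ * n⁻¹ * v⁻¹ := by group
          _ = u * v * (m * n * m⁻¹) * (u⁻¹ * n⁻¹) * v⁻¹ := by rw [← (hv' m).eq]; group
          _ = u * v * (m * n * m⁻¹) * (n⁻¹ * u⁻¹) * v⁻¹ := by rw [((hu' n⁻¹).inv_left).eq]
          _ = u * v * (m * n * m⁻¹ * n⁻¹) * (u * v)⁻¹ * (u * v * u⁻¹ * v⁻¹) := by group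
          _ = m * n * m⁻¹ * n⁻¹ := by
            rw [((hu' _).mul_left (hv' (m * n * m⁻¹ * n⁻¹))).eq, (hu' v).eq]; group
      rw [this, commutatorElement_def]
      exact mul_mem (mul_mem (mul_mem hm hn) (inv_mem hm)) (inv_mem hn)
    rw [hperf, top_le_iff] at hle
    have hd := hM.disjoint
    rw [hle, disjoint_top] at hd
    rw [hd, card_bot] at hZ
    omega
  refine ⟨hns, ?_⟩
  obtain ⟨z, hz, hz1⟩ : ∃ z : L, z ∈ center L ∧ z ≠ 1 := by
    by_contra h
    push Not at h
    rw [show center L = ⊥ from eq_bot_iff.2 fun z hz => mem_bot.2 (h z hz), card_bot] at hZ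
    omega
  obtain ⟨e, he⟩ := cover_stmt L hns z hz hz1
  have hcen : ∀ x ∈ center L, x = 1 ∨ x = z := fun x hx => eq_one_or_of_card_two hZ hz hz1 hx
  have hzc : (z : G) ∈ centralizer (L : Set G) := mem_centralizer_iff.2 fun x hx =>
    congrArg Subtype.val (mem_center_iff.1 hz ⟨x, hx⟩)
  have hz2 : orderOf (z : G) = 2 := by
    rw [Subgroup.orderOf_coe]
    refine orderOf_eq_prime ?_ hz1
    have h := orderOf_dvd_natCard (⟨z, hz⟩ : center L)
    rw [hZ, Subgroup.orderOf_mk] at h
    exact orderOf_dvd_iff_pow_eq_one.1 h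
  have hnz : ∀ g ∈ normalizer (L : Set G), g * z * g⁻¹ = z := by
    intro g hg
    have hg' : g * z * g⁻¹ ∈ L := (mem_normalizer_iff.1 hg z).1 z.2
    have hc : (⟨_, hg'⟩ : L) ∈ center L := mem_center_iff.2 fun x => Subtype.ext (by
      have hx' : g⁻¹ * x * g ∈ L := (mem_normalizer_iff.1 hg _).2 (by
        rw [show g * (g⁻¹ * (x : G) * g) * g⁻¹ = x by group]; exact x.2)
      have h := congrArg Subtype.val (mem_center_iff.1 hz ⟨_, hx'⟩)
      simp only [Subgroup.coe_mul] at h ⊢
      calc (x : G) * (g * z * g⁻¹) = g * (g⁻¹ * x * g * z) * g⁻¹ := by group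
        _ = _ := by rw [h]; group)
    rcases hcen _ hc with h | h
    · exact absurd (Subtype.ext (conj_eq_one_iff.1 (congrArg Subtype.val h)) : z = 1) hz1
    · exact congrArg Subtype.val h
  have hnorm : ∀ g : G, g * z = z * g → g ∈ normalizer (L : Set G) := fun g hg =>
    mem_normalizer_of_tight hL hz2 hzc (by rw [hg, mul_inv_cancel_right]; exact hzc)
  have hdec : ∀ g : G, g * z = z * g → ∃ c, ∃ k ∈ centralizer (L : Set G), g = (e c : G) * k := by
    intro g hg
    obtain ⟨α, hα⟩ : ∃ α : MulAut L, ∀ x : L, (α x : G) = g * x * g⁻¹ :=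
      ⟨normalizerMonoidHom L ⟨g, hnorm g hg⟩, fun x => rfl⟩
    let Q := L ⧸ center L
    let β : MulAut Q := QuotientGroup.congr _ _ α (by
      ext y
      simp only [mem_map, mem_center_iff]
      constructor
      · rintro ⟨x, hx, rfl⟩ w
        obtain ⟨w, rfl⟩ := α.surjective w
        exact (map_mul α w x).symm.trans ((congrArg α (hx w)).trans (map_mul α x w))
      · intro hy
        refine ⟨α.symm y, fun w => α.injective ?_, by simp⟩
        rw [map_mul, map_mul, α.apply_symm_apply]; exact hy _)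
    let p : Q ≃* Cfsg.PSp 3 (ZMod 2) :=
      q.trans ((QuotientGroup.quotientMulEquivOfEq CfsgLib.Golay.E8Cent.sp_center).trans
        QuotientGroup.quotientBot).symm
    obtain ⟨a, ha⟩ := psp_aut_inner (p.symm.trans (β.trans p))
    obtain ⟨c, hc⟩ := QuotientGroup.mk_surjective (p.symm a)
    have hmk : ∀ x : L, (QuotientGroup.mk (α x) : Q) = QuotientGroup.mk (c * x * c⁻¹) := by
      intro x
      apply p.injective
      have h := congrArg (fun f : MulAut _ => f (p (QuotientGroup.mk x : Q))) ha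
      simp only [MulAut.conj_apply, MulEquiv.trans_apply, MulEquiv.symm_apply_apply] at h
      rw [QuotientGroup.mk_mul, QuotientGroup.mk_mul, QuotientGroup.mk_inv, hc, map_mul, map_mul, map_inv,
        p.apply_symm_apply, h]
      rfl
    let f : L →* center L :=
      { toFun := fun x => ⟨(c * x * c⁻¹)⁻¹ * α x, QuotientGroup.eq.1 (hmk x).symm⟩
        map_one' := Subtype.ext (by simp)
        map_mul' := fun x y => Subtype.ext (by
          have hxc := mem_center_iff.1 (QuotientGroup.eq.1 (hmk x).symm) (c * y * c⁻¹)⁻¹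
          show (c * (x * y) * c⁻¹)⁻¹ * α (x * y) = (c * x * c⁻¹)⁻¹ * α x * ((c * y * c⁻¹)⁻¹ * α y)
          rw [map_mul, show (c * (x * y) * c⁻¹)⁻¹ * (α x * α y) =
            (c * y * c⁻¹)⁻¹ * ((c * x * c⁻¹)⁻¹ * α x) * α y by group, hxc]
          group) }
    have hf : ∀ x : L, f x = 1 := fun x => by
      letI : CommGroup (center L) := { (inferInstance : Group (center L)) with
        mul_comm := fun a b => Subtype.ext (mem_center_iff.1 b.2 a) }
      have hk : commutator L ≤ f.ker := Abelianization.commutator_subset_ker f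
      exact MonoidHom.mem_ker.1 (hk (hperf.symm ▸ mem_top x))
    refine ⟨e.symm c, (c : G)⁻¹ * g, mem_centralizer_iff.2 fun x hx => ?_, by simp⟩
    have h := congrArg (fun w : center L => ((w : L) : G)) (hf ⟨x, hx⟩)
    simp only [f, MonoidHom.coe_mk, OneHom.coe_mk, Subgroup.coe_mul, Subgroup.coe_inv, Subgroup.coe_one,
      hα] at h
    rw [inv_mul_eq_one] at h
    calc x * ((c : G)⁻¹ * g) = (c : G)⁻¹ * ((c : G) * x * (c : G)⁻¹) * g := by group
      _ = _ := by rw [h]; group
  have hmeet : ∀ c : Cm, (e c : G) ∈ centralizer (L : Set G) → c = 1 ∨ c = tm := by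
    intro c hc
    rcases hcen (e c) (mem_center_iff.2 fun x => Subtype.ext (mem_centralizer_iff.1 hc x x.2)) with h | h
    exacts [Or.inl (e.map_eq_one_iff.1 h), Or.inr (e.injective (h.trans he.symm))]
  let K := centralizer (L : Set G)
  have hK2 : 2 ∣ Nat.card K := hz2 ▸ (Subgroup.orderOf_coe (⟨z, hzc⟩ : K)).symm ▸ orderOf_dvd_natCard _
  have hfour : (∀ x ∈ K, x * x = 1 → x = 1 ∨ x = (z : G)) →
      (∀ x ∈ K, x = 1 ∨ x = (z : G)) ∨ ∃ y ∈ K, y * y = (z : G) := by
    intro huniq
    haveI : Fact (Nat.Prime 2) := ⟨Nat.prime_two⟩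
    by_cases h4 : 2 ^ 2 ∣ Nat.card K
    · refine Or.inr ?_
      obtain ⟨P, hP⟩ := Sylow.exists_subgroup_card_pow_prime (G := K) 2 h4
      obtain ⟨y, hy, hy2⟩ : ∃ y ∈ P, y * y ≠ 1 := by
        by_contra h
        push Not at h
        have hzK : (⟨(z : G), hzc⟩ : K) ≠ 1 := fun r => hz1 (Subtype.ext (congrArg (fun w : K => (w : G)) r))
        have hle : (P : Set K) ⊆ {1, ⟨(z : G), hzc⟩} := fun x hx => by
          rcases huniq x x.2 (congrArg Subtype.val (h x hx)) with r | r
          exacts [Or.inl (Subtype.ext r), Or.inr (Subtype.ext r)]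
        have := Set.ncard_le_ncard hle (Set.toFinite _)
        rw [← Nat.card_coe_set_eq, show Nat.card (P : Set K) = 2 ^ 2 from hP, Set.ncard_pair hzK.symm] at this
        norm_num at this
      refine ⟨y, y.2, ?_⟩
      have h4y : y ^ 4 = 1 := orderOf_dvd_iff_pow_eq_one.1 (by
        have := Subgroup.orderOf_dvd_natCard P hy; rwa [hP] at this)
      rcases huniq ((y * y : K) : G) (y * y).2 (by
        rw [← Subgroup.coe_mul, show y * y * (y * y) = y ^ 4 by simp [pow_succ, mul_assoc], h4y]; rfl) with r | r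
      · exact absurd (Subtype.ext r) hy2
      · exact r
    · refine Or.inl ?_
      have hzo : orderOf (⟨(z : G), hzc⟩ : K) = 2 := by rw [Subgroup.orderOf_mk]; exact hz2
      obtain ⟨M, hModd, hMc, hMall⟩ := exists_odd_part hzo
        (fun k => Subtype.ext (mem_centralizer_iff.1 k.2 _ z.2).symm)
        (Nat.odd_iff.2 (by
          obtain ⟨m, hm⟩ := hK2
          rw [hm, Nat.mul_div_cancel_left _ two_pos]
          by_contra hne
          refine h4 ?_
          rw [hm]
          exact ⟨m / 2, by omega⟩)) hK2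
      let C := centralizer ({(z : G)} : Set G)
      have hKC : K ≤ C := fun k hk =>
        mem_centralizer_singleton_iff.2 (mem_centralizer_iff.1 hk _ z.2).symm
      let N : Subgroup C := M.map (Subgroup.inclusion hKC)
      have hN : N.Normal := ⟨by
        rintro _ ⟨m, hm, rfl⟩ g
        have hg := hnorm g (mem_centralizer_singleton_iff.1 g.2)
        rw [hL.2.2.2] at hg
        have hmK : (g : G) * m * (g : G)⁻¹ ∈ K := (mem_normalizer_iff.1 hg m).1 m.2
        refine ⟨⟨_, hmK⟩, hMall _ ?_, Subtype.ext rfl⟩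
        rw [Subgroup.orderOf_mk, show (g : G) * m * (g : G)⁻¹ = MulAut.conj (g : G) m from rfl,
          MulEquiv.orderOf_eq, Subgroup.orderOf_coe]
        exact Odd.of_dvd_nat hModd (Subgroup.orderOf_dvd_natCard M hm)⟩
      have hcop : (Nat.card N).Coprime 2 := by
        rw [show Nat.card N = Nat.card M from
          (Nat.card_congr (M.equivMapOfInjective _ (Subgroup.inclusion_injective hKC)).toEquiv).symm]
        exact Nat.coprime_two_right.2 hModd
      have hbot : N = ⊥ := by
        have hle : N ≤ Cfsg.pPrimeCore 2 C := le_sSup ⟨hN, hcop⟩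
        have h := hbal z hz2
        rw [Cfsg.centralizerPPrimeCore] at h
        rw [map_eq_bot_iff_of_injective _ (Subgroup.subtype_injective _)] at h
        exact eq_bot_iff.2 (hle.trans h.le)
      have hM1 : Nat.card M = 1 := by
        rw [show M = ⊥ from (map_eq_bot_iff_of_injective _ (Subgroup.inclusion_injective hKC)).1 hbot, card_bot]
      rw [hM1, mul_one] at hMc
      exact fun x hx => eq_one_or_of_card_two hMc hzc (fun r => hz1 (Subtype.ext r)) hx
  refine ⟨⟨L.subtype.comp e.toMonoidHom, L.subtype_injective.comp e.injective, z, by simp [he], K,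
    fun c k hk => mem_centralizer_iff.1 hk _ (e c).2, hzc, hdec, hmeet,
    fun x hx h2 h1 g hg => hnz g (mem_normalizer_of_tight hL (orderOf_eq_prime (by rw [pow_two, h2]) h1) hx hg),
    hfour⟩, hz2, ?_⟩
  ext x
  constructor
  · rintro ⟨c, rfl⟩; exact (e c).2
  · intro hx; exact ⟨e.symm ⟨x, hx⟩, by simp⟩

/-- **The centralizer of the involution is the double cover.** -/
theorem exists_double_cover [IsSimpleGroup G] (hG : ¬ IsMulCommutative G)
    (hbal : ∀ x : G, orderOf x = 2 → Cfsg.centralizerPPrimeCore 2 x = ⊥)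
    (hL : Cfsg.IsStandardSubgroup L) (hZ : Nat.card (center L) = 2)
    (q : L ⧸ center L ≃* Matrix.symplecticGroup (Fin 3) (ZMod 2)) :
    ∃ t : G, orderOf t = 2 ∧ Cfsg.IsNonsplitDoubleCover (centralizer ({t} : Set G))
      (Matrix.symplecticGroup (Fin 3) (ZMod 2)) := by
  obtain ⟨hns, S, ht, hr⟩ := exists_std hL hZ q hbal
  refine ⟨S.t, ht, ?_⟩
  obtain ⟨g, hgc, hgne⟩ : ∃ g : G, Commute S.t (g * S.t * g⁻¹) ∧ g * S.t * g⁻¹ ≠ S.t := by
    by_contra h
    push Not at h
    exact CfsgLib.InvChar.not_isolated_of_simple hG ⟨ht, h⟩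
  have P : StdPair S (S.conj g) := ⟨hgc.eq, fun x hx hx' h2 => by
    by_contra h1
    obtain ⟨y, hy, rfl⟩ := hx'
    have hy2 : y * y = 1 := (MulAut.conj g).injective ((map_mul _ y y).trans (h2.trans (map_one _).symm))
    have hy1 : y ≠ 1 := fun r => h1 (by rw [r, map_one])
    exact hgne (S.tight y hy hy2 hy1 g hx)⟩
  have hsmall : ∀ x ∈ S.K, x = 1 ∨ x = S.t := fun x hx => by
    by_contra hne
    simp only [not_or] at hne
    refine P.centralizer_small ⟨x, hx, hne.1, hne.2⟩ ⟨_, ⟨x, hx, rfl⟩, ?_, ?_⟩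
    · exact fun r => hne.1 ((MulAut.conj g).injective (r.trans (map_one _).symm))
    · exact fun r => hne.2 ((MulAut.conj g).injective r)
  have hC : centralizer ({S.t} : Set G) = L := by
    rw [← hr]
    ext x
    rw [mem_centralizer_singleton_iff]
    constructor
    · intro hx
      obtain ⟨c, k, hk, rfl⟩ := S.dec x hx
      rcases hsmall k hk with rfl | rfl
      · exact ⟨c, (mul_one _).symm⟩
      · exact ⟨c * tm, by rw [map_mul, S.t_eq]⟩
    · rintro ⟨c, rfl⟩; exact S.comm_phi c
  exact CfsgLib.InvChar.DoubleCoverUtil.double_cover_of_mulEquiv (MulEquiv.subgroupCongr hC.symm) hns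

end CfsgLib.Recog.Co3Inv
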