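import Cfsg.Agent.Lib.Recog.Co3Inv.CmInvol
import Cfsg.Agent.Lib.Recog.Co3Inv.DataSwap

/-!
The kernel checks for the automorphisms of the centralizer of two involutions exchanging them.
-/

set_option autoImplicit false
set_option maxRecDepth 100000
set_option Elab.async false

namespace CfsgLib.Recog.Co3Inv

open CfsgLib.InvChar.Coset

/-- A word in images of the generators. -/
noncomputable def imW (im : List (List ℕ)) (L : List ℕ) : List ℕ := L.flatMap fun k => im.getD k []

/-- The word of a generator. -/
noncomputable def gW (k : ℕ) : List ℕ := swGen.getD k []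

/-- A representative of the elements of order three. -/
noncomputable def rW (i : ℕ) : List ℕ := swRep.getD i []

/-- The centralizer of a representative. -/
noncomputable def cW (i : ℕ) : List (List ℕ) := swCent.getD i []

/-- An element of the Sylow 3-subgroup. -/
noncomputable def pW (n : ℕ) : List ℕ := (swP.getD n (0, [])).2

/-- A candidate image. -/
noncomputable def tgW (e k : ℕ) : List ℕ := (swTgt.getD e []).getD k []

/-- Commutation with the second involution and with a word. -/
noncomputable def commA (L : List ℕ) : Bool := eqK (L ++ McLInv.aW) (McLInv.aW ++ L)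

/-- Commutation of two words. -/
noncomputable def commW (L M : List ℕ) : Bool := eqK (L ++ M) (M ++ L)

/-- The cube is trivial on the four points. -/
noncomputable def cubeP (L : List ℕ) : Bool :=
  Nat.beq (actP L (actP L (actP L 275))) 275 && Nat.beq (actP L (actP L (actP L 0))) 0 &&
    Nat.beq (actP L (actP L (actP L 118))) 118 && Nat.beq (actP L (actP L (actP L 1))) 1

/-- The keys in increasing order. -/
noncomputable def incKeys (l : List ℕ) : Bool :=
  (List.rec (motive := fun _ => ℕ → Bool) (fun _ => true)
    (fun k _ ih prev => Nat.blt prev (k + 1) && ih (k + 1)) l) 0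

/-- Relations of the generators. -/
theorem gen_checks :
    ((List.range 6).all fun k => inC (gW k) && commA (gW k)) = true ∧
    eqK (imW swGen [0, 0, 0]) [] = true ∧ eqK (imW swGen [1, 1, 1]) [] = true ∧
    eqK (imW swGen [2, 2]) McLInv.tW = true ∧ eqK (imW swGen [3, 3]) (McLInv.tW ++ McLInv.aW) = true ∧
    eqK (imW swGen [4, 4]) McLInv.aW = true ∧
    eqK (imW swGen [0, 1]) (imW swGen [1, 0]) = true ∧ eqK (imW swGen [2, 0]) (imW swGen [0, 2]) = true ∧
    eqK (imW swGen [3, 1]) (imW swGen [1, 3]) = true ∧
    eqK (imW swGen ([4] ++ swThird)) (imW swGen (swThird ++ [4])) = true ∧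
    eqK (imW swGen [5, 0]) (imW swGen [0, 0, 5]) = true ∧
    eqK (imW swGen [5, 1]) (imW swGen [1, 1, 5]) = true ∧
    neK (gW 0) [] = true ∧ neK (gW 1) [] = true ∧
    eqK (imW swGen (swTV.getD 0 [])) McLInv.tW = true ∧ eqK (imW swGen (swTV.getD 1 [])) McLInv.aW = true ∧
    (swRel5.all fun L => eqK (imW swGen L) []) = true ∧ (swRel6.all fun L => eqK (imW swGen L) []) = true ∧
    (swThird.all fun k => Nat.blt k 6) = true ∧ (swTV.all fun L => L.all fun k => Nat.blt k 6) = true ∧
    (swRel5.all fun L => L.all fun k => Nat.blt k 6) = true ∧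
    (swRel6.all fun L => L.all fun k => Nat.blt k 6) = true := by decide +kernel

/-- The elements of order three are in the list. -/
noncomputable def threeOK : Bool :=
  (dT 0).all fun A => (dT 1).all fun B => (dT 2).all fun C => (dT 3).all fun D =>
    force (actP (A ++ B ++ C ++ D) 275) fun _ =>
      bif cubeP (A ++ B ++ C ++ D) then
        force (keyP (A ++ B ++ C ++ D)) fun key =>
          Nat.beq key (keyP []) || swThree.any fun p => Nat.beq key p.1
      else true

theorem three_checks : threeOK = true := by decide +kernel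

/-- The list of elements of order three. -/
theorem threeList_checks :
    (swThree.all fun p => Nat.blt p.2.1 4 && inC p.2.2 && commA p.2.2 &&
      Nat.beq p.1 (keyP (p.2.2 ++ rW p.2.1 ++ p.2.2.reverse))) = true ∧
    incKeys (swThree.map fun p => p.1) = true ∧
    ((List.range 4).all fun i => inC (rW i) && commA (rW i) &&
      Nat.beq ((swThree.countP fun p => Nat.beq p.2.1 i) * (cW i).length) 4608 &&
      Nat.blt 0 (cW i).length &&
      (cW i).all (fun L => inC L && commA L && commW L (rW i)) &&
      incKeys ((cW i).map keyP)) = true := by decide +kernel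

/-- No candidates outside the third representative; the elements of order three commuting with it. -/
theorem case_checks :
    ((List.range 4).all fun i => Nat.beq i 2 || (cW i).all fun L => !eqK (L ++ L) McLInv.aW) = true ∧
    ((cW 2).all fun L => bif cubeP L then
      force (keyP L) fun key => Nat.beq key (keyP []) || swY.any fun p => Nat.beq key p.1 else true) = true ∧
    (swY.all fun p => Nat.blt p.2.1 8 && inC p.2.2 && commA p.2.2 && commW p.2.2 (rW 2) &&
      Nat.beq p.1 (keyP (p.2.2 ++ pW p.2.1 ++ p.2.2.reverse))) = true ∧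
    ((List.range 8).all fun n => match swP.getD n (0, []) with
      | (j, p) => Nat.blt j 4 && inC p && commA p &&
        (eqK (rW j) p || eqK (rW j) (p ++ p)) &&
        (Nat.beq j 1 || (cW j).all fun L => !eqK (L ++ L) (McLInv.tW ++ McLInv.aW))) = true ∧
    ((List.range 8).all fun n => !Nat.beq (swP.getD n (0, [])).1 1 || Nat.beq n 2 || Nat.beq n 3) = true ∧
    eqK (imW [rW 2, pW 2] swThird) (pW 6) = true ∧ eqK (imW [rW 2, pW 3] swThird) (pW 0) = true ∧
    eqK (rW 0) (pW 0) = true ∧ (eqK (rW 3) (pW 6)) = true ∧
    ((cW 3).all fun L => !eqK (L ++ L) McLInv.tW) = true ∧ (swThird.all fun k => Nat.blt k 2) = true := by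
  decide +kernel

/-- The candidates for the next three generators. -/
theorem cand_checks :
    ((cW 2).all fun L => bif eqK (L ++ L) McLInv.aW then
      force (keyP L) fun key => swUCert.any fun p => Nat.beq key p.1 else true) = true ∧
    (swUCert.all fun p => Nat.blt p.2.1 swU.length && Nat.blt p.2.2 3 &&
      Nat.beq p.1 (keyP ((List.replicate p.2.2 (pW 2)).flatten ++ swU.getD p.2.1 [] ++
        ((List.replicate p.2.2 (pW 2)).flatten).reverse))) = true ∧
    ((cW 1).all fun L => bif eqK (L ++ L) (McLInv.tW ++ McLInv.aW) then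
      force (keyP L) fun key => swVCert.any fun p => Nat.beq key p.1 else true) = true ∧
    (swVCert.all fun p => Nat.blt p.2.1 swV.length && Nat.blt p.2.2 3 &&
      Nat.beq p.1 (keyP ((List.replicate p.2.2 (rW 2)).flatten ++ swV.getD p.2.1 [] ++
        ((List.replicate p.2.2 (rW 2)).flatten).reverse))) = true ∧
    ((cW 0).all fun L => bif eqK (L ++ L) McLInv.tW then
      force (keyP L) fun key => swW.any fun M => Nat.beq key (keyP M) else true) = true ∧
    (swU.all fun M => inC M && commA M && commW M (rW 2)) = true ∧
    (swV.all fun M => inC M && commA M) = true ∧ (swW.all fun M => inC M) = true ∧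
    commW (pW 2) (rW 2) = true ∧ commW (pW 2) (pW 3) = true ∧
    commW (rW 2) (pW 3) = true ∧ (swU.all fun M => commW M (rW 2)) = true ∧ inC (pW 2) = true ∧ commA (pW 2) = true ∧
    inC swInv = true ∧ commA swInv = true ∧
    eqK (swInv ++ rW 2) (rW 2 ++ rW 2 ++ swInv) = true ∧ eqK (swInv ++ pW 3) (pW 3 ++ pW 3 ++ swInv) = true ∧
    eqK (rW 2 ++ rW 2 ++ rW 2) [] = true ∧ eqK (pW 3 ++ pW 3 ++ pW 3) [] = true ∧
    ((cW 2).all fun L => bif commW L (pW 3) then
      force (keyP L) fun key => swCP.any fun M => Nat.beq key (keyP M) else true) = true ∧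
    (swCP.all fun M => inC M) = true := by decide +kernel

/-- The search. -/
noncomputable def searchOK : Bool :=
  swU.all fun u => swV.all fun v => swW.all fun w =>
    bif eqK (imW [rW 2, pW 3, u, v, w] (swTV.getD 0 [])) McLInv.aW &&
        eqK (imW [rW 2, pW 3, u, v, w] (swTV.getD 1 [])) McLInv.tW &&
        swRel5.all (fun L => eqK (imW [rW 2, pW 3, u, v, w] L) []) then
      swCP.all fun c =>
        bif swRel6.all (fun L => eqK (imW [rW 2, pW 3, u, v, w, swInv ++ c] L) []) then
          swSol.any fun s => (List.range 6).all fun k =>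
            eqK (s.1.getD k []) ([rW 2, pW 3, u, v, w, swInv ++ c].getD k [])
        else true
    else true

theorem search_checks : searchOK = true ∧
    ((swRel5.all fun L => L.all fun k => Nat.blt k 5) &&
      (swTV.all fun L => L.all fun k => Nat.blt k 5)) = true := by decide +kernel

/-- The solutions and the candidate images. -/
theorem sol_checks :
    (swSol.all fun s => Nat.blt s.2.1 4 && inC s.2.2 && commA s.2.2 &&
      (List.range 6).all fun k => eqK (s.1.getD k []) (s.2.2 ++ tgW s.2.1 k ++ s.2.2.reverse)) = true ∧
    ((List.range 4).all fun e => (List.range 6).all fun k => inC (tgW e k) &&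
      ((swTgtIdx.getD e []).getD k []).all (fun i => Nat.blt i 6) &&
      eqK (tgW e k) (imW swGen ((swTgtIdx.getD e []).getD k []))) = true ∧
    (swName.all fun L => L.all fun k => Nat.blt k 6) = true ∧
    ((List.range 3).all fun k => eqK (imW swGen (swName.getD k [])) (McLInv.dGen.getD k [])) = true ∧
    eqK (imW swGen (swName.getD 3 [])) [9] = true ∧ eqK (imW swGen (swName.getD 4 [])) tauW = true ∧
    ((List.range 2).all fun e =>
      ((List.range 3).all fun k => eqK (imW (swTgt.getD e []) (swName.getD k [])) (McLInv.dImg.getD k [])) &&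
      eqK (imW (swTgt.getD e []) (swName.getD 3 [])) cc2W) = true ∧
    eqK (imW (swTgt.getD 0 []) (swName.getD 4 [])) tau2W = true ∧
    eqK (imW (swTgt.getD 1 []) (swName.getD 4 [])) (tau2W ++ McLInv.tW ++ McLInv.aW) = true := by
  decide +kernel

/-- The square of a candidate. -/
noncomputable def sqW (e k : ℕ) : List ℕ := imW (swTgt.getD e []) ((swTgtIdx.getD e []).getD k [])

/-- Inner automorphisms equal to the squares of the candidates. -/
theorem square_checks :
    eqK (rW 0) (gW 0) = true ∧
    ((List.range 4).all fun e => eqK (sqW e 0) (gW 0) && eqK (sqW e 1) (gW 1) &&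
      (cW 0).all fun c => !commW c (gW 1) ||
        (Nat.blt e 2 && (eqK c [] || eqK c McLInv.tW || eqK c McLInv.aW || eqK c (McLInv.tW ++ McLInv.aW))) ||
        (List.range 6).any fun k => neK (c ++ gW k) (sqW e k ++ c)) = true := by decide +kernel

end CfsgLib.Recog.Co3Inv
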