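import Cfsg.Agent.Lib.Recog.Co3Inv.TopClass
import Cfsg.Agent.Lib.Chev.TwistFGWeyl
import Cfsg.Agent.Lib.Invol.ZStar
import Cfsg.Agent.S3035

/-!
The centralizer of a four-group without members of the first class is inside the embedded model:
modulo the four-group it is the symmetric group of degree five.
-/

set_option autoImplicit false
set_option maxRecDepth 100000

namespace CfsgLib.Recog.Co3Inv

open CfsgLib.InvChar.Coset
open Subgroup

theorem xor_check : ((List.range 2).all fun j => (List.range 4).all fun v => (List.range 4).all fun w =>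
    agree (vW j v ++ vW j w) (vW j (v ^^^ w))) = true := by
  decide +kernel

/-- The second involution. -/
noncomputable def zc (j : ℕ) : Cm := aEl (zW j)

theorem vEl_zero (j : ℕ) : aEl (vW j 0) = 1 := rfl

theorem vEl_one (j : ℕ) : aEl (vW j 1) = sm := aEl_iS

theorem vEl_two (j : ℕ) : aEl (vW j 2) = zc j := rfl

theorem vEl_three (j : ℕ) : aEl (vW j 3) = sm * zc j := by
  show aEl ([iS] ++ zW j) = _
  rw [aEl_append, aEl_iS]
  rfl

/-- The set of elements of a four-group. -/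
def InVs (j : ℕ) (c : Cm) : Prop := ∃ v < 4, c = aEl (vW j v)

theorem offV_sound {j : ℕ} {w : List ℕ} (h : offV j w = true) : ¬ InVs j (aEl w) := by
  rintro ⟨v, hv, e⟩
  simp only [offV, List.all_eq_true, List.mem_range] at h
  exact differ_sound (h v hv) e

theorem aEl_flatten (w : List ℕ) : ∀ n, aEl (List.replicate n w).flatten = aEl w ^ n
  | 0 => rfl
  | n + 1 => by rw [List.replicate_succ, List.flatten_cons, aEl_append, aEl_flatten w n, pow_succ']

theorem aEl_dW (j i e : ℕ) : aEl (dW j i e) = aEl (aWd j) ^ i * aEl (bWd j) ^ e := by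
  rw [dW, aEl_append, aEl_flatten, aEl_flatten]

theorem dihedral_cases : ∀ g : DihedralGroup 4, ∃ i : Fin 4, ∃ e : Fin 2,
    g = DihedralGroup.r 1 ^ (i : ℕ) * DihedralGroup.sr 0 ^ (e : ℕ) := by
  decide +kernel

section hc

variable (hcard : Nat.card Cm = 2903040)
include hcard

theorem inV_sound {j : ℕ} {w : List ℕ} (h : inV j w = true) : InVs j (aEl w) := by
  simp only [inV, List.any_eq_true, List.mem_range] at h
  obtain ⟨v, hv, e⟩ := h
  exact ⟨v, hv, agree_sound hcard e⟩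

theorem vEl_mul {j : ℕ} (hj : j < 2) {v w : ℕ} (hv : v < 4) (hw : w < 4) :
    aEl (vW j v) * aEl (vW j w) = aEl (vW j (v ^^^ w)) := by
  have h := xor_check
  simp only [List.all_eq_true, List.mem_range] at h
  rw [← aEl_append, agree_sound hcard (h j hj v hv w hw)]

/-- The four-group. -/
noncomputable def vSub {j : ℕ} (hj : j < 2) : Subgroup Cm where
  carrier := {c | InVs j c}
  one_mem' := ⟨0, by norm_num, (vEl_zero j).symm⟩
  mul_mem' := by
    rintro _ _ ⟨v, hv, rfl⟩ ⟨w, hw, rfl⟩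
    exact ⟨v ^^^ w, Nat.xor_lt_two_pow (n := 2) hv hw, vEl_mul hcard hj hv hw⟩
  inv_mem' := by
    rintro _ ⟨v, hv, rfl⟩
    exact ⟨v, hv, inv_eq_of_mul_eq_one_right (by
      rw [vEl_mul hcard hj hv hv, Nat.xor_self, vEl_zero])⟩

theorem mem_vSub {j : ℕ} (hj : j < 2) {c : Cm} : c ∈ vSub hcard hj ↔ InVs j c := Iff.rfl

theorem quotient_facts {j : ℕ} (hj : j < 2) :
    okW (zW j) = true ∧ zc j * zc j = 1 ∧ Commute (zc j) sm ∧ tm ∉ vSub hcard hj ∧
    Commute (aEl (aWd j)) sm ∧ Commute (aEl (bWd j)) sm ∧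
    Commute (aEl (aWd j)) (zc j) ∧ Commute (aEl (bWd j)) (zc j) ∧
    aEl (aWd j) ^ 4 ∈ vSub hcard hj ∧ aEl (bWd j) ^ 2 ∈ vSub hcard hj ∧
    (aEl (aWd j) * aEl (bWd j)) ^ 2 ∈ vSub hcard hj ∧
    (∀ i < 4, ∀ e < 2, ¬ (i = 0 ∧ e = 0) →
      aEl (aWd j) ^ i * aEl (bWd j) ^ e ∉ vSub hcard hj) ∧
    ∀ c : Cm, Commute c sm → Commute c (zc j) → ∃ i < 4, ∃ e < 2,
      (aEl (aWd j) ^ i * aEl (bWd j) ^ e)⁻¹ * c ∈ vSub hcard hj := by
  have h := quotient_check
  simp only [List.all_eq_true, List.mem_range, Bool.and_eq_true, Bool.or_eq_true] at h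
  obtain ⟨⟨⟨⟨⟨⟨⟨⟨⟨⟨⟨⟨⟨⟨hz, -⟩, -⟩, hzz⟩, hzs⟩, hT⟩, has⟩, hbs⟩, haz⟩, hbz⟩, ha4⟩, hb2⟩, hab⟩, hoff⟩,
    hsurj⟩ := h j hj
  have hcomm : ∀ {x y : List ℕ}, agree (x ++ y) (y ++ x) = true → Commute (aEl x) (aEl y) :=
    fun {x y} e => by
      have e' := agree_sound hcard e
      rw [aEl_append, aEl_append] at e'
      exact e'
  refine ⟨hz, ?_, ?_, ?_, ?_, ?_, ?_, ?_, ?_, ?_, ?_, ?_, ?_⟩
  · rw [zc, ← aEl_append, agree_sound hcard hzz, aEl_nil]
  · rw [← aEl_iS]; exact hcomm hzs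
  · rw [mem_vSub, ← aEl_iT]; exact offV_sound hT
  · rw [← aEl_iS]; exact hcomm has
  · rw [← aEl_iS]; exact hcomm hbs
  · exact hcomm haz
  · exact hcomm hbz
  · have := inV_sound hcard ha4
    rwa [aEl_dW, pow_zero, mul_one] at this
  · have := inV_sound hcard hb2
    rwa [aEl_dW, pow_zero, one_mul] at this
  · have := inV_sound hcard hab
    rw [aEl_append, aEl_dW, pow_one, pow_one] at this
    rw [mem_vSub, pow_two]
    exact this
  · intro i hi e he hne
    rcases hoff i hi e he with ⟨h1, h2⟩ | h1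
    · exact absurd ⟨Nat.eq_of_beq_eq_true h1, Nat.eq_of_beq_eq_true h2⟩ hne
    · rw [mem_vSub, ← aEl_dW]; exact offV_sound h1
  · intro c hc1 hc2
    obtain ⟨u, hu, rfl⟩ := exists_cList hcard hc1
    rcases hsurj u hu with hd | hd
    · refine absurd ?_ (differ_sound hd)
      rw [aEl_append, aEl_append]
      exact hc2.eq
    · simp only [List.any_eq_true, List.mem_range] at hd
      obtain ⟨i, hi, e, he, v, hv, ha⟩ := hd
      refine ⟨i, hi, e, he, v, hv, ?_⟩
      rw [agree_sound hcard ha, aEl_append, aEl_dW, inv_mul_cancel_left]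

theorem type_facts {j : ℕ} (hj : j < 2) :
    fixC ((zc j : Cm) : Equiv.Perm (Fin 276)) ≠ 36 ∧
    fixC ((sm * zc j : Cm) : Equiv.Perm (Fin 276)) ≠ 36 ∧
    ∃ i e : ℕ, (aEl (aWd j) ^ i * aEl (bWd j) ^ e) * (aEl (aWd j) ^ i * aEl (bWd j) ^ e) ∈
        vSub hcard hj ∧
      aEl (aWd j) ^ i * aEl (bWd j) ^ e ∉ vSub hcard hj ∧
      ∀ c ∈ vSub hcard hj,
        (aEl (aWd j) ^ i * aEl (bWd j) ^ e * c) * (aEl (aWd j) ^ i * aEl (bWd j) ^ e * c) ≠ 1 ∨
        fixC ((aEl (aWd j) ^ i * aEl (bWd j) ^ e * c : Cm) : Equiv.Perm (Fin 276)) ≠ 36 := by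
  obtain ⟨hz, -, hcz, -⟩ := quotient_facts hcard hj
  have h := type_check.1
  simp only [List.all_eq_true, List.mem_range, Bool.and_eq_true, Bool.or_eq_true,
    Bool.not_eq_true'] at h
  obtain ⟨⟨h1, h2⟩, ⟨hu2, huo⟩, huv⟩ := h j hj
  have hne : ∀ {w : List ℕ}, okW w = true → Nat.beq (top_fixN w) 36 = false →
      fixC ((aEl w : Cm) : Equiv.Perm (Fin 276)) ≠ 36 := fun {w} hw hb e => by
    rw [fixC_aEl hw] at e
    rw [e, Nat.beq_refl] at hb
    cases hb
  refine ⟨hne hz h1, ?_, (rowP j).2.2.2.1.1, (rowP j).2.2.2.1.2, ?_, ?_, ?_⟩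
  · rw [← hcz.eq, zc, ← aEl_iS, ← aEl_append]
    exact hne (okW_append hz ok_named.2.2) h2
  · rw [← aEl_dW, ← aEl_append]; exact inV_sound hcard hu2
  · rw [mem_vSub, ← aEl_dW]; exact offV_sound huo
  · rintro c ⟨v, hv, rfl⟩
    rw [← aEl_dW, ← aEl_append]
    rcases huv v hv with hd | hb
    · exact Or.inl fun e => differ_sound hd (by rw [aEl_append, e, aEl_nil])
    · by_contra hcon
      rw [not_or, not_not, not_not] at hcon
      have hok : okW (dW j (rowP j).2.2.2.1.1 (rowP j).2.2.2.1.2 ++ vW j v) = true := by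
        have ho := huo
        simp only [offV, List.all_eq_true, List.mem_range, differ, Bool.and_eq_true] at ho
        exact okW_append (ho v hv).1.1 (ho v hv).1.2
      exact hne hok hb hcon.2

end hc

theorem wprod_mem_g3m {w : List ℕ} (h : ∀ x ∈ w, x < 10) : wprod gp w ∈ G3m := by
  refine Subgroup.list_prod_mem _ fun y hy => ?_
  obtain ⟨x, hx, rfl⟩ := List.mem_map.1 hy
  exact gp_mem_g3m (h x hx)

theorem commV_sound {j : ℕ} (hz : okW (zW j) = true) {w : List ℕ} (h : commV j w = true) :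
    ∃ x : G3m, (x : Equiv.Perm (Fin 276)) = wprod gp w ∧ Commute x (cmInc sm) ∧
      Commute x (cmInc (zc j)) := by
  simp only [commV, Bool.and_eq_true, List.all_eq_true, Nat.blt_eq] at h
  refine ⟨⟨wprod gp w, wprod_mem_g3m h.1.1⟩, rfl, Subtype.ext ?_, Subtype.ext ?_⟩
  · have e := eqP_sound h.1.2
    rw [wprod_append, wprod_append] at e
    simp only [Subgroup.coe_mul, cmInc_val]
    rw [← aEl_iS, aEl_val ok_named.2.2]
    exact e
  · have e := eqP_sound h.2
    rw [wprod_append, wprod_append] at e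
    simp only [Subgroup.coe_mul, cmInc_val, zc]
    rw [aEl_val hz]
    exact e

theorem okW_vW {j : ℕ} (hz : okW (zW j) = true) {v : ℕ} (hv : v < 4) : okW (vW j v) = true := by
  interval_cases v
  · rfl
  · exact ok_named.2.2
  · exact hz
  · exact okW_append ok_named.2.2 hz

/-- Two involutions of the alternating group of degree six are conjugate. -/
theorem isConj_alt_six (x y : alternatingGroup (Fin 6)) (hx : orderOf x = 2) (hy : orderOf y = 2) :
    IsConj x y := by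
  have key : ∀ z : alternatingGroup (Fin 6), orderOf z = 2 →
      (z : Equiv.Perm (Fin 6)).cycleType = Multiset.replicate 2 2 := by
    intro z hz
    have h2 : orderOf (z : Equiv.Perm (Fin 6)) = 2 := by rw [Subgroup.orderOf_coe, hz]
    obtain ⟨n, hn⟩ := Equiv.Perm.cycleType_prime_order (σ := (z : Equiv.Perm (Fin 6)))
      (by rw [h2]; exact Nat.prime_two)
    rw [h2] at hn
    have hs := Equiv.Perm.sign_of_cycleType (z : Equiv.Perm (Fin 6))
    have hle := Equiv.Perm.sum_cycleType_le (z : Equiv.Perm (Fin 6))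
    rw [Equiv.Perm.mem_alternatingGroup.1 z.2, hn, Multiset.sum_replicate, Multiset.card_replicate,
      smul_eq_mul] at hs
    rw [hn, Multiset.sum_replicate, smul_eq_mul, Fintype.card_fin] at hle
    rw [hn]
    have : n ≤ 2 := by omega
    interval_cases n
    · exact absurd hs (by decide)
    · rfl
    · exact absurd hs (by decide)
  refine alternatingGroup.isConj_of (Equiv.Perm.isConj_iff_cycleType_eq.2
    ((key x hx).trans (key y hy).symm)) ?_
  rw [← Equiv.Perm.sum_cycleType, key x hx]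
  decide

theorem card_slThree : Nat.card (Matrix.SpecialLinearGroup (Fin 3) (ZMod 2)) = 168 := by
  rw [Nat.card_eq_fintype_card]; decide +kernel

namespace Emb

variable {G : Type*} [Group G] {A : Amb G} {ρ : G3m →* G} (E : Emb A ρ)
include E

/-- A member of the four-group with the number of fixed points is trivial. -/
theorem four_type {j : ℕ} (hj : j < 2) {c : Cm} (hc : InVs j c)
    (hf : fixC ((c : Cm) : Equiv.Perm (Fin 276)) = 36) : False := by
  obtain ⟨hz1, hz2, -⟩ := type_facts E.card hj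
  obtain ⟨v, hv, rfl⟩ := hc
  interval_cases v
  · rw [vEl_zero, Subgroup.coe_one, fixC_one] at hf
    norm_num at hf
  · rw [vEl_one] at hf
    exact fixC_sm hf
  · rw [vEl_two] at hf
    exact hz1 hf
  · rw [vEl_three] at hf
    exact hz2 hf

variable [Finite G]

/-- The centralizer of a four-group is inside. -/
theorem cent_pair {j : ℕ} (hj : j < 2) {g : G} (hg1 : Commute g (A.φ sm))
    (hg2 : Commute g (A.φ (zc j))) : g ∈ ρ.range := by
  have hcard := E.card
  obtain ⟨hz, hzz, hzs, htV, has, hbs, haz, hbz, ha4, hb2, hab, hoff, hsurj⟩ :=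
    quotient_facts hcard hj
  set V := vSub hcard hj with hV
  set a := aEl (aWd j) with ha
  set b := aEl (bWd j) with hb
  set K : Subgroup G := centralizer ({A.φ sm, A.φ (zc j)} : Set G) with hK
  have memK : ∀ {x : G}, x ∈ K ↔ Commute x (A.φ sm) ∧ Commute x (A.φ (zc j)) := by
    intro x
    rw [hK, mem_centralizer_iff]
    simp only [Set.mem_insert_iff, Set.mem_singleton_iff, forall_eq_or_imp, forall_eq]
    exact ⟨fun h => ⟨h.1.symm, h.2.symm⟩, fun h => ⟨h.1.symm, h.2.symm⟩⟩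
  -- the four-group in the group
  set N : Subgroup G := V.map A.φ with hN
  have hcom : ∀ x ∈ K, ∀ n ∈ N, Commute x n := by
    rintro x hx _ ⟨c, ⟨v, hv, rfl⟩, rfl⟩
    obtain ⟨h1, h2⟩ := memK.1 hx
    interval_cases v
    · rw [vEl_zero, map_one]; exact Commute.one_right x
    · rw [vEl_one]; exact h1
    · rw [vEl_two]; exact h2
    · rw [vEl_three, map_mul]; exact h1.mul_right h2
  have hNn : (N.subgroupOf K).Normal := by
    constructor
    intro n hn k
    show (k : G) * n * (k : G)⁻¹ ∈ N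
    rw [(hcom k k.2 n hn).eq, mul_inv_cancel_right]
    exact hn
  -- the centralizer in the double cover
  set H1 : Subgroup Cm := centralizer ({sm, zc j} : Set Cm) with hH1
  have memH1 : ∀ {x : Cm}, x ∈ H1 ↔ Commute x sm ∧ Commute x (zc j) := by
    intro x
    rw [hH1, mem_centralizer_iff]
    simp only [Set.mem_insert_iff, Set.mem_singleton_iff, forall_eq_or_imp, forall_eq]
    exact ⟨fun h => ⟨h.1.symm, h.2.symm⟩, fun h => ⟨h.1.symm, h.2.symm⟩⟩
  have hH1K : ∀ x : H1, A.φ x ∈ K := fun x =>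
    memK.2 ⟨(memH1.1 x.2).1.map A.φ, (memH1.1 x.2).2.map A.φ⟩
  set q : K →* K ⧸ N.subgroupOf K := QuotientGroup.mk' (N.subgroupOf K) with hq
  let π : H1 →* K ⧸ N.subgroupOf K := q.comp ((A.φ.comp H1.subtype).codRestrict K hH1K)
  have hπ1 : ∀ x : H1, π x = 1 ↔ (x : Cm) ∈ V := by
    intro x
    show ((⟨A.φ x, hH1K x⟩ : K) : K ⧸ N.subgroupOf K) = 1 ↔ _
    rw [QuotientGroup.eq_one_iff]
    show A.φ x ∈ N ↔ _
    exact Subgroup.mem_map_iff_mem A.inj
  have htH : tm ∈ H1 := memH1.2 ⟨tm_center hcard sm, tm_center hcard (zc j)⟩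
  have haH : a ∈ H1 := memH1.2 ⟨has, haz⟩
  have hbH : b ∈ H1 := memH1.2 ⟨hbs, hbz⟩
  set τ := π ⟨tm, htH⟩ with hτ
  have hτ1 : τ ≠ 1 := fun h => htV ((hπ1 _).1 h)
  have hττ : τ * τ = 1 := by
    rw [hτ, ← map_mul, hπ1]
    show tm * tm ∈ V
    rw [top_tm_sq hcard]
    exact one_mem _
  have hτ2 : orderOf τ = 2 := orderOf_eq_prime (by rw [pow_two, hττ]) hτ1
  -- the dihedral group
  set α := π ⟨a, haH⟩ with hα
  set β := π ⟨b, hbH⟩ with hβ
  have hα4 : α ^ 4 = 1 := by rw [hα, ← map_pow, hπ1]; exact ha4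
  have hβ2 : β * β = 1 := by
    rw [hβ, ← map_mul, hπ1]
    show b * b ∈ V
    rw [← pow_two]
    exact hb2
  have hαβ : α * β * (α * β) = 1 := by
    rw [hα, hβ, ← map_mul, ← map_mul, hπ1]
    show a * b * (a * b) ∈ V
    rw [← pow_two]
    exact hab
  obtain ⟨f, hfr, hfs⟩ := CfsgLib.Chev.exists_dihedralHom (n := 4) hβ2 hα4 (by
    calc β * α * β = α⁻¹ * (α * β * (α * β)) := by group
      _ = α⁻¹ := by rw [hαβ, mul_one])
  have hf : ∀ i e : ℕ, f (DihedralGroup.r 1 ^ i * DihedralGroup.sr 0 ^ e) =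
      π (⟨a, haH⟩ ^ i * ⟨b, hbH⟩ ^ e) := fun i e => by
    rw [map_mul, map_pow, map_pow, hfr, hfs, map_mul, map_pow, map_pow]
  have hfinj : Function.Injective f := by
    refine (injective_iff_map_eq_one f).2 fun x hx => ?_
    obtain ⟨i, e, rfl⟩ := dihedral_cases x
    rw [hf, hπ1] at hx
    by_contra hne
    refine hoff i i.2 e e.2 ?_ hx
    rintro ⟨h1, h2⟩
    rw [h1, h2, pow_zero, pow_zero, one_mul] at hne
    exact hne rfl
  have hrange : centralizer ({τ} : Set (K ⧸ N.subgroupOf K)) = f.range := by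
    refine le_antisymm (fun y hy => ?_) ?_
    · obtain ⟨x, rfl⟩ := QuotientGroup.mk'_surjective _ y
      rw [mem_centralizer_singleton_iff] at hy
      have hy' : x * (⟨A.φ tm, hH1K ⟨tm, htH⟩⟩ : K) * x⁻¹ * (⟨A.φ tm, hH1K ⟨tm, htH⟩⟩ : K) ∈
          N.subgroupOf K := by
        rw [← QuotientGroup.eq_one_iff]
        show q (x * _ * x⁻¹ * _) = 1
        rw [map_mul, map_mul, map_mul, map_inv]
        show q x * τ * (q x)⁻¹ * τ = 1
        rw [hy, mul_inv_cancel_right, hττ]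
      obtain ⟨c, hc, hcx⟩ := hy'
      replace hcx : A.φ c = (x : G) * A.φ tm * (x : G)⁻¹ * A.φ tm := hcx
      have hxt : (x : G) * A.t * (x : G)⁻¹ = A.φ (c * tm) := by
        rw [map_mul, hcx, mul_assoc ((x : G) * A.φ tm * (x : G)⁻¹), ← map_mul A.φ tm tm,
          top_tm_sq hcard, map_one, mul_one, A.t_eq]
      have hconj : IsConj A.t (ρ (cmInc (c * tm))) := by
        rw [E.rc]; exact isConj_iff.2 ⟨x, hxt⟩
      have hc1 : c = 1 := by
        by_contra hne
        have hp := E.prod_model hconj (by rw [E.rt])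
          ((tm_center hcard (c * tm)).symm.map cmInc)
          (fun e => hne (mul_eq_right.1 (cmInc_inj e)))
        rw [← map_mul, mul_assoc, top_tm_sq hcard, mul_one] at hp
        exact E.four_type hj hc (E.conj_fix hp)
      rw [hc1, one_mul, A.t_eq] at hxt
      obtain ⟨d, hd⟩ := A.cent (x : G) (by
        calc (x : G) * A.t = (x : G) * A.t * (x : G)⁻¹ * x := by group
          _ = A.t * x := by rw [hxt])
      obtain ⟨hk1, hk2⟩ := memK.1 x.2
      rw [← hd] at hk1 hk2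
      have hd1 : Commute d sm := A.inj (by rw [map_mul, map_mul]; exact hk1)
      have hd2 : Commute d (zc j) := A.inj (by rw [map_mul, map_mul]; exact hk2)
      obtain ⟨i, hi, e, he, hmem⟩ := hsurj d hd1 hd2
      refine ⟨DihedralGroup.r 1 ^ i * DihedralGroup.sr 0 ^ e, ?_⟩
      rw [hf]
      have hxπ : q x = π ⟨d, memH1.2 ⟨hd1, hd2⟩⟩ := congrArg q (Subtype.ext hd.symm)
      show π _ = q x
      rw [hxπ, ← inv_mul_eq_one, ← map_inv, ← map_mul, hπ1]
      exact hmem
    · rintro _ ⟨x, rfl⟩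
      obtain ⟨i, e, rfl⟩ := dihedral_cases x
      rw [hf, mem_centralizer_singleton_iff, hτ, ← map_mul, ← map_mul]
      exact congrArg π (Subtype.ext (tm_center hcard _).eq.symm)
  -- the subgroup of the model
  set Hb : Subgroup (K ⧸ N.subgroupOf K) := (ρ.range.subgroupOf K).map q with hHb
  have hπHb : ∀ x : H1, π x ∈ Hb := fun x =>
    ⟨⟨A.φ x, hH1K x⟩, ⟨cmInc x, E.rc x⟩, rfl⟩
  have h8 : 8 ∣ Nat.card Hb := by
    have hle : f.range ≤ Hb := by
      rintro _ ⟨x, rfl⟩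
      obtain ⟨i, e, rfl⟩ := dihedral_cases x
      rw [hf]
      exact hπHb _
    have hc8 : Nat.card f.range = 8 := by
      rw [← Nat.card_congr (MonoidHom.ofInjective hfinj).toEquiv, DihedralGroup.nat_card]
    exact hc8 ▸ Subgroup.card_dvd_of_le hle
  have hw := word_check_pair
  simp only [List.all_eq_true, List.mem_range, Bool.and_eq_true] at hw
  obtain ⟨⟨⟨⟨⟨⟨⟨⟨w5, w3⟩, wf⟩, e5⟩, n5⟩, e3⟩, n3⟩, ex⟩, nx⟩ := hw j hj
  have word_mem : ∀ x : G3m, Commute x (cmInc sm) → Commute x (cmInc (zc j)) → ρ x ∈ K :=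
    fun x h1 h2 => memK.2
      ⟨by have := h1.map ρ; rwa [E.rc] at this, by have := h2.map ρ; rwa [E.rc] at this⟩
  have hprime : ∀ (p : ℕ), Nat.Prime p → p ≠ 2 → ∀ x : G3m, Commute x (cmInc sm) →
      Commute x (cmInc (zc j)) → x ^ p = 1 → x ≠ 1 → p ∣ Nat.card Hb := by
    intro p hp hp2 x h1 h2 hxp hx1
    have : Fact p.Prime := ⟨hp⟩
    have hmem : q ⟨ρ x, word_mem x h1 h2⟩ ∈ Hb := ⟨_, ⟨x, rfl⟩, rfl⟩
    have hpow : q ⟨ρ x, word_mem x h1 h2⟩ ^ p = 1 := by
      rw [← map_pow, show (⟨ρ x, word_mem x h1 h2⟩ : K) ^ p = 1 from Subtype.ext (by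
        show ρ x ^ p = 1
        rw [← map_pow, hxp, map_one]), map_one]
    have hne : q ⟨ρ x, word_mem x h1 h2⟩ ≠ 1 := by
      intro h
      obtain ⟨c, ⟨v, hv, rfl⟩, hc⟩ :=
        (QuotientGroup.eq_one_iff (N := N.subgroupOf K) _).1 h
      replace hc : A.φ (aEl (vW j v)) = ρ x := hc
      have hsq : x ^ 2 = 1 := E.inj (by
        rw [map_pow, ← hc, pow_two, ← map_mul, vEl_mul hcard hj hv hv, Nat.xor_self, vEl_zero,
          map_one, map_one])
      apply hx1
      rw [← orderOf_eq_one_iff]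
      exact Nat.eq_one_of_dvd_coprimes ((Nat.coprime_primes hp Nat.prime_two).2 hp2)
        (orderOf_dvd_of_pow_eq_one hxp) (orderOf_dvd_of_pow_eq_one hsq)
    rw [← orderOf_eq_prime hpow hne]
    have hd := orderOf_dvd_natCard (⟨_, hmem⟩ : Hb)
    rwa [← Subgroup.orderOf_coe] at hd
  have h5 : 5 ∣ Nat.card Hb := by
    obtain ⟨x, hx, h1, h2⟩ := commV_sound hz w5
    refine hprime 5 (by norm_num) (by norm_num) x h1 h2 (Subtype.ext ?_) (fun h => ?_)
    · rw [SubmonoidClass.coe_pow, hx, Subgroup.coe_one]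
      have e := eqP_sound e5
      simp only [wprod_append] at e
      simp only [pow_succ, pow_zero, one_mul]
      exact e
    · rw [h, Subgroup.coe_one] at hx
      exact neP_sound n5 hx.symm
  have h3 : 3 ∣ Nat.card Hb := by
    obtain ⟨x, hx, h1, h2⟩ := commV_sound hz w3
    refine hprime 3 (by norm_num) (by norm_num) x h1 h2 (Subtype.ext ?_) (fun h => ?_)
    · rw [SubmonoidClass.coe_pow, hx, Subgroup.coe_one]
      have e := eqP_sound e3
      simp only [wprod_append] at e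
      simp only [pow_succ, pow_zero, one_mul]
      exact e
    · rw [h, Subgroup.coe_one] at hx
      exact neP_sound n3 hx.symm
  have h120 : 120 ∣ Nat.card Hb := Nat.Coprime.mul_dvd_of_dvd_of_dvd (by norm_num : Nat.Coprime 8 15)
    h8 (Nat.Coprime.mul_dvd_of_dvd_of_dvd (by norm_num : Nat.Coprime 5 3) h5 h3)
  -- the cases
  have hD : Nonempty (centralizer ({τ} : Set (K ⧸ N.subgroupOf K)) ≃* DihedralGroup 4) :=
    ⟨(MulEquiv.subgroupCongr hrange).trans (MonoidHom.ofInjective hfinj).symm⟩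
  have hgK : g ∈ K := memK.2 ⟨hg1, hg2⟩
  rcases Cfsg.Agent.S3035.result τ hτ2 hD with hcore | ⟨⟨ε⟩⟩ | ⟨⟨ε⟩⟩ | ⟨⟨ε⟩⟩ | ⟨⟨ε⟩⟩
  · -- a commutator with the involution would be an involution of the odd core
    exfalso
    obtain ⟨F, hF, h1, h2⟩ := commV_sound hz wf
    set X := q ⟨ρ F, word_mem F h1 h2⟩ * τ * (q ⟨ρ F, word_mem F h1 h2⟩)⁻¹ * τ with hX
    have hXO : X ∈ Cfsg.oddCore (K ⧸ N.subgroupOf K) := by
      have hmem : q ⟨ρ F, word_mem F h1 h2⟩ ∈
          centralizer ({τ} : Set (K ⧸ N.subgroupOf K)) ⊔ Cfsg.oddCore (K ⧸ N.subgroupOf K) := by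
        rw [hcore]; trivial
      obtain ⟨c, hc, o, ho, hco⟩ := Subgroup.mem_sup_of_normal_right.1 hmem
      rw [mem_centralizer_singleton_iff] at hc
      rw [hX, ← hco, show c * o * τ * (c * o)⁻¹ * τ = c * (o * τ * o⁻¹) * c⁻¹ * τ by group]
      have e : c * (o * τ * o⁻¹) * c⁻¹ * τ = c * (o * (τ * o⁻¹ * τ⁻¹)) * c⁻¹ := by
        calc c * (o * τ * o⁻¹) * c⁻¹ * τ = c * (o * τ * o⁻¹) * c⁻¹ * τ⁻¹ := by
              rw [inv_eq_of_mul_eq_one_right hττ]
          _ = c * (o * τ * o⁻¹) * (τ * c)⁻¹ := by group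
          _ = c * (o * τ * o⁻¹) * (c * τ)⁻¹ := by rw [hc]
          _ = _ := by group
      rw [e]
      exact Subgroup.Normal.conj_mem inferInstance _
        (mul_mem ho (Subgroup.Normal.conj_mem inferInstance _ (inv_mem ho) τ)) c
    set x : G3m := F * cmInc tm * F⁻¹ * cmInc tm with hx
    have hxval : (x : Equiv.Perm (Fin 276)) = wprod gp ((rowP j).2.2.2.2.2.2 ++ flatA [iT] ++
        (rowP j).2.2.2.2.2.2.reverse ++ flatA [iT]) := by
      simp only [wprod_append, wprod_reverse gp gp_sq, ← aEl_val ok_named.1, aEl_iT]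
      rw [hx, Subgroup.coe_mul, Subgroup.coe_mul, Subgroup.coe_mul, Subgroup.coe_inv, hF, cmInc_val]
    have hxx : x * x = 1 := Subtype.ext (by
      rw [Subgroup.coe_mul, hxval, ← wprod_append, eqP_sound ex]; rfl)
    have hρx : ρ x = ρ F * A.t * (ρ F)⁻¹ * A.t := by
      rw [hx, map_mul, map_mul, map_mul, map_inv, E.rt]
    have htK : A.t ∈ K := A.t_eq ▸ hH1K ⟨tm, htH⟩
    have hρxK : ρ x ∈ K := by
      rw [hρx]
      exact mul_mem (mul_mem (mul_mem (word_mem F h1 h2) htK) (inv_mem (word_mem F h1 h2))) htK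
    have hτt : τ = q ⟨A.t, htK⟩ := congrArg q (Subtype.ext A.t_eq)
    have hXx : X = q ⟨ρ x, hρxK⟩ := by
      rw [hX, hτt, ← map_inv, ← map_mul, ← map_mul, ← map_mul]
      exact congrArg q (Subtype.ext hρx.symm)
    have hX2 : X * X = 1 := by
      rw [hXx, ← map_mul, show (⟨ρ x, hρxK⟩ : K) * ⟨ρ x, hρxK⟩ = 1 from Subtype.ext (by
        show ρ x * ρ x = 1
        rw [← map_mul, hxx, map_one]), map_one]
    have hX1 : X ≠ 1 := by
      rw [hXx]
      intro h
      obtain ⟨c, ⟨v, hv, rfl⟩, hc⟩ := (QuotientGroup.eq_one_iff (N := N.subgroupOf K) _).1 h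
      replace hc : A.φ (aEl (vW j v)) = ρ x := hc
      rw [← E.rc] at hc
      have e := congrArg Subtype.val (E.inj hc)
      rw [cmInc_val, aEl_val (okW_vW hz hv), hxval] at e
      exact neP_sound (nx v hv) e.symm
    have hd : 2 ∣ Nat.card (Cfsg.oddCore (K ⧸ N.subgroupOf K)) := by
      have h := orderOf_dvd_natCard (⟨X, hXO⟩ : Cfsg.oddCore (K ⧸ N.subgroupOf K))
      rwa [← Subgroup.orderOf_coe, orderOf_eq_prime (by rw [pow_two, hX2]) hX1] at h
    exact Nat.not_even_iff_odd.2 (CfsgLib.Invol.odd_card_oddCore _) (even_iff_two_dvd.2 hd)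
  · exfalso
    have h := h120.trans (Subgroup.card_subgroup_dvd_card Hb)
    rw [Nat.card_congr ε.toEquiv, Nat.card_perm, Nat.card_fin] at h
    exact absurd (Nat.le_of_dvd (by norm_num) h) (by decide)
  · have hcq : Nat.card (K ⧸ N.subgroupOf K) = 120 := by
      rw [Nat.card_congr ε.toEquiv, Nat.card_perm, Nat.card_fin]
      rfl
    have htop : Hb = ⊤ := Subgroup.eq_top_of_le_card _ (by
      rw [hcq]; exact Nat.le_of_dvd Nat.card_pos h120)
    obtain ⟨y, hy, hyg⟩ : q ⟨g, hgK⟩ ∈ Hb := by rw [htop]; trivial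
    have hmem : y⁻¹ * ⟨g, hgK⟩ ∈ N.subgroupOf K := (QuotientGroup.eq).1 hyg
    obtain ⟨c, -, hc⟩ := hmem
    replace hc : A.φ c = (y : G)⁻¹ * g := hc
    rw [show g = (y : G) * ((y : G)⁻¹ * g) by group, ← hc, ← E.rc]
    exact mul_mem hy ⟨_, rfl⟩
  · exfalso
    have h := (dvd_trans ⟨24, rfl⟩ h120 : 5 ∣ Nat.card Hb).trans (Subgroup.card_subgroup_dvd_card Hb)
    rw [Nat.card_congr ε.toEquiv, card_slThree] at h
    norm_num at h
  · -- a class of the double cover missing the first one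
    exfalso
    obtain ⟨-, -, i, e, hu2, hu1, huV⟩ := type_facts hcard hj
    have huH : a ^ i * b ^ e ∈ H1 := mul_mem (pow_mem haH i) (pow_mem hbH e)
    set U := π ⟨_, huH⟩ with hU
    have hUU : U * U = 1 := by rw [hU, ← map_mul, hπ1]; exact hu2
    have hU1 : U ≠ 1 := fun h => hu1 ((hπ1 _).1 h)
    have hc := isConj_alt_six (ε τ) (ε U) (by rw [MulEquiv.orderOf_eq, hτ2])
      (by rw [MulEquiv.orderOf_eq, orderOf_eq_prime (by rw [pow_two, hUU]) hU1])
    obtain ⟨w, hw⟩ := isConj_iff.1 hc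
    obtain ⟨y, hy⟩ := QuotientGroup.mk'_surjective (N.subgroupOf K) (ε.symm w)
    have hconj : q y * τ * (q y)⁻¹ = U := by
      refine ε.injective ?_
      rw [map_mul, map_mul, map_inv, hq, hy, MulEquiv.apply_symm_apply, hw]
    have hmem : (⟨A.φ (a ^ i * b ^ e), hH1K ⟨_, huH⟩⟩ : K)⁻¹ *
        (y * ⟨A.φ tm, hH1K ⟨tm, htH⟩⟩ * y⁻¹) ∈ N.subgroupOf K := by
      rw [← QuotientGroup.eq_one_iff]
      show q (_⁻¹ * (y * _ * y⁻¹)) = 1
      rw [map_mul q, map_inv q, map_mul q, map_mul q, map_inv q]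
      show U⁻¹ * (q y * τ * (q y)⁻¹) = 1
      rw [hconj, inv_mul_cancel]
    obtain ⟨c, hc', hcy⟩ := hmem
    replace hcy : A.φ c = (A.φ (a ^ i * b ^ e))⁻¹ * ((y : G) * A.φ tm * (y : G)⁻¹) := hcy
    have hty : IsConj A.t (A.φ (a ^ i * b ^ e * c)) := isConj_iff.2 ⟨y, by
      rw [map_mul A.φ (a ^ i * b ^ e) c, hcy, mul_inv_cancel_left, A.t_eq]⟩
    rcases huV c hc' with h | h
    · refine h ?_
      have hs := (E.sq_of_conj (x := cmInc (a ^ i * b ^ e * c)) (by rw [E.rc]; exact hty)).1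
      exact cmInc_inj (by rw [map_mul, map_one]; exact hs)
    · exact h (E.phi_fix hty)

end Emb

end CfsgLib.Recog.Co3Inv
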