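import Cfsg.Agent.Lib.Recog.Co3Inv.TopAbs
import Cfsg.Agent.Lib.Recog.Co3Inv.TopFour

/-!
The embedded model is the whole group.
-/

set_option autoImplicit false
set_option maxRecDepth 100000

namespace CfsgLib.Recog.Co3Inv

open CfsgLib.InvChar.Coset
open Subgroup

/-- A group generated by two commuting involutions is a `2`-group. -/
theorem isPGroup_closure_pair {H : Type*} [Group H] {u v : H} (hu : u * u = 1) (hv : v * v = 1)
    (huv : Commute u v) : IsPGroup 2 (closure ({u, v} : Set H)) := by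
  have hle : closure ({u, v} : Set H) ≤ centralizer ({u, v} : Set H) := by
    refine (closure_le _).2 fun x hx => mem_centralizer_iff.2 fun y hy => ?_
    simp only [Set.mem_insert_iff, Set.mem_singleton_iff] at hx hy
    rcases hx with rfl | rfl <;> rcases hy with rfl | rfl
    exacts [rfl, huv.eq.symm, huv.eq, rfl]
  rintro ⟨x, hx⟩
  refine ⟨1, Subtype.ext ?_⟩
  show x ^ 2 ^ 1 = 1
  rw [pow_one]
  induction hx using Subgroup.closure_induction with
  | mem x hx =>
    simp only [Set.mem_insert_iff, Set.mem_singleton_iff] at hx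
    rcases hx with rfl | rfl <;> rwa [pow_two]
  | one => exact one_pow 2
  | mul x y hx hy ex ey =>
    have hc : Commute x y := by
      have := hle hy
      rw [← centralizer_closure, mem_centralizer_iff] at this
      exact this x hx
    rw [hc.mul_pow, ex, ey, one_mul]
  | inv x _ ex => rw [inv_pow, ex, inv_one]

theorem zc_check : differ (zW 0) [] = true ∧ differ (zW 0) [iS] = true := by decide +kernel

namespace Emb

variable {G : Type*} [Group G] {A : Amb G} {ρ : G3m →* G} (E : Emb A ρ)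
include E

/-- Every four-group of the second class is conjugate to a tabled one. -/
theorem pair_model {z : G3m} (hzz : z * z = 1) (hzs : Commute z (cmInc sm)) (hz1 : z ≠ 1)
    (hzne : z ≠ cmInc sm) (hf1 : fixC ((z : G3m) : Equiv.Perm (Fin 276)) ≠ 36)
    (hf2 : fixC ((z * cmInc sm : G3m) : Equiv.Perm (Fin 276)) ≠ 36) :
    (∃ x : G3m, IsConj A.t (ρ x) ∧ Commute x (cmInc sm) ∧ Commute x z) ∧
      ∃ k < 2, ∃ h : G3m,
        h * cmInc sm * h⁻¹ = cmInc sm ∧ h * z * h⁻¹ = cmInc (zc k) := by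
  have hcard := E.card
  have hss : cmInc sm * cmInc sm = 1 := by rw [← map_mul, top_sm_sq hcard, map_one]
  obtain ⟨g, hg⟩ := E.conj_P _ (isPGroup_closure_pair hss hzz hzs.symm)
  obtain ⟨d, hd, ed⟩ := hg (cmInc sm) (subset_closure (Set.mem_insert _ _))
  obtain ⟨e, he, ee⟩ := hg z (subset_closure (Set.mem_insert_of_mem _ rfl))
  have hs' : cmInc sm = g⁻¹ * cmInc d * g := by rw [← ed]; group
  have hz' : z = g⁻¹ * cmInc e * g := by rw [← ee]; group
  refine ⟨⟨g⁻¹ * cmInc tm * g, ?_, ?_, ?_⟩, ?_⟩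
  · exact isConj_iff.2 ⟨ρ g⁻¹, by rw [map_mul, map_mul, E.rt, map_inv, inv_inv]⟩
  · have h := ((tm_center hcard d).map cmInc).map (MulAut.conj g⁻¹).toMonoidHom
    simpa [← hs'] using h
  · have h := ((tm_center hcard e).map cmInc).map (MulAut.conj g⁻¹).toMonoidHom
    simpa [← hz'] using h
  have fixd : fixC ((d : Cm) : Equiv.Perm (Fin 276)) ≠ 36 := by
    rw [← cmInc_val d, ← ed, Subgroup.coe_mul, Subgroup.coe_mul, Subgroup.coe_inv, fixC_conj,
      cmInc_val]
    exact fixC_sm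
  have hdd : d * d = 1 := cmInc_inj (by
    rw [map_mul, map_one, ← ed,
      show g * cmInc sm * g⁻¹ * (g * cmInc sm * g⁻¹) = g * (cmInc sm * cmInc sm) * g⁻¹ by group, hss]
    group)
  have hd1 : d ≠ 1 := fun h => top_sm_ne_one (cmInc_inj (by rw [hs', h, map_one]; group))
  rcases invol_pSub hcard hd hdd hd1 with rfl | ⟨c, hc⟩ | ⟨c, hc⟩
  · exact absurd fixC_tm fixd
  · refine absurd ?_ fixd
    rw [show d = c * am * c⁻¹ by rw [← hc, mul_inv_cancel_right], Subgroup.coe_mul, Subgroup.coe_mul,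
      Subgroup.coe_inv, fixC_conj, fixC_am]
  set h0 : G3m := (cmInc c)⁻¹ * g with hh0
  have h0s : h0 * cmInc sm * h0⁻¹ = cmInc sm := by
    rw [hh0, show (cmInc c)⁻¹ * g * cmInc sm * ((cmInc c)⁻¹ * g)⁻¹
      = (cmInc c)⁻¹ * (g * cmInc sm * g⁻¹) * cmInc c by group, ed, mul_assoc, ← map_mul, hc,
      map_mul, inv_mul_cancel_left]
  obtain ⟨e1, he1⟩ : ∃ e1 : Cm, e1 = c⁻¹ * e * c := ⟨_, rfl⟩
  have h0z : h0 * z * h0⁻¹ = cmInc e1 := by
    rw [hh0, show (cmInc c)⁻¹ * g * z * ((cmInc c)⁻¹ * g)⁻¹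
      = (cmInc c)⁻¹ * (g * z * g⁻¹) * cmInc c by group, ee, he1, map_mul, map_mul, map_inv]
  have hes : Commute e1 sm := cmInc_inj (by
    rw [map_mul, map_mul, ← h0z]
    calc h0 * z * h0⁻¹ * cmInc sm = h0 * z * h0⁻¹ * (h0 * cmInc sm * h0⁻¹) := by rw [h0s]
      _ = h0 * (z * cmInc sm) * h0⁻¹ := by group
      _ = h0 * (cmInc sm * z) * h0⁻¹ := by rw [hzs.eq]
      _ = h0 * cmInc sm * h0⁻¹ * (h0 * z * h0⁻¹) := by group
      _ = cmInc sm * (h0 * z * h0⁻¹) := by rw [h0s])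
  have hee : e1 * e1 = 1 := cmInc_inj (by
    rw [map_mul, map_one, ← h0z,
      show h0 * z * h0⁻¹ * (h0 * z * h0⁻¹) = h0 * (z * z) * h0⁻¹ by group, hzz]
    group)
  have he1ne : e1 ≠ 1 := fun h => hz1 (by
    rw [h, map_one] at h0z
    calc z = h0⁻¹ * (h0 * z * h0⁻¹) * h0 := by group
      _ = 1 := by rw [h0z]; group)
  have he1s : e1 ≠ sm := fun h => hzne (by
    rw [h] at h0z
    calc z = h0⁻¹ * (h0 * z * h0⁻¹) * h0 := by group
      _ = h0⁻¹ * (h0 * cmInc sm * h0⁻¹) * h0 := by rw [h0z, h0s]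
      _ = cmInc sm := by group)
  have f1 : fixC ((e1 : Cm) : Equiv.Perm (Fin 276)) ≠ 36 := by
    rw [← cmInc_val e1, ← h0z, Subgroup.coe_mul, Subgroup.coe_mul, Subgroup.coe_inv, fixC_conj]
    exact hf1
  have f2 : fixC ((e1 * sm : Cm) : Equiv.Perm (Fin 276)) ≠ 36 := by
    have e2 : cmInc (e1 * sm) = h0 * (z * cmInc sm) * h0⁻¹ := by
      rw [map_mul, ← h0z]
      calc h0 * z * h0⁻¹ * cmInc sm = h0 * z * h0⁻¹ * (h0 * cmInc sm * h0⁻¹) := by rw [h0s]
        _ = h0 * (z * cmInc sm) * h0⁻¹ := by group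
    rw [← cmInc_val (e1 * sm), e2, Subgroup.coe_mul (G := Equiv.Perm (Fin 276)) G3m (h0 * (z * cmInc sm)) h0⁻¹,
      Subgroup.coe_mul (G := Equiv.Perm (Fin 276)) G3m h0 (z * cmInc sm), Subgroup.coe_inv, fixC_conj]
    exact hf2
  obtain ⟨u, hu, rfl⟩ : ∃ u ∈ cList, e1 = aEl u := exists_cList hcard hes
  obtain ⟨i, hi, hiu⟩ := List.mem_iff_getElem.1 hu
  have hget : cList.getD i [] = u := by rw [List.getD_eq_getElem _ _ hi]; exact hiu
  have hk := kind_check
  simp only [List.all_eq_true, List.mem_range, Bool.or_eq_true, List.any_eq_true,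
    Bool.and_eq_true] at hk
  have hki := hk i hi
  rw [hget] at hki
  rcases hki with ((h | h) | h) | ⟨r, -, ⟨-, hr⟩, hm⟩
  · refine absurd ?_ (differ_sound h)
    rw [aEl_append, hee, aEl_nil]
  · exact absurd ((agree_sound hcard h).trans aEl_nil) he1ne
  · exact absurd ((agree_sound hcard h).trans aEl_iS) he1s
  have conj_am : ∀ {x r' : Cm}, x * r' = r' * am →
      fixC ((x : Cm) : Equiv.Perm (Fin 276)) = 36 := fun {x r'} h => by
    rw [show x = r' * am * r'⁻¹ by rw [← h, mul_inv_cancel_right], Subgroup.coe_mul, Subgroup.coe_mul,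
      Subgroup.coe_inv, fixC_conj, fixC_am]
  split at hm
  · rw [agree_sound hcard hm, aEl_iT] at f1
    exact absurd fixC_tm f1
  · have h := agree_sound hcard hm
    rw [aEl_append, aEl_append, aEl_iA] at h
    exact absurd (conj_am h) f1
  · have h := agree_sound hcard hm
    rw [aEl_append, aEl_iS, aEl_iT] at h
    rw [h] at f2
    exact absurd fixC_tm f2
  · have h := agree_sound hcard hm
    rw [aEl_append, aEl_append, aEl_append, aEl_iS, aEl_iA] at h
    exact absurd (conj_am h) f2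
  · rename_i k _
    simp only [Bool.and_eq_true, Nat.blt_eq] at hm
    obtain ⟨⟨hk2, hrs⟩, hrz⟩ := hm
    have ers := agree_sound hcard hrs
    have erz := agree_sound hcard hrz
    rw [aEl_append, aEl_append, aEl_iS] at ers
    rw [aEl_append, aEl_append] at erz
    refine ⟨k, hk2, (cmInc (aEl r.2.2))⁻¹ * h0, ?_, ?_⟩
    · rw [show (cmInc (aEl r.2.2))⁻¹ * h0 * cmInc sm * ((cmInc (aEl r.2.2))⁻¹ * h0)⁻¹
        = (cmInc (aEl r.2.2))⁻¹ * (h0 * cmInc sm * h0⁻¹) * cmInc (aEl r.2.2) by group, h0s, mul_assoc,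
        ← map_mul, ← ers, map_mul, inv_mul_cancel_left]
    · rw [show (cmInc (aEl r.2.2))⁻¹ * h0 * z * ((cmInc (aEl r.2.2))⁻¹ * h0)⁻¹
        = (cmInc (aEl r.2.2))⁻¹ * (h0 * z * h0⁻¹) * cmInc (aEl r.2.2) by group, h0z, mul_assoc,
        ← map_mul, erz, map_mul, inv_mul_cancel_left]
      rfl

variable [Finite G]

/-- The facts needed by the endgame. -/
theorem embedded : Embedded ρ.range A.t (A.φ sm) := by
  have hcard := E.card
  have hsmem : A.φ sm ∈ ρ.range := ⟨_, E.rc sm⟩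
  have hord : ∀ {x : G3m}, orderOf (ρ x) = 2 → x * x = 1 ∧ x ≠ 1 := fun {x} h => by
    refine ⟨E.inj ?_, fun e => ?_⟩
    · rw [map_mul, map_one, ← pow_two, ← h, pow_orderOf_eq_one]
    · rw [e, map_one, orderOf_one] at h
      norm_num at h
  refine
    { ht := orderOf_eq_prime (by rw [pow_two]; exact E.t_sq) E.t_ne_one
      hs := orderOf_eq_prime (by rw [pow_two, ← map_mul, top_sm_sq hcard, map_one]) fun h =>
        top_sm_ne_one (A.inj (h.trans A.φ.map_one.symm))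
      ts := fun h => ?_
      comm := by rw [← A.t_eq]; exact (tm_sm hcard).map A.φ
      cent := fun x hx => ?_
      mem := hsmem
      two := ?_
      prod := ?_
      not_sq := ?_
      pair := ?_
      exists_pair := ?_ }
  · obtain ⟨g, hg⟩ := isConj_iff.1 h
    exact E.ns g hg
  · obtain ⟨c, hc⟩ := A.cent x (mem_centralizer_singleton_iff.1 hx)
    exact ⟨cmInc c, by rw [E.rc, hc]⟩
  · rintro _ ⟨x, rfl⟩ h2
    obtain ⟨g, hg | hg⟩ := E.two_model (hord h2).1 (hord h2).2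
    · exact Or.inl ⟨ρ g, ⟨g, rfl⟩, by rw [← hg, map_mul, map_mul, map_inv, E.rt]⟩
    · exact Or.inr ⟨ρ g, ⟨g, rfl⟩, by rw [← hg, map_mul, map_mul, map_inv, E.rc]⟩
  · rintro _ ⟨x, rfl⟩ _ ⟨y, rfl⟩ hx hy hxy hne
    rw [← map_mul]
    exact E.prod_model hx hy (E.inj (by rw [map_mul, map_mul]; exact hxy)) fun e => hne (e ▸ rfl)
  · rintro _ ⟨z, rfl⟩ h
    rw [← map_mul, ← E.rc] at h
    exact E.not_square z (E.inj h)
  · rintro _ ⟨z, rfl⟩ h2 hc hne h1 h1s
    obtain ⟨hzz, hz1⟩ := hord h2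
    have hzs : Commute z (cmInc sm) := E.inj (by rw [map_mul, map_mul, E.rc]; exact hc)
    have hzne : z ≠ cmInc sm := fun e => hne (by rw [e, E.rc])
    obtain ⟨⟨x, hx, hxs, hxz⟩, k, hk, h, hhs, hhz⟩ := E.pair_model hzz hzs hz1 hzne
      (fun hf => h1 (E.fix_conj hzz hf))
      (fun hf => h1s (by
        rw [← E.rc, ← map_mul]
        refine E.fix_conj ?_ hf
        rw [hzs.symm.mul_mul_mul_comm, hzz, one_mul, ← map_mul, top_sm_sq hcard, map_one]))
    refine ⟨⟨ρ x, ⟨x, rfl⟩, hx, ?_, hxz.map ρ⟩, fun g hgs hgz => ?_⟩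
    · have := hxs.map ρ
      rwa [E.rc] at this
    have e1 : ρ h * A.φ sm * (ρ h)⁻¹ = A.φ sm := by
      rw [← E.rc, ← map_inv, ← map_mul, ← map_mul, hhs]
    have e2 : ρ h * ρ z * (ρ h)⁻¹ = A.φ (zc k) := by
      rw [← E.rc, ← map_inv, ← map_mul, ← map_mul, hhz]
    have hm := E.cent_pair hk (g := ρ h * g * (ρ h)⁻¹)
      (by simpa [e1] using hgs.map (MulAut.conj (ρ h)).toMonoidHom)
      (by simpa [e2] using hgz.map (MulAut.conj (ρ h)).toMonoidHom)
    rw [show g = (ρ h)⁻¹ * (ρ h * g * (ρ h)⁻¹) * ρ h by group]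
    exact mul_mem (mul_mem (inv_mem ⟨h, rfl⟩) hm) ⟨h, rfl⟩
  · obtain ⟨-, hzz, hzs, -⟩ := quotient_facts hcard (j := 0) (by norm_num)
    obtain ⟨hf1, hf2, -⟩ := type_facts hcard (j := 0) (by norm_num)
    refine ⟨A.φ (zc 0), ⟨_, E.rc _⟩, orderOf_eq_prime ?_ ?_, hzs.map A.φ, ?_, E.not_conj_phi hf1, ?_⟩
    · rw [pow_two, ← map_mul, hzz, map_one]
    · intro h
      exact differ_sound zc_check.1 ((A.inj (h.trans A.φ.map_one.symm)).trans aEl_nil.symm)
    · intro h
      exact differ_sound zc_check.2 ((A.inj h).trans aEl_iS.symm)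
    · rw [← map_mul, hzs.eq]
      exact E.not_conj_phi hf2

end Emb

/-- Step E: the embedded model is everything. -/
theorem top_stmt {G : Type*} [Group G] [Finite G] (A : Amb G)
    (hcard : Nat.card Cm = 2903040) : A.TopStmt := fun _ρ hρ hρc hns =>
  (Emb.embedded ⟨hcard, hρ, hρc, hns⟩).eq_top

end CfsgLib.Recog.Co3Inv
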