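import Cfsg.Agent.Lib.Recog.Co3Inv.Spec
import Cfsg.Agent.Lib.Recog.Co3Inv.TopData

/-!
A base of the centralizer: its elements are products of tabled transversal elements and are
determined by the images of the base.
-/

set_option autoImplicit false
set_option maxRecDepth 100000

namespace CfsgLib.Recog.Co3Inv

open CfsgLib.InvChar.Coset
open CfsgLib.Recog.McLInv (img ltW ltW_spec)

/-- The packed image of a named element. -/
def atC (k : ℕ) : ℕ := (atomT.getD k (0, [])).1

/-- The word of a named element. -/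
def atW (k : ℕ) : List ℕ := (atomT.getD k (0, [])).2

/-- A product of named elements applied to a point. -/
noncomputable def evA (w : List ℕ) (i : ℕ) : ℕ :=
  List.rec (motive := fun _ => ℕ) i (fun k _ r => img (atC k) r) w

/-- A product of named elements. -/
noncomputable def aEl (w : List ℕ) : Cm := el (w.flatMap atW)

/-- All names are in the table. -/
noncomputable def okW (w : List ℕ) : Bool := w.all fun k => Nat.blt k atomT.length

theorem atom_check : atomT.all (fun e => inC e.2 && ltW 11 e.2 &&
    (List.range 276).all fun i => Nat.beq (img e.1 i) (actP e.2 i)) = true := by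
  decide +kernel

theorem okW_nil : okW [] = true := rfl

theorem okW_append {v w : List ℕ} (hv : okW v = true) (hw : okW w = true) :
    okW (v ++ w) = true := by
  simp only [okW, List.all_append, Bool.and_eq_true] at hv hw ⊢
  exact ⟨hv, hw⟩

theorem aEl_append (v w : List ℕ) : aEl (v ++ w) = aEl v * aEl w := by
  simp [aEl, el_append]

theorem aEl_nil : aEl [] = 1 := rfl

theorem aEl_single (k : ℕ) : aEl [k] = el (atW k) := by simp [aEl]

theorem evA_cons (k : ℕ) (w : List ℕ) (i : ℕ) : evA (k :: w) i = img (atC k) (evA w i) := rfl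

theorem atom_val {k : ℕ} (hk : k < atomT.length) (i : Fin 276) :
    ((((aEl [k] : Cm) : Equiv.Perm (Fin 276)) i : Fin 276) : ℕ) = img (atC k) i := by
  have h := atom_check
  simp only [List.all_eq_true, Bool.and_eq_true] at h
  have hm : atomT.getD k (0, []) ∈ atomT := by
    rw [List.getD_eq_getElem _ _ hk]; exact List.getElem_mem _
  obtain ⟨⟨h1, h2⟩, h3⟩ := h _ hm
  rw [aEl_single]
  show (((el (atW k) : Equiv.Perm (Fin 276)) i : Fin 276) : ℕ) = _
  simp only [atW]
  rw [el_val (inC_spec h1)]
  show ((wprod gp (atomT.getD k (0, [])).2 i : Fin 276) : ℕ) = _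
  rw [wprod_gp_val _ (ltW_spec h2) i]
  exact (Nat.eq_of_beq_eq_true (h3 i (List.mem_range.2 i.2))).symm

theorem evA_spec : ∀ {w : List ℕ}, okW w = true → ∀ i : Fin 276,
    ((((aEl w : Cm) : Equiv.Perm (Fin 276)) i : Fin 276) : ℕ) = evA w i
  | [], _, i => rfl
  | k :: w, h, i => by
    simp only [okW, List.all_cons, Bool.and_eq_true, Nat.blt_eq] at h
    have ih := evA_spec (w := w) h.2 i
    rw [show aEl (k :: w) = aEl [k] * aEl w from aEl_append [k] w, Subgroup.coe_mul,
      Equiv.Perm.mul_apply, atom_val h.1, ih, evA_cons]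

/-- An element fixes the listed points. -/
def FixPts (d : List ℕ) (g : Cm) : Prop :=
  ∀ b ∈ d, ∀ i : Fin 276, (i : ℕ) = b → (g : Equiv.Perm (Fin 276)) i = i

/-- The pointwise stabilizer of the listed points. -/
def fixS (d : List ℕ) : Subgroup Cm where
  carrier := {g | FixPts d g}
  one_mem' := fun b _ i _ => rfl
  mul_mem' := fun {g h} hg hh b hb i hi => by
    rw [Subgroup.coe_mul, Equiv.Perm.mul_apply, hh b hb i hi, hg b hb i hi]
  inv_mem' := fun {g} hg b hb i hi => by
    rw [Subgroup.coe_inv, Equiv.Perm.inv_eq_iff_eq]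
    exact (hg b hb i hi).symm

/-- A product of one transversal element from each level. -/
def IsChoice : List (List (List ℕ)) → List ℕ → Prop
  | [], w => w = []
  | L :: Ls, w => ∃ u ∈ L, ∃ v, IsChoice Ls v ∧ w = u ++ v

/-- The number of choices. -/
def choices : List (List (List ℕ)) → ℕ
  | [] => 1
  | L :: Ls => L.length * choices Ls

/-- No entry occurs twice. -/
def distinctB : List ℕ → Bool
  | [] => true
  | a :: l => (l.all fun b => !Nat.beq a b) && distinctB l

theorem nodup_of_distinctB : ∀ {l : List ℕ}, distinctB l = true → l.Nodup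
  | [], _ => List.nodup_nil
  | a :: l, h => by
    simp only [distinctB, Bool.and_eq_true, List.all_eq_true, Bool.not_eq_true'] at h
    refine List.nodup_cons.2 ⟨fun ha => ?_, nodup_of_distinctB h.2⟩
    have := h.1 a ha
    rw [Nat.beq_refl] at this
    cases this

/-- The transversals fix the earlier points and move the next one to different places. -/
noncomputable def levOK : List ℕ → List ℕ → List (List (List ℕ)) → Bool
  | _, [], [] => true
  | d, b :: bs, L :: Ls => Nat.blt b 276 && (L.all fun u => okW u &&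
      d.all fun j => Nat.blt j 276 && Nat.beq (evA u j) j) &&
      distinctB (L.map fun u => evA u b) && levOK (b :: d) bs Ls
  | _, _, _ => false

theorem choice_facts : ∀ {d bs : List ℕ} {Ls : List (List (List ℕ))}, levOK d bs Ls = true →
    ∀ {w : List ℕ}, IsChoice Ls w → okW w = true ∧ aEl w ∈ fixS d
  | _, [], [], _, w, hw => by
    subst hw
    exact ⟨rfl, one_mem _⟩
  | d, b :: bs, L :: Ls, h, w, ⟨u, hu, v, hv, e⟩ => by
    simp only [levOK, Bool.and_eq_true, List.all_eq_true] at h
    obtain ⟨hu1, hu2⟩ := h.1.1.2 u hu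
    obtain ⟨hv1, hv2⟩ := choice_facts h.2 hv
    subst e
    refine ⟨okW_append hu1 hv1, ?_⟩
    rw [aEl_append]
    refine mul_mem ?_ fun j hj => hv2 j (List.mem_cons_of_mem _ hj)
    intro j hj i hi
    refine Fin.ext ?_
    rw [evA_spec hu1, hi]
    exact Nat.eq_of_beq_eq_true (hu2 j hj).2
  | _, [], _ :: _, h, _, _ => by simp [levOK] at h
  | _, _ :: _, [], h, _, _ => by simp [levOK] at h

theorem level_count : ∀ {d bs : List ℕ} {Ls : List (List (List ℕ))}, levOK d bs Ls = true →
    choices Ls ≤ Nat.card (fixS d) ∧ (choices Ls = Nat.card (fixS d) → ∀ g ∈ fixS d,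
      (∃ w, IsChoice Ls w ∧ g = aEl w) ∧ (FixPts bs g → g = 1))
  | d, [], [], _ => by
    refine ⟨Nat.card_pos, fun h g hg => ?_⟩
    have h1 : g = 1 := Subgroup.mem_bot.1 ((Subgroup.card_eq_one.1 h.symm) ▸ hg)
    exact ⟨⟨[], rfl, h1.trans aEl_nil.symm⟩, fun _ => h1⟩
  | d, b :: bs, L :: Ls, h => by
    have hfull := h
    simp only [levOK, Bool.and_eq_true, List.all_eq_true, Nat.blt_eq] at h
    obtain ⟨⟨⟨hb, hL⟩, hdist⟩, hrec⟩ := h
    obtain ⟨ih1, ih2⟩ := level_count hrec
    have hmem : ∀ u ∈ L, aEl u ∈ fixS d := fun u hu j hj i hi => by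
      refine Fin.ext ?_
      rw [evA_spec (hL u hu).1, hi]
      exact Nat.eq_of_beq_eq_true ((hL u hu).2 j hj).2
    have hsub : ∀ g ∈ fixS (b :: d), g ∈ fixS d := fun g hg j hj =>
      hg j (List.mem_cons_of_mem _ hj)
    let f : Fin L.length × fixS (b :: d) → fixS d := fun p =>
      ⟨aEl (L.get p.1) * p.2.1, mul_mem (hmem _ (List.get_mem L p.1)) (hsub _ p.2.2)⟩
    have himg : ∀ p, evA (L.get p.1) b = ((((f p).1 : Cm) : Equiv.Perm (Fin 276)) ⟨b, hb⟩ : ℕ) := by
      intro p
      show _ = ((((aEl (L.get p.1) * p.2.1 : Cm)) : Equiv.Perm (Fin 276)) ⟨b, hb⟩ : ℕ)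
      rw [Subgroup.coe_mul, Equiv.Perm.mul_apply, p.2.2 b List.mem_cons_self ⟨b, hb⟩ rfl,
        evA_spec (hL _ (List.get_mem L p.1)).1]
    have hinj : Function.Injective f := by
      intro p q e
      have hi : p.1 = q.1 := by
        have h1 := himg p
        rw [e, ← himg q] at h1
        have hn := nodup_of_distinctB hdist
        refine Fin.ext ((List.Nodup.getElem_inj_iff hn (hi := by simp) (hj := by simp)).1 ?_)
        simpa using h1
      obtain ⟨i, g⟩ := p
      obtain ⟨j, g'⟩ := q
      subst hi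
      exact Prod.ext rfl (Subtype.ext (mul_left_cancel (congrArg Subtype.val e)))
    have hle := Nat.card_le_card_of_injective f hinj
    rw [Nat.card_prod, Nat.card_eq_fintype_card, Fintype.card_fin] at hle
    refine ⟨(Nat.mul_le_mul_left _ ih1).trans hle, fun heq g hg => ?_⟩
    have hc : choices Ls = Nat.card (fixS (b :: d)) := by
      refine le_antisymm ih1 ?_
      have : L.length * Nat.card (fixS (b :: d)) ≤ L.length * choices Ls := hle.trans heq.ge
      rcases Nat.eq_zero_or_pos L.length with h0 | h0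
      · exfalso
        have h1 : choices (L :: Ls) = 0 := by simp [choices, h0]
        have := Nat.card_pos (α := fixS d)
        omega
      · exact Nat.le_of_mul_le_mul_left this h0
    have hbij : Function.Bijective f := hinj.bijective_of_nat_card_le (by
      rw [Nat.card_prod, Nat.card_fin, ← hc, ← heq]; rfl)
    obtain ⟨p, hp⟩ := hbij.2 ⟨g, hg⟩
    obtain ⟨⟨w, hw, ew⟩, -⟩ := ih2 hc p.2.1 p.2.2
    refine ⟨⟨L.get p.1 ++ w, ⟨_, List.get_mem L p.1, w, hw, rfl⟩, ?_⟩, fun hfix => ?_⟩
    · rw [aEl_append, ← ew]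
      exact (congrArg Subtype.val hp).symm
    · refine (ih2 hc g fun j hj i hi => ?_).2 fun j hj => hfix j (List.mem_cons_of_mem _ hj)
      rcases List.mem_cons.1 hj with e | hj
      · exact hfix j (e ▸ List.mem_cons_self) i hi
      · exact hg j hj i hi
  | _, [], _ :: _, h => by simp [levOK] at h
  | _, _ :: _, [], h => by simp [levOK] at h

theorem lev_check : levOK [] baseP levT = true ∧ choices levT = 2903040 := by decide +kernel

theorem fixS_nil : fixS [] = ⊤ := eq_top_iff.2 fun _ _ _ hb => absurd hb List.not_mem_nil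

theorem exists_choice (hcard : Nat.card Cm = 2903040) (g : Cm) :
    ∃ w, IsChoice levT w ∧ g = aEl w := by
  obtain ⟨-, h⟩ := level_count lev_check.1
  exact (h (by rw [fixS_nil, Subgroup.card_top, hcard, lev_check.2]) g (by
    rw [fixS_nil]; trivial)).1

theorem eq_one_of_fix (hcard : Nat.card Cm = 2903040) {g : Cm} (hg : FixPts baseP g) : g = 1 := by
  obtain ⟨-, h⟩ := level_count lev_check.1
  exact (h (by rw [fixS_nil, Subgroup.card_top, hcard, lev_check.2]) g (by
    rw [fixS_nil]; trivial)).2 hg

/-- Two products agree on the base. -/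
noncomputable def agree (v w : List ℕ) : Bool :=
  okW v && okW w && baseP.all fun b => Nat.beq (evA v b) (evA w b)

theorem agree_sound (hcard : Nat.card Cm = 2903040) {v w : List ℕ} (h : agree v w = true) :
    aEl v = aEl w := by
  simp only [agree, Bool.and_eq_true, List.all_eq_true] at h
  refine inv_mul_eq_one.1 (eq_one_of_fix hcard fun b hb i hi => ?_)
  have e : ((aEl v : Cm) : Equiv.Perm (Fin 276)) i = ((aEl w : Cm) : Equiv.Perm (Fin 276)) i :=
    Fin.ext (by rw [evA_spec h.1.1, evA_spec h.1.2, hi]; exact Nat.eq_of_beq_eq_true (h.2 b hb))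
  rw [Subgroup.coe_mul, Subgroup.coe_inv, Equiv.Perm.mul_apply, Equiv.Perm.inv_eq_iff_eq, e]

/-- Two products differ on the base. -/
noncomputable def differ (v w : List ℕ) : Bool :=
  okW v && okW w && baseP.any fun b => Nat.blt b 276 && !Nat.beq (evA v b) (evA w b)

theorem differ_sound {v w : List ℕ} (h : differ v w = true) : aEl v ≠ aEl w := by
  simp only [differ, Bool.and_eq_true, List.any_eq_true, Bool.not_eq_true', Nat.blt_eq] at h
  obtain ⟨⟨hv, hw⟩, b, -, hb, hne⟩ := h
  intro e
  have h' := evA_spec hv ⟨b, hb⟩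
  rw [e, evA_spec hw ⟨b, hb⟩] at h'
  rw [h', Nat.beq_refl] at hne
  cases hne

end CfsgLib.Recog.Co3Inv
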