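import Cfsg.Agent.Lib.Recog.Co3Inv.TopSylow

/-!
The centralizer of the involution of the other class inside the double cover, and the involutions
in it.
-/

set_option autoImplicit false
set_option maxRecDepth 100000

namespace CfsgLib.Recog.Co3Inv

open CfsgLib.InvChar.Coset

/-- The images of the base, packed. -/
noncomputable def keyW (w : List ℕ) : ℕ :=
  List.rec (motive := fun _ => ℕ) 0 (fun b _ r => evA w b + 512 * r) baseP

/-- A partial product still commutes with the involution where it is determined. -/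
noncomputable def pruned (done : List ℕ) (w : List ℕ) : Bool :=
  done.any fun j => done.any (Nat.beq (evA [iS] j)) &&
    !Nat.beq (evA w (evA [iS] j)) (evA [iS] (evA w j))

/-- The search for the centralizer. -/
noncomputable def srch : List ℕ → List ℕ → List (List (List ℕ)) → List ℕ → Bool
  | _, [], [], w => differ (w ++ [iS]) ([iS] ++ w) || cKeys.any (Nat.beq (keyW w))
  | d, b :: bs, L :: Ls, w => L.all fun u =>
      okW (w ++ u) && (pruned (b :: d) (w ++ u) || srch (b :: d) bs Ls (w ++ u))
  | _, _, _, _ => false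

theorem search_check : srch [] baseP levT [] = true := by decide +kernel

theorem key_check : cKeys = cList.map keyW ∧ cList.all okW = true ∧
    (cList.all fun w => agree (w ++ [iS]) ([iS] ++ w)) = true ∧
    (baseP.all fun b => Nat.blt b 276) = true := by
  decide +kernel

theorem search_sound : ∀ {bs d : List ℕ} {Ls : List (List (List ℕ))} {w : List ℕ},
    srch d bs Ls w = true → levOK d bs Ls = true → (∀ j ∈ d, j < 276) →
    ∀ {v : List ℕ}, IsChoice Ls v → okW (w ++ v) = true → Commute (aEl (w ++ v)) sm →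
      ∃ u ∈ cList, keyW (w ++ v) = keyW u
  | [], d, [], w, h, _, _, v, hv, _, hc => by
    subst hv
    rw [List.append_nil] at hc ⊢
    simp only [srch, Bool.or_eq_true, List.any_eq_true] at h
    rcases h with h | ⟨k, hk, hk'⟩
    · refine absurd ?_ (differ_sound h)
      rw [aEl_append, aEl_append, aEl_iS]
      exact hc.eq
    · rw [key_check.1, List.mem_map] at hk
      obtain ⟨u, hu, rfl⟩ := hk
      exact ⟨u, hu, Nat.eq_of_beq_eq_true hk'⟩
  | b :: bs, d, L :: Ls, w, h, hlev, hd, _, ⟨u, hu, v, hv, rfl⟩, hok, hc => by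
    simp only [srch, List.all_eq_true, Bool.and_eq_true, Bool.or_eq_true] at h
    obtain ⟨hwu, hor⟩ := h u hu
    simp only [levOK, Bool.and_eq_true, List.all_eq_true, Nat.blt_eq] at hlev
    have hb : b < 276 := hlev.1.1.1
    have hd' : ∀ j ∈ b :: d, j < 276 := by
      intro j hj
      rcases List.mem_cons.1 hj with rfl | hj
      exacts [hb, hd j hj]
    rw [← List.append_assoc] at hc hok ⊢
    rcases hor with hp | hr
    · exfalso
      simp only [pruned, List.any_eq_true, Bool.and_eq_true, Bool.not_eq_true'] at hp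
      obtain ⟨j, hj, ⟨l, hl, hjl⟩, hne⟩ := hp
      have hjl := Nat.eq_of_beq_eq_true hjl
      obtain ⟨hv1, hv2⟩ := choice_facts hlev.2 hv
      have hev : ∀ p ∈ b :: d, ∀ (hp : p < 276),
          ((((aEl (w ++ u ++ v) : Cm) : Equiv.Perm (Fin 276)) ⟨p, hp⟩ : Fin 276) : ℕ) = evA (w ++ u) p := by
        intro p hpd hp
        rw [aEl_append, Subgroup.coe_mul, Equiv.Perm.mul_apply, hv2 p hpd ⟨p, hp⟩ rfl, evA_spec hwu]
      have hiS : okW [iS] = true := by decide +kernel
      have e1 := congrArg (fun g : Cm => (((g : Equiv.Perm (Fin 276)) ⟨j, hd' j hj⟩ : Fin 276) : ℕ)) hc.eq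
      have h2 : (sm : Equiv.Perm (Fin 276)) ⟨j, hd' j hj⟩ = ⟨l, hd' l hl⟩ := Fin.ext (by
        rw [← aEl_iS, evA_spec hiS]; exact hjl)
      simp only [Subgroup.coe_mul, Equiv.Perm.mul_apply] at e1
      rw [h2, hev l hl, ← aEl_iS, evA_spec hiS, hev j hj] at e1
      rw [hjl, e1, Nat.beq_refl] at hne
      cases hne
    · exact search_sound hr hlev.2 hd' hv hok hc
  | [], _, _ :: _, _, h, _, _, _, _, _, _ => by simp [srch] at h
  | _ :: _, _, [], _, h, _, _, _, _, _, _ => by simp [srch] at h

theorem evA_lt {w : List ℕ} (hw : okW w = true) {b : ℕ} (hb : b < 276) : evA w b < 512 := by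
  rw [← evA_spec hw ⟨b, hb⟩]
  exact lt_trans (Fin.is_lt _) (by norm_num)

theorem key_inj : ∀ (l : List ℕ) {v w : List ℕ}, (∀ b ∈ l, b < 276) → okW v = true → okW w = true →
    List.rec (motive := fun _ => ℕ) 0 (fun b _ r => evA v b + 512 * r) l =
      List.rec (motive := fun _ => ℕ) 0 (fun b _ r => evA w b + 512 * r) l →
    ∀ b ∈ l, evA v b = evA w b
  | [], _, _, _, _, _, _ => fun b hb => absurd hb List.not_mem_nil
  | a :: l, v, w, hl, hv, hw, e => by
    have h1 := evA_lt hv (hl a List.mem_cons_self)
    have h2 := evA_lt hw (hl a List.mem_cons_self)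
    simp only at e
    intro b hb
    rcases List.mem_cons.1 hb with rfl | hb
    · omega
    · exact key_inj l (fun b hb => hl b (List.mem_cons_of_mem _ hb)) hv hw (by omega) b hb

variable (hcard : Nat.card Cm = 2903040)
include hcard

/-- The centralizer is the tabled one. -/
theorem exists_cList {g : Cm} (hg : Commute g sm) : ∃ u ∈ cList, g = aEl u := by
  obtain ⟨w, hw, rfl⟩ := exists_choice hcard g
  obtain ⟨hok, -⟩ := choice_facts lev_check.1 hw
  obtain ⟨u, hu, hk⟩ := search_sound search_check lev_check.1 (fun j hj => absurd hj List.not_mem_nil)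
    (w := []) hw hok hg
  obtain ⟨-, hk2, -, hk4⟩ := key_check
  simp only [List.all_eq_true, Nat.blt_eq] at hk2 hk4
  have he := key_inj baseP hk4 hok (hk2 u hu) hk
  refine ⟨u, hu, agree_sound hcard ?_⟩
  simp only [agree, Bool.and_eq_true, List.all_eq_true]
  exact ⟨⟨hok, hk2 u hu⟩, fun b hb => by rw [he b hb]; exact Nat.beq_refl _⟩

omit hcard in
theorem cList_ok {u : List ℕ} (hu : u ∈ cList) : okW u = true :=
  List.all_eq_true.1 key_check.2.1 u hu

theorem commute_cList {u : List ℕ} (hu : u ∈ cList) : Commute (aEl u) sm := by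
  have e := agree_sound hcard (List.all_eq_true.1 key_check.2.2.1 u hu)
  rw [aEl_append, aEl_append, aEl_iS] at e
  exact e

end CfsgLib.Recog.Co3Inv
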