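import Cfsg.Agent.Lib.Recog.Co3Inv.TopModel

/-!
The two classes of involutions of the embedded model and the fixed points telling them apart.
-/

set_option autoImplicit false
set_option maxRecDepth 100000

namespace CfsgLib.Recog.Co3Inv

open CfsgLib.InvChar.Coset

/-- The embedded model. -/
structure Emb {G : Type*} [Group G] (A : Amb G) (ρ : G3m →* G) : Prop where
  card : Nat.card Cm = 2903040
  inj : Function.Injective ρ
  rc : ∀ c, ρ (cmInc c) = A.φ c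
  ns : ∀ g : G, g * A.t * g⁻¹ ≠ A.φ sm

namespace Emb

variable {G : Type*} [Group G] {A : Amb G} {ρ : G3m →* G} (E : Emb A ρ)
include E

theorem rt : ρ (cmInc tm) = A.t := by rw [E.rc, A.t_eq]

theorem conj_P (Q : Subgroup G3m) (hQ : IsPGroup 2 Q) :
    ∃ g : G3m, ∀ q ∈ Q, ∃ c ∈ pSub 10, g * q * g⁻¹ = cmInc c :=
  sylow_conj E.card cmInc cmInc_inj (cent_model A E.inj E.rc) Q hQ

omit E in
theorem isPGroup_zpowers {H : Type*} [Group H] {x : H} {n : ℕ} (hx : orderOf x = 2 ^ n) :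
    IsPGroup 2 (Subgroup.zpowers x) :=
  IsPGroup.of_card (n := n) ((Nat.card_zpowers x).trans hx)

theorem two_model {x : G3m} (hx : x * x = 1) (h1 : x ≠ 1) :
    ∃ g : G3m, g * cmInc tm * g⁻¹ = x ∨ g * cmInc sm * g⁻¹ = x := by
  have : Fact (Nat.Prime 2) := ⟨Nat.prime_two⟩
  obtain ⟨g, hg⟩ := E.conj_P _ (isPGroup_zpowers (n := 1)
    (x := x) (by rw [pow_one]; exact orderOf_eq_prime (by rw [pow_two, hx]) h1))
  obtain ⟨c, hc, e⟩ := hg x (Subgroup.mem_zpowers x)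
  have hx' : x = g⁻¹ * cmInc c * g := by rw [← e]; group
  have hcc : c * c = 1 := cmInc_inj (by
    rw [map_mul, map_one, ← e, show g * x * g⁻¹ * (g * x * g⁻¹) = g * (x * x) * g⁻¹ by group, hx]
    group)
  have hc1 : c ≠ 1 := fun h => h1 (by rw [hx', h, map_one]; group)
  rcases invol_pSub E.card hc hcc hc1 with rfl | ⟨d, hd⟩ | ⟨d, hd⟩
  · exact ⟨g⁻¹, Or.inl (by rw [hx', inv_inv])⟩
  · obtain ⟨k, hk⟩ := am_conj
    refine ⟨g⁻¹ * cmInc d * k, Or.inl ?_⟩
    rw [show g⁻¹ * cmInc d * k * cmInc tm * (g⁻¹ * cmInc d * k)⁻¹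
      = g⁻¹ * (cmInc d * (k * cmInc tm * k⁻¹) * (cmInc d)⁻¹) * g by group, hk, hx', ← map_mul,
      ← map_inv, ← map_mul, ← hd, mul_inv_cancel_right]
  · refine ⟨g⁻¹ * cmInc d, Or.inr ?_⟩
    rw [show g⁻¹ * cmInc d * cmInc sm * (g⁻¹ * cmInc d)⁻¹
      = g⁻¹ * (cmInc d * cmInc sm * (cmInc d)⁻¹) * g by group, hx', ← map_mul,
      ← map_inv, ← map_mul, ← hd, mul_inv_cancel_right]

theorem not_ts {x : G3m} {g : G3m} (h : g * cmInc sm * g⁻¹ = x) : ¬ IsConj A.t (ρ x) := by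
  intro hc
  obtain ⟨a, ha⟩ := isConj_iff.1 hc
  refine E.ns ((ρ g)⁻¹ * a) ?_
  rw [show (ρ g)⁻¹ * a * A.t * ((ρ g)⁻¹ * a)⁻¹ = (ρ g)⁻¹ * (a * A.t * a⁻¹) * ρ g by group, ha, ← h,
    map_mul, map_mul, map_inv, E.rc]
  group

theorem fix_of_t {x g : G3m} (h : g * cmInc tm * g⁻¹ = x) :
    fixC ((x : G3m) : Equiv.Perm (Fin 276)) = 36 := by
  rw [← h, Subgroup.coe_mul, Subgroup.coe_mul, Subgroup.coe_inv, fixC_conj, cmInc_val, fixC_tm]

theorem t_sq : A.t * A.t = 1 := by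
  rw [← A.t_eq, ← map_mul, top_tm_sq E.card, map_one]

theorem t_ne_one : A.t ≠ 1 := by
  rw [← A.t_eq, ← A.φ.map_one]
  exact fun h => top_tm_ne_one (A.inj h)

theorem sq_of_conj {x : G3m} (h : IsConj A.t (ρ x)) : x * x = 1 ∧ x ≠ 1 := by
  obtain ⟨a, ha⟩ := isConj_iff.1 h
  constructor
  · refine E.inj ?_
    rw [map_mul, map_one, ← ha, show a * A.t * a⁻¹ * (a * A.t * a⁻¹) = a * (A.t * A.t) * a⁻¹ by group,
      E.t_sq]
    group
  · rintro rfl
    rw [map_one] at ha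
    refine E.t_ne_one ?_
    calc A.t = a⁻¹ * (a * A.t * a⁻¹) * a := by group
      _ = 1 := by rw [ha]; group

theorem conj_fix {x : G3m} (h : IsConj A.t (ρ x)) :
    fixC ((x : G3m) : Equiv.Perm (Fin 276)) = 36 := by
  obtain ⟨hxx, hx1⟩ := E.sq_of_conj h
  obtain ⟨g, hg | hg⟩ := E.two_model hxx hx1
  · exact E.fix_of_t hg
  · exact absurd h (E.not_ts hg)

theorem fix_conj {x : G3m} (hxx : x * x = 1) (hf : fixC ((x : G3m) : Equiv.Perm (Fin 276)) = 36) :
    IsConj A.t (ρ x) := by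
  have hx1 : x ≠ 1 := fun h => by
    rw [h, Subgroup.coe_one, fixC_one] at hf
    norm_num at hf
  obtain ⟨g, hg | hg⟩ := E.two_model hxx hx1
  · refine isConj_iff.2 ⟨ρ g, ?_⟩
    rw [← hg, map_mul, map_mul, map_inv, E.rt]
  · rw [← hg, Subgroup.coe_mul, Subgroup.coe_mul, Subgroup.coe_inv, fixC_conj, cmInc_val] at hf
    exact absurd hf fixC_sm

/-- An element of the centralizer is not in the class unless it has the number of fixed points. -/
theorem not_conj_phi {c : Cm} (hc : fixC ((c : Cm) : Equiv.Perm (Fin 276)) ≠ 36) :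
    ¬ IsConj A.t (A.φ c) := fun h => hc (by
  rw [← E.rc] at h
  exact E.conj_fix h)

theorem phi_fix {c : Cm} (h : IsConj A.t (A.φ c)) :
    fixC ((c : Cm) : Equiv.Perm (Fin 276)) = 36 := by
  by_contra hc
  exact E.not_conj_phi hc h

/-- The product of two commuting members of the class is a member. -/
theorem prod_model {x y : G3m} (hx : IsConj A.t (ρ x)) (hy : IsConj A.t (ρ y)) (hxy : Commute x y)
    (hne : x ≠ y) : IsConj A.t (ρ (x * y)) := by
  have : Fact (Nat.Prime 2) := ⟨Nat.prime_two⟩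
  obtain ⟨hxx, hx1⟩ := E.sq_of_conj hx
  obtain ⟨hyy, hy1⟩ := E.sq_of_conj hy
  have hy36 := E.conj_fix hy
  refine E.fix_conj (by rw [hxy.symm.mul_mul_mul_comm, hxx, hyy, one_mul]) ?_
  obtain ⟨g, hg | hg⟩ := E.two_model hxx hx1
  swap
  · exact absurd hx (E.not_ts hg)
  subst hg
  obtain ⟨c, hc⟩ := cent_model A E.inj E.rc (g⁻¹ * y * g) (by
    show g⁻¹ * y * g * cmInc tm = cmInc tm * (g⁻¹ * y * g)
    calc g⁻¹ * y * g * cmInc tm = g⁻¹ * (y * (g * cmInc tm * g⁻¹)) * g := by group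
      _ = g⁻¹ * ((g * cmInc tm * g⁻¹) * y) * g := by rw [hxy.eq]
      _ = cmInc tm * (g⁻¹ * y * g) := by group)
  have hy' : y = g * cmInc c * g⁻¹ := by rw [hc]; group
  subst hy'
  rw [show g * cmInc tm * g⁻¹ * (g * cmInc c * g⁻¹) = g * cmInc (tm * c) * g⁻¹ by
    rw [map_mul]; group, Subgroup.coe_mul, Subgroup.coe_mul, Subgroup.coe_inv, fixC_conj, cmInc_val]
  rw [Subgroup.coe_mul, Subgroup.coe_mul, Subgroup.coe_inv, fixC_conj, cmInc_val] at hy36
  have hcc : c * c = 1 := cmInc_inj (by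
    rw [map_mul, map_one]
    calc cmInc c * cmInc c = g⁻¹ * (g * cmInc c * g⁻¹ * (g * cmInc c * g⁻¹)) * g := by group
      _ = 1 := by rw [hyy]; group)
  have hc1 : c ≠ 1 := fun h => hy1 (by rw [h, map_one]; group)
  obtain ⟨a, ha⟩ := sylow_conj E.card (MonoidHom.id Cm) Function.injective_id
    (fun x _ => ⟨x, rfl⟩) (Subgroup.zpowers c)
    (isPGroup_zpowers (n := 1) (x := c) (by rw [pow_one]; exact orderOf_eq_prime (by rw [pow_two, hcc]) hc1))
  obtain ⟨d, hd, e⟩ := ha c (Subgroup.mem_zpowers c)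
  replace e : a * c * a⁻¹ = d := e
  have hdd : d * d = 1 := by
    rw [← e, show a * c * a⁻¹ * (a * c * a⁻¹) = a * (c * c) * a⁻¹ by group, hcc]; group
  have hd1 : d ≠ 1 := fun h => hc1 (by
    calc c = a⁻¹ * (a * c * a⁻¹) * a := by group
      _ = 1 := by rw [e, h]; group)
  rcases invol_pSub E.card hd hdd hd1 with rfl | ⟨k, hk⟩ | ⟨k, hk⟩
  · refine absurd ?_ hne
    rw [show c = tm by
      calc c = a⁻¹ * (a * c * a⁻¹) * a := by group
        _ = a⁻¹ * (tm * a) := by rw [e, mul_assoc]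
        _ = tm := by rw [(tm_center E.card a).eq, inv_mul_cancel_left]]
  · have hc' : c = a⁻¹ * k * am * (a⁻¹ * k)⁻¹ := by
      calc c = a⁻¹ * (a * c * a⁻¹) * a := by group
        _ = a⁻¹ * (d * k * k⁻¹) * a := by rw [e, mul_inv_cancel_right]
        _ = _ := by rw [hk]; group
    have hm := (tm_center E.card (a⁻¹ * k)).eq
    rw [hc', show tm * (a⁻¹ * k * am * (a⁻¹ * k)⁻¹) = a⁻¹ * k * (tm * am) * (a⁻¹ * k)⁻¹ by
      rw [← mul_assoc, ← mul_assoc, hm]; group, Subgroup.coe_mul, Subgroup.coe_mul,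
      Subgroup.coe_inv, fixC_conj, fixC_tm_am]
  · refine absurd ?_ fixC_sm
    have hs : sm = k⁻¹ * (a * c * a⁻¹) * k⁻¹⁻¹ := by
      rw [e, inv_inv, mul_assoc, hk, inv_mul_cancel_left]
    rw [hs]
    simp only [Subgroup.coe_mul, Subgroup.coe_inv]
    rw [fixC_conj, fixC_conj, hy36]

/-- The second class contains no square. -/
theorem not_square (z : G3m) : z * z ≠ cmInc sm := by
  intro hz
  have : Fact (Nat.Prime 2) := ⟨Nat.prime_two⟩
  have hss : cmInc sm * cmInc sm = 1 := by rw [← map_mul, top_sm_sq E.card, map_one]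
  have hs1 : cmInc sm ≠ 1 := fun h => top_sm_ne_one (cmInc_inj (h.trans cmInc.map_one.symm))
  have h4 : orderOf z = 2 ^ 2 :=
    orderOf_eq_prime_pow (p := 2) (n := 1) (by rw [pow_one, pow_two, hz]; exact hs1)
      (by rw [show (2 : ℕ) ^ (1 + 1) = 2 * 2 from rfl, pow_mul, pow_two, pow_two, hz, hss])
  obtain ⟨g, hg⟩ := E.conj_P _ (isPGroup_zpowers h4)
  obtain ⟨d, hd, e⟩ := hg z (Subgroup.mem_zpowers z)
  have hdd : cmInc (d * d) = g * cmInc sm * g⁻¹ := by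
    rw [map_mul, ← e, ← hz]; group
  have hfix : fixC ((d * d : Cm) : Equiv.Perm (Fin 276)) ≠ 36 := by
    rw [← cmInc_val (d * d), hdd, Subgroup.coe_mul, Subgroup.coe_mul, Subgroup.coe_inv, fixC_conj,
      cmInc_val]
    exact fixC_sm
  have h1 : d * d ≠ 1 := fun h => hs1 (by
    rw [h, map_one] at hdd
    calc cmInc sm = g⁻¹ * (g * cmInc sm * g⁻¹) * g := by group
      _ = 1 := by rw [← hdd]; group)
  rcases square_pSub E.card hd (cmInc_inj (by
    rw [map_mul (f := cmInc) (d * d) (d * d), map_one, hdd,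
      show g * cmInc sm * g⁻¹ * (g * cmInc sm * g⁻¹) = g * (cmInc sm * cmInc sm) * g⁻¹ by group, hss]
    group)) h1 with h | ⟨c, hc⟩
  · exact hfix (by rw [h, fixC_tm])
  · refine hfix ?_
    rw [show d * d = c * am * c⁻¹ by rw [← hc, mul_inv_cancel_right], Subgroup.coe_mul,
      Subgroup.coe_mul, Subgroup.coe_inv, fixC_conj, fixC_am]

end Emb

end CfsgLib.Recog.Co3Inv
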