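import Cfsg.Agent.Lib.Recog.Co3Inv.TopPairs

/-!
The model seen from the double cover: the numbers of fixed points, the Sylow subgroups of any group
containing the double cover as an involution centralizer, and the two classes of involutions.
-/

set_option autoImplicit false
set_option maxRecDepth 100000

namespace CfsgLib.Recog.Co3Inv

open CfsgLib.InvChar.Coset
open Subgroup
open scoped Pointwise

/-- The centralizer in the model. -/
def cmInc : Cm →* G3m := Subgroup.inclusion cm_le

theorem cmInc_val (c : Cm) : ((cmInc c : G3m) : Equiv.Perm (Fin 276)) = c := rfl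

theorem cmInc_inj : Function.Injective cmInc := Subgroup.inclusion_injective _

/-- The number of fixed points. -/
def fixC (σ : Equiv.Perm (Fin 276)) : ℕ := (Finset.univ.filter fun i => σ i = i).card

theorem fixC_conj (g σ : Equiv.Perm (Fin 276)) : fixC (g * σ * g⁻¹) = fixC σ :=
  (Finset.card_equiv g fun i => by
    show _ ↔ g i ∈ _
    rw [Finset.mem_filter, Finset.mem_filter]
    simp [Equiv.Perm.mul_apply]).symm

theorem fixC_one : fixC 1 = 276 := by simp [fixC]

theorem fixC_aEl {w : List ℕ} (hw : okW w = true) :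
    fixC ((aEl w : Cm) : Equiv.Perm (Fin 276)) = top_fixN w := by
  unfold top_fixN fixC
  rw [← List.map_coe_finRange_eq_range, List.filter_map, List.length_map]
  show ((List.finRange 276).filter _).length = _
  congr 1
  refine List.filter_congr fun i _ => ?_
  rw [Bool.eq_iff_iff, decide_eq_true_iff]
  simp only [Function.comp_apply]
  rw [Fin.ext_iff, evA_spec hw]
  exact ⟨fun e => by rw [e]; exact Nat.beq_refl _, Nat.eq_of_beq_eq_true⟩

theorem ok_named : okW [iT] = true ∧ okW [iA] = true ∧ okW [iS] = true := by decide +kernel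

theorem fixC_tm : fixC (tm : Equiv.Perm (Fin 276)) = 36 := by
  rw [← aEl_iT, fixC_aEl ok_named.1]
  exact Nat.eq_of_beq_eq_true type_check.2.1

theorem fixC_am : fixC (am : Equiv.Perm (Fin 276)) = 36 := by
  rw [← aEl_iA, fixC_aEl ok_named.2.1]
  exact Nat.eq_of_beq_eq_true type_check.2.2.2

theorem fixC_sm : fixC (sm : Equiv.Perm (Fin 276)) ≠ 36 := by
  rw [← aEl_iS, fixC_aEl ok_named.2.2]
  intro e
  have h := type_check.2.2.1
  rw [e, Nat.beq_refl] at h
  cases h

theorem fixC_tm_am : fixC ((tm * am : Cm) : Equiv.Perm (Fin 276)) = 36 := by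
  rw [← aEl_iT, ← aEl_iA, ← aEl_append, fixC_aEl (okW_append ok_named.1 ok_named.2.1)]
  exact Nat.eq_of_beq_eq_true product_check.2.2.2.2.2.2.2.1

theorem atom_inC {w : List ℕ} (hw : okW w = true) : ∀ x ∈ flatA w, x ∈ cLetters := by
  intro x hx
  obtain ⟨k, hk, hxk⟩ := List.mem_flatMap.1 hx
  have hk' : k < atomT.length := Nat.le_of_ble_eq_true (List.all_eq_true.1 hw k hk)
  have h := atom_check
  simp only [List.all_eq_true, Bool.and_eq_true] at h
  have hm : atomT.getD k (0, []) ∈ atomT := by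
    rw [List.getD_eq_getElem _ _ hk']; exact List.getElem_mem _
  exact inC_spec (h _ hm).1.1 x hxk

theorem aEl_val {w : List ℕ} (hw : okW w = true) :
    ((aEl w : Cm) : Equiv.Perm (Fin 276)) = wprod gp (flatA w) :=
  el_val (atom_inC hw)

theorem gp_mem_g3m {x : ℕ} (hx : x < 10) : gp x ∈ G3m := Subgroup.subset_closure ⟨x, hx, rfl⟩

/-- The involutions of the centralizer of the class of the first one are conjugate to it. -/
theorem am_conj : ∃ g : G3m, g * cmInc tm * g⁻¹ = cmInc am := by
  refine ⟨⟨gp 7, gp_mem_g3m (by norm_num)⟩, Subtype.ext ?_⟩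
  have h := eqP_sound product_check.2.2.2.2.2.2.2.2
  simp only [wprod_append] at h
  rw [← aEl_val ok_named.1, ← aEl_val ok_named.2.1, aEl_iT, aEl_iA] at h
  have h7 : wprod gp [7] = gp 7 := by simp [wprod]
  rw [h7] at h
  simp only [Subgroup.coe_mul, Subgroup.coe_inv, cmInc_val]
  rw [inv_eq_of_mul_eq_one_right (gp_sq 7), h]

theorem atom_comm_check : ((List.range atomT.length).all fun k =>
    agree ([k] ++ [iT]) ([iT] ++ [k])) = true := by
  decide +kernel

theorem top_tm_ne_one : tm ≠ 1 := by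
  rw [← aEl_iT]
  exact differ_sound product_check.2.2.2.2.2.2.1

theorem top_sm_ne_one : sm ≠ 1 := by
  rw [← aEl_iS]
  exact differ_sound product_check.2.2.2.2.2.1

section hc

variable (hcard : Nat.card Cm = 2903040)
include hcard

theorem top_sm_sq : sm * sm = 1 := by
  rw [← aEl_iS, ← aEl_append, agree_sound hcard product_check.2.1, aEl_nil]

theorem top_am_sq : am * am = 1 := by
  rw [← aEl_iA, ← aEl_append, agree_sound hcard product_check.1, aEl_nil]

theorem tm_sm : Commute tm sm := by
  rw [← aEl_iS, ← aEl_iT, Commute, SemiconjBy, ← aEl_append, ← aEl_append,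
    agree_sound hcard product_check.2.2.1]

/-- The first involution is central. -/
theorem tm_center (g : Cm) : Commute tm g := by
  obtain ⟨w, hw, rfl⟩ := exists_choice hcard g
  have hok := (choice_facts lev_check.1 hw).1
  clear hw
  induction w with
  | nil => rw [aEl_nil]; exact Commute.one_right _
  | cons k w ih =>
    simp only [okW, List.all_cons, Bool.and_eq_true, Nat.blt_eq] at hok
    rw [show aEl (k :: w) = aEl [k] * aEl w from aEl_append [k] w]
    refine Commute.mul_right ?_ (ih hok.2)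
    have h := agree_sound hcard (List.all_eq_true.1 atom_comm_check k (List.mem_range.2 hok.1))
    rw [aEl_append, aEl_append, aEl_iT] at h
    exact h.symm

theorem top_tm_sq : tm * tm = 1 := by
  obtain ⟨g, hg⟩ := am_conj
  refine cmInc_inj ?_
  have h := congrArg cmInc (top_am_sq hcard)
  rw [map_mul, map_one, ← hg] at h
  rw [map_mul, map_one]
  calc cmInc tm * cmInc tm = g⁻¹ * (g * cmInc tm * g⁻¹ * (g * cmInc tm * g⁻¹)) * g := by group
    _ = 1 := by rw [h]; group

/-- Every `2`-subgroup of a group with the double cover as an involution centralizer is conjugate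
into the Sylow subgroup. -/
theorem sylow_conj {H : Type*} [Group H] [Finite H] (ψ : Cm →* H) (hψ : Function.Injective ψ)
    (hcent : ∀ x, Commute x (ψ tm) → ∃ c, ψ c = x) (Q : Subgroup H) (hQ : IsPGroup 2 Q) :
    ∃ g : H, ∀ q ∈ Q, ∃ c ∈ pSub 10, g * q * g⁻¹ = ψ c := by
  have : Fact (Nat.Prime 2) := ⟨Nat.prime_two⟩
  set P := (pSub 10).map ψ with hP
  have hP2 : IsPGroup 2 P :=
    IsPGroup.of_card (n := 10) ((Subgroup.card_map_of_injective hψ).trans (card_pSub hcard))
  obtain ⟨S, hPS⟩ := hP2.exists_le_sylow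
  have hSP : (S : Subgroup H) = P := by
    by_contra hne
    have hlt : P.subgroupOf S < ⊤ := lt_top_iff_ne_top.2 fun e =>
      hne (le_antisymm (fun x hx => by
        have : (⟨x, hx⟩ : S) ∈ P.subgroupOf S := by rw [e]; trivial
        exact this) hPS)
    have := IsPGroup.isNilpotent S.isPGroup'
    obtain ⟨g, hgn, hgP⟩ := SetLike.exists_of_lt (Group.normalizerCondition_of_isNilpotent _ hlt)
    rw [Subgroup.mem_normalizer_iff] at hgn
    have hconj : ∀ h ∈ P, (g : H) * h * (g : H)⁻¹ ∈ P ∧ (g : H)⁻¹ * h * g ∈ P := by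
      intro h hh
      refine ⟨((hgn ⟨h, hPS hh⟩).1 hh : _), ?_⟩
      refine (hgn (g⁻¹ * ⟨h, hPS hh⟩ * g)).2 ?_
      rw [show g * (g⁻¹ * (⟨h, hPS hh⟩ : S) * g) * g⁻¹ = ⟨h, hPS hh⟩ by group]
      exact hh
    have htP : ψ tm ∈ P := Subgroup.mem_map_of_mem _ (tm_mem_pSub hcard)
    obtain ⟨d, hd, hdt⟩ := (hconj _ htP).1
    have hdc : ∀ h ∈ pSub 10, d * h = h * d := by
      intro h hh
      obtain ⟨h', hh', e⟩ := (hconj _ (Subgroup.mem_map_of_mem ψ hh)).2
      refine hψ ?_
      have hc := congrArg ψ (top_tm_central hcard hh').eq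
      rw [map_mul, map_mul, e] at hc
      rw [map_mul, map_mul, hdt]
      calc (g : H) * ψ tm * (g : H)⁻¹ * ψ h = g * (ψ tm * ((g : H)⁻¹ * ψ h * g)) * (g : H)⁻¹ := by group
        _ = g * ((g : H)⁻¹ * ψ h * g * ψ tm) * (g : H)⁻¹ := by rw [hc]
        _ = ψ h * (g * ψ tm * (g : H)⁻¹) := by group
    have hdtm : d = tm := eq_tm_of_central hcard hd hdc fun e => top_tm_ne_one (hψ (by
      rw [e, map_one] at hdt
      rw [map_one]
      calc ψ tm = (g : H)⁻¹ * (g * ψ tm * (g : H)⁻¹) * g := by group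
        _ = 1 := by rw [← hdt]; group))
    rw [hdtm] at hdt
    obtain ⟨c, hc⟩ := hcent g (by
      show (g : H) * ψ tm = ψ tm * g
      calc (g : H) * ψ tm = (g * ψ tm * (g : H)⁻¹) * g := by group
        _ = ψ tm * g := by rw [← hdt])
    have hle : pSub 10 ≤ (S : Subgroup H).comap ψ := fun x hx =>
      hPS (Subgroup.mem_map_of_mem ψ hx)
    obtain ⟨n, hn⟩ := IsPGroup.iff_card.1 (S.isPGroup'.comap_of_injective ψ hψ)
    have hn10 : 10 < n := by
      by_contra hcon
      have heq : pSub 10 = (S : Subgroup H).comap ψ := Subgroup.eq_of_le_of_card_ge hle (by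
        rw [hn, card_pSub hcard]
        exact Nat.pow_le_pow_right (by norm_num) (not_lt.1 hcon))
      refine hgP ?_
      show (g : H) ∈ P
      rw [← hc]
      refine Subgroup.mem_map_of_mem ψ ?_
      rw [heq, Subgroup.mem_comap, hc]
      exact g.2
    have hdvd : 2 ^ 11 ∣ 2903040 :=
      (Nat.pow_dvd_pow 2 hn10).trans (hn ▸ hcard ▸ Subgroup.card_subgroup_dvd_card _)
    exact absurd hdvd (by norm_num)
  obtain ⟨T, hQT⟩ := hQ.exists_le_sylow
  obtain ⟨g, hg⟩ := MulAction.exists_smul_eq H T S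
  refine ⟨g, fun q hq => ?_⟩
  have hmem : g * q * g⁻¹ ∈ MulAut.conj g • (T : Subgroup H) :=
    Subgroup.smul_mem_pointwise_smul q (MulAut.conj g) _ (hQT hq)
  rw [← Sylow.coe_subgroup_smul, hg, hSP] at hmem
  obtain ⟨c, hc, e⟩ := hmem
  exact ⟨c, hc, e.symm⟩

omit hcard in
/-- The centralizer of the first involution in the model, under an embedding. -/
theorem cent_model {G : Type*} [Group G] (A : Amb G) {ρ : G3m →* G} (hρ : Function.Injective ρ)
    (hρc : ∀ c : Cm, ρ (cmInc c) = A.φ c) (x : G3m) (hx : Commute x (cmInc tm)) :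
    ∃ c, cmInc c = x := by
  obtain ⟨c, hc⟩ := A.cent (ρ x) (by
    rw [← A.t_eq, ← hρc, ← map_mul, ← map_mul, hx.eq])
  exact ⟨c, hρ (by rw [hρc, hc])⟩

end hc

end CfsgLib.Recog.Co3Inv
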