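import Cfsg.Agent.Lib.Recog.Co3Inv.TopCent

/-!
The involutions of the centralizer of the involution of the other class up to conjugation, and the
four-groups of that class with their centralizers.
-/

set_option autoImplicit false
set_option maxRecDepth 100000

namespace CfsgLib.Recog.Co3Inv

open CfsgLib.InvChar.Coset
open CfsgLib.Recog.McLInv (ltW ltW_spec)

/-- The row of a four-group. -/
def rowP (j : ℕ) : List ℕ × List ℕ × List ℕ × (ℕ × ℕ) × List ℕ × List ℕ × List ℕ :=
  pairT.getD j ([], [], [], (0, 0), [], [], [])

/-- The second involution of a four-group. -/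
def zW (j : ℕ) : List ℕ := (rowP j).1

/-- The rotation. -/
def aWd (j : ℕ) : List ℕ := (rowP j).2.1

/-- The reflection. -/
def bWd (j : ℕ) : List ℕ := (rowP j).2.2.1

/-- A product of a power of the rotation and of the reflection. -/
def dW (j i e : ℕ) : List ℕ :=
  (List.replicate i (aWd j)).flatten ++ (List.replicate e (bWd j)).flatten

/-- The elements of a four-group. -/
def vW (j v : ℕ) : List ℕ := [[], [iS], zW j, [iS] ++ zW j].getD v []

/-- One of the products is the given one. -/
noncomputable def inV (j : ℕ) (w : List ℕ) : Bool := (List.range 4).any fun v => agree w (vW j v)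

/-- None of the products is the given one. -/
noncomputable def offV (j : ℕ) (w : List ℕ) : Bool := (List.range 4).all fun v => differ w (vW j v)

/-- The number of fixed points of a product of named elements. -/
noncomputable def top_fixN (w : List ℕ) : ℕ :=
  ((List.range 276).filter fun i => Nat.beq (evA w i) i).length

theorem kind_check : ((List.range cList.length).all fun i =>
    differ (cList.getD i [] ++ cList.getD i []) [] || agree (cList.getD i []) [] ||
    agree (cList.getD i []) [iS] || zT.any fun r => Nat.beq r.1 i && okW r.2.2 &&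
      match r.2.1 with
      | 0 => agree (cList.getD i []) [iT]
      | 1 => agree (cList.getD i [] ++ r.2.2) (r.2.2 ++ [iA])
      | 2 => agree (cList.getD i [] ++ [iS]) [iT]
      | 3 => agree (cList.getD i [] ++ [iS] ++ r.2.2) (r.2.2 ++ [iA])
      | k + 4 => Nat.blt k 2 && agree (r.2.2 ++ [iS]) ([iS] ++ r.2.2) &&
          agree (cList.getD i [] ++ r.2.2) (r.2.2 ++ zW k)) = true := by
  decide +kernel

theorem quotient_check : ((List.range 2).all fun j =>
    okW (zW j) && okW (aWd j) && okW (bWd j) &&
    agree (zW j ++ zW j) [] && agree (zW j ++ [iS]) ([iS] ++ zW j) && offV j [iT] &&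
    agree (aWd j ++ [iS]) ([iS] ++ aWd j) && agree (bWd j ++ [iS]) ([iS] ++ bWd j) &&
    agree (aWd j ++ zW j) (zW j ++ aWd j) && agree (bWd j ++ zW j) (zW j ++ bWd j) &&
    inV j (dW j 4 0) && inV j (dW j 0 2) && inV j (dW j 1 1 ++ dW j 1 1) &&
    ((List.range 4).all fun i => (List.range 2).all fun e =>
      (Nat.beq i 0 && Nat.beq e 0) || offV j (dW j i e)) &&
    (cList.all fun w => differ (w ++ zW j) (zW j ++ w) || (List.range 4).any fun i =>
      (List.range 2).any fun e => (List.range 4).any fun v => agree w (dW j i e ++ vW j v))) = true := by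
  decide +kernel

theorem type_check : ((List.range 2).all fun j =>
    !Nat.beq (top_fixN (zW j)) 36 && !Nat.beq (top_fixN (zW j ++ [iS])) 36 &&
    let u := dW j (rowP j).2.2.2.1.1 (rowP j).2.2.2.1.2
    inV j (u ++ u) && offV j u && (List.range 4).all fun v =>
      differ (u ++ vW j v ++ (u ++ vW j v)) [] || !Nat.beq (top_fixN (u ++ vW j v)) 36) = true ∧
    Nat.beq (top_fixN [iT]) 36 = true ∧ Nat.beq (top_fixN [iS]) 36 = false ∧
    Nat.beq (top_fixN [iA]) 36 = true := by
  decide +kernel

/-- The word in the letters of a product of named elements. -/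
def flatA (w : List ℕ) : List ℕ := w.flatMap atW

/-- A word commutes with a four-group. -/
noncomputable def commV (j : ℕ) (w : List ℕ) : Bool :=
  w.all (fun x => Nat.blt x 10) && eqP (w ++ flatA [iS]) (flatA [iS] ++ w) &&
    eqP (w ++ flatA (zW j)) (flatA (zW j) ++ w)

theorem word_check_pair : ((List.range 2).all fun j =>
    let five := (rowP j).2.2.2.2.1
    let three := (rowP j).2.2.2.2.2.1
    let f := (rowP j).2.2.2.2.2.2
    let x := f ++ flatA [iT] ++ f.reverse ++ flatA [iT]
    commV j five && commV j three && commV j f &&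
    eqP (five ++ five ++ five ++ five ++ five) [] && neP five [] &&
    eqP (three ++ three ++ three) [] && neP three [] &&
    eqP (x ++ x) [] && (List.range 4).all fun v => neP x (flatA (vW j v))) = true := by
  decide +kernel

theorem product_check : agree ([iA] ++ [iA]) [] = true ∧ agree ([iS] ++ [iS]) [] = true ∧
    agree ([iT] ++ [iS]) ([iS] ++ [iT]) = true ∧ differ [iA] [iT] = true ∧ differ [iS] [iT] = true ∧
    differ [iS] [] = true ∧ differ [iT] [] = true ∧
    Nat.beq (top_fixN ([iT] ++ [iA])) 36 = true ∧ eqP ([7] ++ flatA [iT] ++ [7]) (flatA [iA]) = true := by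
  decide +kernel

end CfsgLib.Recog.Co3Inv
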