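import Cfsg.Agent.Lib.Recog.Co3Inv.TopBase

/-!
A Sylow `2`-subgroup of the centralizer: its order, its centre, its involutions and its squares.
-/

set_option autoImplicit false
set_option maxRecDepth 100000

namespace CfsgLib.Recog.Co3Inv

open Subgroup

/-- The number of the first involution in `atomT`. -/
def iT : ℕ := 8

/-- The number of the second involution in `atomT`. -/
def iA : ℕ := 9

/-- The number of the involution of the other class in `atomT`. -/
def iS : ℕ := 10

theorem aEl_iT : aEl [iT] = tm := by rw [aEl_single]; rfl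

theorem aEl_iA : aEl [iA] = am := by rw [aEl_single]; rfl

theorem aEl_iS : aEl [iS] = sm := by rw [aEl_single]; rfl

/-- The product of the series elements of a mask. -/
def top_pW (m : ℕ) : List ℕ := ((List.range 10).filter fun j => m.testBit j).map fun j => pcA.getD j 0

/-- An element of the series. -/
def px (k : ℕ) : List ℕ := [pcA.getD k 0]

theorem pW_split : ((List.range 10).all fun k => (List.range (2 ^ k)).all fun m =>
    top_pW (2 ^ k + m) == top_pW m ++ px k) = true := by
  decide +kernel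

theorem series_check : ((List.range 10).all fun k =>
    ((List.range k).all fun j => Nat.blt ((closeT.getD k []).getD j 0) (2 ^ k) &&
      agree (px k ++ px j) (top_pW ((closeT.getD k []).getD j 0) ++ px k)) &&
    Nat.blt ((closeT.getD k []).getD k 0) (2 ^ k) &&
      agree (px k ++ px k) (top_pW ((closeT.getD k []).getD k 0)) &&
    (List.range (2 ^ k)).all fun m => differ (top_pW m) (px k)) = true := by
  decide +kernel

theorem centre_check : ((List.range 1024).all fun m => Nat.blt m 2 ||
    (List.range 10).any fun k => differ (top_pW m ++ px k) (px k ++ top_pW m)) = true ∧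
    ((List.range 10).all fun k => agree ([iT] ++ px k) (px k ++ [iT])) = true ∧
    agree (top_pW 1) [iT] = true := by
  decide +kernel

theorem invol_check : ((List.range 1024).all fun m =>
    differ (top_pW m ++ top_pW m) [] || Nat.blt m 2 ||
    invT.any fun e => Nat.beq e.1 m &&
      agree (top_pW m ++ e.2.2) (e.2.2 ++ [bif Nat.beq e.2.1 0 then iA else iS])) = true := by
  decide +kernel

theorem square_check : ((List.range 1024).all fun m =>
    agree (top_pW m ++ top_pW m) [] || differ (top_pW m ++ top_pW m ++ (top_pW m ++ top_pW m)) [] ||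
    sqT.any fun q => agree (top_pW m ++ top_pW m) (top_pW q)) = true ∧
    (sqT.all fun q => Nat.beq q 1 || invT.any fun e => Nat.beq e.1 q && Nat.beq e.2.1 0 &&
      agree (top_pW q ++ e.2.2) (e.2.2 ++ [iA])) = true := by
  decide +kernel

/-- The subgroup of the first elements of the series. -/
noncomputable def pSub (k : ℕ) : Subgroup Cm := closure ((fun j => aEl (px j)) '' Set.Iio k)

theorem pSub_succ (k : ℕ) : pSub (k + 1) = pSub k ⊔ zpowers (aEl (px k)) := by
  rw [pSub, pSub, zpowers_eq_closure, ← Subgroup.closure_union]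
  congr 1
  ext x
  simp only [Set.mem_image, Set.mem_Iio, Set.union_singleton, Set.mem_insert_iff]
  constructor
  · rintro ⟨j, hj, rfl⟩
    rcases Nat.lt_succ_iff_lt_or_eq.1 hj with h | rfl
    · exact Or.inr ⟨j, h, rfl⟩
    · exact Or.inl rfl
  · rintro (rfl | ⟨j, hj, rfl⟩)
    · exact ⟨k, Nat.lt_succ_self k, rfl⟩
    · exact ⟨j, Nat.lt_succ_of_lt hj, rfl⟩

variable (hcard : Nat.card Cm = 2903040)
include hcard

theorem pSub_spec : ∀ {k : ℕ}, k ≤ 10 →
    (∀ g, g ∈ pSub k ↔ ∃ m < 2 ^ k, g = aEl (top_pW m)) ∧ Nat.card (pSub k) = 2 ^ k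
  | 0, _ => by
    have h0 : pSub 0 = ⊥ := by
      rw [pSub, show Set.Iio 0 = (∅ : Set ℕ) by ext; simp, Set.image_empty, Subgroup.closure_empty]
    have hw : top_pW 0 = [] := by decide +kernel
    refine ⟨fun g => ?_, by rw [h0, card_bot]; rfl⟩
    rw [h0, mem_bot]
    refine ⟨fun e => ⟨0, by norm_num, by rw [hw, aEl_nil, e]⟩, ?_⟩
    rintro ⟨m, hm, rfl⟩
    obtain rfl : m = 0 := by simpa using hm
    rw [hw, aEl_nil]
  | k + 1, hk1 => by
    have hk : k < 10 := hk1
    obtain ⟨hel, hc⟩ := pSub_spec (k := k) (Nat.le_of_lt hk)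
    have hs := series_check
    simp only [List.all_eq_true, List.mem_range, Bool.and_eq_true, Nat.blt_eq] at hs
    obtain ⟨⟨⟨hcl, hq1⟩, hq2⟩, hnew⟩ := hs k hk
    have hsp := pW_split
    simp only [List.all_eq_true, List.mem_range, beq_iff_eq] at hsp
    set x := aEl (px k) with hx
    have hgen : ∀ j < k, x * aEl (px j) * x⁻¹ ∈ pSub k := fun j hj => by
      have e := agree_sound hcard (hcl j hj).2
      rw [aEl_append, aEl_append] at e
      exact (hel _).2 ⟨_, (hcl j hj).1, by rw [e, mul_inv_cancel_right]⟩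
    have hnorm : x ∈ normalizer (pSub k : Set Cm) := by
      have hle : (pSub k).map (MulAut.conj x).toMonoidHom ≤ pSub k := by
        rw [Subgroup.map_le_iff_le_comap]
        refine (closure_le _).2 ?_
        rintro _ ⟨j, hj, rfl⟩
        exact hgen j hj
      have heq := Subgroup.eq_of_le_of_card_ge hle
        (le_of_eq (Subgroup.card_map_of_injective (MulEquiv.injective _)).symm)
      rw [Subgroup.mem_normalizer_iff]
      intro h
      refine ⟨fun hh => hle ⟨h, hh, rfl⟩, fun hh => ?_⟩
      rw [← heq] at hh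
      obtain ⟨h', hh', e⟩ := hh
      rwa [← (MulAut.conj x).injective e]
    have hxx : x * x ∈ pSub k := (hel _).2 ⟨_, hq1, by rw [hx, ← aEl_append, agree_sound hcard hq2]⟩
    have hxn : x ∉ pSub k := fun h => by
      obtain ⟨m, hm, e⟩ := (hel _).1 h
      exact differ_sound (hnew m hm) e.symm
    have hmem : ∀ g, g ∈ pSub (k + 1) ↔ ∃ m < 2 ^ (k + 1), g = aEl (top_pW m) := by
      intro g
      constructor
      · intro hg
        rw [pSub_succ] at hg
        have hg' : g ∈ ((pSub k ⊔ zpowers x : Subgroup Cm) : Set Cm) := hg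
        rw [coe_mul_of_right_le_normalizer_left (pSub k) (zpowers x) (zpowers_le.2 hnorm)] at hg'
        obtain ⟨h, hh, y, hy, rfl⟩ := hg'
        obtain ⟨n, rfl⟩ := mem_zpowers_iff.1 hy
        obtain ⟨j, rfl | rfl⟩ := Int.even_or_odd' n
        · obtain ⟨m, hm, e⟩ := (hel _).1 (mul_mem hh
            (show x ^ (2 * j) ∈ pSub k by rw [zpow_mul, zpow_two]; exact zpow_mem hxx j))
          exact ⟨m, hm.trans (Nat.pow_lt_pow_right one_lt_two k.lt_succ_self), e⟩
        · obtain ⟨m, hm, e⟩ := (hel _).1 (mul_mem hh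
            (show x ^ (2 * j) ∈ pSub k by rw [zpow_mul, zpow_two]; exact zpow_mem hxx j))
          refine ⟨2 ^ k + m, by rw [pow_succ]; omega, ?_⟩
          rw [hsp k hk m hm, aEl_append, ← e, zpow_add, zpow_one, mul_assoc]
      · rintro ⟨m, hm, rfl⟩
        rw [pSub_succ]
        rcases Nat.lt_or_ge m (2 ^ k) with h | h
        · exact mem_sup_left ((hel _).2 ⟨m, h, rfl⟩)
        · obtain ⟨m', rfl⟩ : ∃ m', m = 2 ^ k + m' := ⟨m - 2 ^ k, by omega⟩
          have hm' : m' < 2 ^ k := by rw [pow_succ] at hm; omega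
          rw [hsp k hk m' hm', aEl_append]
          exact mul_mem_sup ((hel _).2 ⟨m', hm', rfl⟩) (mem_zpowers x)
    refine ⟨hmem, ?_⟩
    have hinj : Set.InjOn (fun m => aEl (top_pW m)) (Set.Iio (2 ^ (k + 1))) := by
      have hlow : Set.InjOn (fun m => aEl (top_pW m)) (Set.Iio (2 ^ k)) := by
        refine (Set.ncard_image_iff (Set.finite_Iio _)).1 ?_
        rw [show (fun m => aEl (top_pW m)) '' Set.Iio (2 ^ k) = (pSub k : Set Cm) from Set.ext fun g =>
          ⟨fun ⟨m, hm, e⟩ => (hel g).2 ⟨m, hm, e.symm⟩, fun hg =>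
            let ⟨m, hm, e⟩ := (hel g).1 hg; ⟨m, hm, e.symm⟩⟩, ← Nat.card_coe_set_eq]
        show Nat.card (pSub k) = _
        rw [hc]
        simp [Set.ncard_eq_toFinset_card']
      intro m hm n hn e
      simp only [Set.mem_Iio, pow_succ] at hm hn
      simp only at e
      have hsplit : ∀ {m}, m < 2 ^ k * 2 → ¬ m < 2 ^ k →
          ∃ m' < 2 ^ k, m = 2 ^ k + m' ∧ aEl (top_pW m) = aEl (top_pW m') * x := fun {m} hm h =>
        ⟨m - 2 ^ k, by omega, by omega, by
          rw [hx, ← aEl_append, ← hsp k hk (m - 2 ^ k) (by omega),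
            show 2 ^ k + (m - 2 ^ k) = m by omega]⟩
      by_cases h1 : m < 2 ^ k <;> by_cases h2 : n < 2 ^ k
      · exact hlow h1 h2 e
      · obtain ⟨n', hn', -, e2⟩ := hsplit hn h2
        refine absurd ?_ hxn
        rw [show x = (aEl (top_pW n'))⁻¹ * aEl (top_pW m) by rw [e, e2, inv_mul_cancel_left]]
        exact mul_mem (inv_mem ((hel _).2 ⟨n', hn', rfl⟩)) ((hel _).2 ⟨m, h1, rfl⟩)
      · obtain ⟨m', hm', -, e1⟩ := hsplit hm h1
        refine absurd ?_ hxn
        rw [show x = (aEl (top_pW m'))⁻¹ * aEl (top_pW n) by rw [← e, e1, inv_mul_cancel_left]]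
        exact mul_mem (inv_mem ((hel _).2 ⟨m', hm', rfl⟩)) ((hel _).2 ⟨n, h2, rfl⟩)
      · obtain ⟨m', hm', r1, e1⟩ := hsplit hm h1
        obtain ⟨n', hn', r2, e2⟩ := hsplit hn h2
        rw [e1, e2] at e
        rw [r1, r2, hlow hm' hn' (mul_right_cancel e)]
    have := hinj.ncard_image
    rw [show (fun m => aEl (top_pW m)) '' Set.Iio (2 ^ (k + 1)) = (pSub (k + 1) : Set Cm) from
      Set.ext fun g => ⟨fun ⟨m, hm, e⟩ => (hmem g).2 ⟨m, hm, e.symm⟩, fun hg =>
        let ⟨m, hm, e⟩ := (hmem g).1 hg; ⟨m, hm, e.symm⟩⟩, ← Nat.card_coe_set_eq] at this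
    show Nat.card (pSub (k + 1)) = _
    refine this.trans ?_
    simp [Set.ncard_eq_toFinset_card']

theorem mem_pSub {g : Cm} : g ∈ pSub 10 ↔ ∃ m < 1024, g = aEl (top_pW m) := by
  have := (pSub_spec hcard (le_refl 10)).1 g
  simpa using this

theorem card_pSub : Nat.card (pSub 10) = 2 ^ 10 := (pSub_spec hcard (le_refl 10)).2

theorem tm_mem_pSub : tm ∈ pSub 10 :=
  (mem_pSub hcard).2 ⟨1, by norm_num, by
    rw [agree_sound hcard centre_check.2.2, aEl_iT]⟩

theorem top_tm_central {g : Cm} (hg : g ∈ pSub 10) : Commute tm g := by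
  have h := centre_check.2.1
  simp only [List.all_eq_true, List.mem_range] at h
  have hle : pSub 10 ≤ centralizer ({tm} : Set Cm) := by
    refine (closure_le _).2 ?_
    rintro _ ⟨j, hj, rfl⟩
    have e := agree_sound hcard (h j hj)
    rw [aEl_append, aEl_append, aEl_iT] at e
    exact mem_centralizer_singleton_iff.2 e.symm
  exact (mem_centralizer_singleton_iff.1 (hle hg)).symm

theorem eq_tm_of_central {g : Cm} (hg : g ∈ pSub 10) (hc : ∀ h ∈ pSub 10, g * h = h * g)
    (h1 : g ≠ 1) : g = tm := by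
  obtain ⟨m, hm, rfl⟩ := (mem_pSub hcard).1 hg
  have h := centre_check.1
  simp only [List.all_eq_true, List.mem_range, Bool.or_eq_true, List.any_eq_true, Nat.blt_eq] at h
  rcases h m hm with h2 | ⟨k, hk, hd⟩
  · interval_cases m
    · exact absurd (by rw [show top_pW 0 = [] by decide +kernel, aEl_nil]) h1
    · rw [agree_sound hcard centre_check.2.2, aEl_iT]
  · refine absurd ?_ (differ_sound hd)
    rw [aEl_append, aEl_append]
    exact hc _ (subset_closure ⟨k, hk, rfl⟩)

/-- The involutions of the Sylow subgroup. -/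
theorem invol_pSub {g : Cm} (hg : g ∈ pSub 10) (h2 : g * g = 1) (h1 : g ≠ 1) :
    g = tm ∨ (∃ c : Cm, g * c = c * am) ∨ ∃ c : Cm, g * c = c * sm := by
  obtain ⟨m, hm, rfl⟩ := (mem_pSub hcard).1 hg
  have h := invol_check
  simp only [List.all_eq_true, List.mem_range, Bool.or_eq_true, List.any_eq_true,
    Bool.and_eq_true, Nat.blt_eq] at h
  rcases h m hm with (hd | hlt) | ⟨e, -, he, ha⟩
  · exact absurd (by rw [aEl_append, h2, aEl_nil]) (differ_sound hd)
  · interval_cases m
    · exact absurd (by rw [show top_pW 0 = [] by decide +kernel, aEl_nil]) h1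
    · exact Or.inl (by rw [agree_sound hcard centre_check.2.2, aEl_iT])
  · right
    have e' := agree_sound hcard ha
    rw [aEl_append, aEl_append] at e'
    cases hb : Nat.beq e.2.1 0
    · rw [hb] at e'
      exact Or.inr ⟨aEl e.2.2, by rw [e']; exact congrArg _ aEl_iS⟩
    · rw [hb] at e'
      exact Or.inl ⟨aEl e.2.2, by rw [e']; exact congrArg _ aEl_iA⟩

/-- The involutions which are squares. -/
theorem square_pSub {g : Cm} (hg : g ∈ pSub 10) (h4 : g * g * (g * g) = 1) (h2 : g * g ≠ 1) :
    g * g = tm ∨ ∃ c : Cm, g * g * c = c * am := by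
  obtain ⟨m, hm, rfl⟩ := (mem_pSub hcard).1 hg
  obtain ⟨h, hT⟩ := square_check
  simp only [List.all_eq_true, List.mem_range, Bool.or_eq_true, List.any_eq_true] at h
  simp only [List.all_eq_true, Bool.or_eq_true, List.any_eq_true, Bool.and_eq_true] at hT
  rcases h m hm with (ha | hd) | ⟨q, hq, ha⟩
  · exact absurd ((aEl_append _ _).symm.trans ((agree_sound hcard ha).trans aEl_nil)) h2
  · exact absurd (by rw [aEl_append, aEl_append, h4, aEl_nil]) (differ_sound hd)
  have e := agree_sound hcard ha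
  rw [aEl_append] at e
  rw [e]
  rcases hT q hq with h1 | ⟨r, -, -, hc⟩
  · rw [Nat.eq_of_beq_eq_true h1]
    exact Or.inl (by rw [agree_sound hcard centre_check.2.2, aEl_iT])
  · have e' := agree_sound hcard hc
    rw [aEl_append, aEl_append, aEl_iA] at e'
    exact Or.inr ⟨_, e'⟩

end CfsgLib.Recog.Co3Inv
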